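import Groth.Agent.ProEtFull.AdicLim

/-!
# Exactness of `lim ε⁻¹` on systems which are adic up to translation
-/

set_option autoImplicit false
set_option linter.style.haveILetI false
set_option backward.isDefEq.respectTransparency false
set_option backward.isDefEq.respectTransparency.types false
set_option maxHeartbeats 1000000
universe u

namespace Groth.Agent.ProEtFull

open CategoryTheory Limits AlgebraicGeometry Opposite

variable {X : Scheme.{u}} {Λ : Type (u + 1)} [CommRing Λ]

theorem surjective_of_epi {F Q : EtModW.ModP Λ X} (p : F ⟶ Q) [Epi p] {U : X.ProEt} (hU : ProEtS.IsWC U) :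
    Function.Surjective (p.hom.app (op U)).hom := by
  haveI : Sheaf.IsLocallySurjective p := (Sheaf.isLocallySurjective_iff_epi' _ p).2 inferInstance
  let φ := (sheafCompose (Scheme.ProEt.topology X) (forget (ModuleCat.{u + 1} Λ))).map p
  haveI : Sheaf.IsLocallySurjective φ :=
    ⟨fun {V} z => GrothendieckTopology.superset_covering _ (fun W f hf => hf)
      (Presheaf.imageSieve_mem (Scheme.ProEt.topology X) p.hom z)⟩
  exact hU _ _ φ ((Sheaf.isLocallySurjective_iff_epi' _ φ).1 inferInstance)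

/-- On a weakly contractible object an exact sequence of sheaves stays exact. -/
theorem exists_app_eq_of_exact {S : ShortComplex (EtModW.ModP Λ X)} (hS : S.Exact) {U : X.ProEt}
    (hU : ProEtS.IsWC U) (x : S.X₂.obj.obj (op U)) (hx : S.g.hom.app (op U) x = 0) :
    ∃ y : S.X₁.obj.obj (op U), S.f.hom.app (op U) y = x := by
  haveI : Epi (kernel.lift S.g S.f S.zero) := hS.epi_kernelLift
  let T : ShortComplex (EtModW.ModP Λ X) := ShortComplex.mk (kernel.ι S.g) S.g (kernel.condition _)
  have hT : (T.map (sheafToPresheaf _ _ ⋙ (evaluation _ _).obj (op U))).Exact :=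
    ShortComplex.exact_of_f_is_kernel _
      (isLimitForkMapOfIsLimit' (sheafToPresheaf _ _ ⋙ (evaluation _ _).obj (op U)) T.zero (kernelIsKernel S.g))
  obtain ⟨z, hz⟩ := (ShortComplex.moduleCat_exact_iff _).1 hT x hx
  obtain ⟨y, hy⟩ := surjective_of_epi (kernel.lift S.g S.f S.zero) hU z
  refine ⟨y, ?_⟩
  rw [← hz]
  show _ = (kernel.ι S.g).hom.app (op U) z
  rw [← hy]
  exact (congrArg (fun m => m.hom.app (op U) y) (kernel.lift_ι S.g S.f S.zero)).symm

variable [ProEtS.EpsCont X]

theorem exact_epsPullMod_app {T : ShortComplex (ARSys.PS (EtModW.Mod Λ X))} (hT : T.Exact) (j : ℕᵒᵖ) :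
    (ShortComplex.mk ((EtModW.epsPullMod Λ X).map (T.f.app j)) ((EtModW.epsPullMod Λ X).map (T.g.app j))
      (by rw [← Functor.map_comp, ← NatTrans.comp_app, T.zero]; exact epsPullMod_map_zero)).Exact := by
  haveI : (EtModW.epsPullMod Λ X).IsLeftAdjoint := (epsAdjMod X Λ).isLeftAdjoint
  haveI : ((ProEtS.eps X).sheafPushforwardContinuous (ModuleCat.{u + 1} Λ)
      X.smallEtaleTopology (Scheme.ProEt.topology X)).Additive := {}
  haveI : (EtModW.epsPullMod Λ X).Additive := (epsAdjMod X Λ).left_adjoint_additive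
  haveI := preservesFiniteLimits_epsPullMod X Λ
  haveI : PreservesFiniteColimits (EtModW.epsPullMod Λ X) :=
    PreservesColimitsOfSize.preservesFiniteColimits.{0, 0} _
  exact (hT.map ((evaluation ℕᵒᵖ (EtModW.Mod Λ X)).obj j)).map (EtModW.epsPullMod Λ X)

theorem surjective_limMap {I : Ideal Λ} {S : ShortComplex (ARSys.PS (EtModW.Mod Λ X))} (hS : S.ShortExact)
    {Y : ARSys.PS (EtModW.Mod Λ X)} (v : Y ⟶ S.X₁) (hY : ARSys.IsAdic I Y) (hv : ARSys.IsARNull (cokernel v))
    {W : X.ProEt} (hW : ProEtS.IsWC W) :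
    Function.Surjective ((limMap (Functor.whiskerRight S.g (EtModW.epsPullMod Λ X))).hom.app (op W)).hom := by
  intro c
  let ε := EtModW.epsPullMod Λ X
  haveI := hS.epi_g
  haveI : ε.IsLeftAdjoint := (epsAdjMod X Λ).isLeftAdjoint
  obtain ⟨r, hr⟩ := hv
  -- transition maps
  let tA := fun {m m' : ℕ} (h : m ≤ m') => ((ε.map (ARSys.tr S.X₁ h)).hom.app (op W)).hom
  let tB := fun {m m' : ℕ} (h : m ≤ m') => ((ε.map (ARSys.tr S.X₂ h)).hom.app (op W)).hom
  let tC := fun {m m' : ℕ} (h : m ≤ m') => ((ε.map (ARSys.tr S.X₃ h)).hom.app (op W)).hom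
  let tY := fun {m m' : ℕ} (h : m ≤ m') => ((ε.map (ARSys.tr Y h)).hom.app (op W)).hom
  let f := fun m : ℕ => ((ε.map (S.f.app (op m))).hom.app (op W)).hom
  let g := fun m : ℕ => ((ε.map (S.g.app (op m))).hom.app (op W)).hom
  let w := fun m : ℕ => ((ε.map (v.app (op m))).hom.app (op W)).hom
  have nat : ∀ {F G : ARSys.PS (EtModW.Mod Λ X)} (φ : F ⟶ G) {m m' : ℕ} (h : m ≤ m')
      (z : (ε.obj (F.obj (op m'))).obj.obj (op W)),
      (ε.map (ARSys.tr G h)).hom.app (op W) ((ε.map (φ.app (op m'))).hom.app (op W) z) =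
        (ε.map (φ.app (op m))).hom.app (op W) ((ε.map (ARSys.tr F h)).hom.app (op W) z) := by
    intro F G φ m m' h z
    have e := congrArg (fun a => (ε.map a).hom.app (op W) z) (φ.naturality (homOfLE h).op)
    simp only [Functor.map_comp] at e
    exact e.symm
  let cs := fun m : ℕ => (limit.π (S.X₃ ⋙ ε) (op m)).hom.app (op W) c
  have hcs : ∀ {m m' : ℕ} (h : m ≤ m'), tC h (cs m') = cs m := fun {m m'} h =>
    congrArg (fun φ => φ.hom.app (op W) c) (limit.w (S.X₃ ⋙ ε) (homOfLE h).op)
  choose b hb using fun m : ℕ => surjective_of_epi (ε.map (S.g.app (op m))) hW (cs m)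
  let b' := fun m : ℕ => tB (Nat.le_add_right m r) (b (m + r))
  have hgb' : ∀ m, g m (b' m) = cs m := fun m => by
    show g m (tB _ _) = _
    rw [← nat S.g, hb, ← hcs (Nat.le_add_right m r)]
  -- the error terms come from the adic system
  have herr : ∀ m, ∃ y, f m (w m y) = tB (Nat.le_succ m) (b' (m + 1)) - b' m := fun m => by
    have hd : g (m + r) (tB (show m + r ≤ m + 1 + r by omega) (b (m + 1 + r)) - b (m + r)) = 0 := by
      rw [map_sub, ← nat S.g, hb, hb, ← hcs (show m + r ≤ m + 1 + r by omega), sub_self]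
    obtain ⟨a, ha⟩ := exists_app_eq_of_exact (exact_epsPullMod_app hS.exact (op (m + r))) hW _ hd
    let T : ShortComplex (ARSys.PS (EtModW.Mod Λ X)) := ShortComplex.mk v (cokernel.π v) (cokernel.condition v)
    have hT : T.Exact := ShortComplex.exact_of_g_is_cokernel _ (cokernelIsCokernel v)
    obtain ⟨y, hy⟩ := exists_app_eq_of_exact (exact_epsPullMod_app hT (op m)) hW (tA (Nat.le_add_right m r) a) (by
      show (ε.map ((cokernel.π v).app (op m))).hom.app (op W) _ = 0
      rw [← nat (cokernel.π v)]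
      have h0 : ε.map (ARSys.tr (cokernel v) (Nat.le_add_right m r)) = 0 :=
        (congrArg ε.map (hr m)).trans epsPullMod_map_zero
      rw [h0]
      rfl)
    refine ⟨y, (congrArg (f m) hy).trans ?_⟩
    show (ε.map (S.f.app (op m))).hom.app (op W) _ = _
    rw [← nat S.f]
    refine (congrArg (tB (Nat.le_add_right m r)) ha).trans ?_
    rw [map_sub]
    show _ - b' m = _
    refine congrArg (· - b' m) ?_
    exact (map_tr_tr (G := S.X₂) _ _ _).trans (map_tr_tr (G := S.X₂) (Nat.le_succ m) _ _).symm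
  choose y hy using herr
  -- telescoping in the adic system
  choose l hl using fun m : ℕ => surjective_tr hY hW (Nat.le_succ m)
  let z : ∀ m : ℕ, (ε.obj (Y.obj (op m))).obj.obj (op W) := fun m =>
    Nat.rec 0 (fun k zk => l k (y k + zk)) m
  have hz : ∀ m, tY (Nat.le_succ m) (z (m + 1)) = y m + z m := fun m => hl m _
  let b'' := fun m : ℕ => b' m - f m (w m (z m))
  have hstep : ∀ m, tB (Nat.le_succ m) (b'' (m + 1)) = b'' m := fun m => by
    show tB _ (b' (m + 1) - f (m + 1) (w (m + 1) (z (m + 1)))) = _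
    rw [map_sub]
    have e : tB (Nat.le_succ m) (f (m + 1) (w (m + 1) (z (m + 1)))) = f m (w m (y m + z m)) := by
      rw [← hz m]
      exact (nat S.f _ _).trans (congrArg (f m) (nat v _ _))
    rw [e, map_add, map_add, hy]
    show _ = b' m - _
    abel
  have hcomp : ∀ {m m' : ℕ} (h : m ≤ m'), tB h (b'' m') = b'' m := by
    intro m m' h
    induction m', h using Nat.le_induction with
    | base =>
      show (ε.map (S.X₂.map _)).hom.app (op W) (b'' m) = b'' m
      rw [show (homOfLE (le_refl m)).op = 𝟙 _ from rfl, CategoryTheory.Functor.map_id,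
        CategoryTheory.Functor.map_id]
      rfl
    | succ j hj ih =>
      refine (map_tr_tr (G := S.X₂) hj (Nat.le_succ j) _).symm.trans ?_
      exact (congrArg (tB hj) (hstep j)).trans ih
  obtain ⟨x, hx⟩ := exists_limEps_section (G := S.X₂) b'' hcomp
  refine ⟨x, limEps_ext (G := S.X₃) fun m => ?_⟩
  have e := congrArg (fun φ => φ.hom.app (op W) x)
    (limMap_π (Functor.whiskerRight S.g ε) (op m))
  refine e.trans ?_
  show g m ((limit.π (S.X₂ ⋙ ε) (op m)).hom.app (op W) x) = cs m
  rw [hx m]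
  show g m (b' m - f m (w m (z m))) = cs m
  rw [map_sub, hgb']
  have h0 : g m (f m (w m (z m))) = 0 :=
    congrArg (fun φ => φ.hom.app (op W) (w m (z m)))
      (show ε.map (S.f.app (op m)) ≫ ε.map (S.g.app (op m)) = 0 by
        rw [← Functor.map_comp, ← NatTrans.comp_app, S.zero]; exact epsPullMod_map_zero)
  rw [h0, sub_zero]

theorem epi_limMap {I : Ideal Λ} {S : ShortComplex (ARSys.PS (EtModW.Mod Λ X))} (hS : S.ShortExact)
    {Y : ARSys.PS (EtModW.Mod Λ X)} (v : Y ⟶ S.X₁) (hY : ARSys.IsAdic I Y) (hv : ARSys.IsARNull (cokernel v)) :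
    Epi (limMap (Functor.whiskerRight S.g (EtModW.epsPullMod Λ X))) := by
  haveI : Sheaf.IsLocallySurjective (limMap (Functor.whiskerRight S.g (EtModW.epsPullMod Λ X))) := ⟨fun {V} y => by
    obtain ⟨ι, W, g, hmem, hW⟩ := ProEtWC.exists_cover_wContractible V
    refine GrothendieckTopology.superset_covering _ ?_ hmem
    rw [Sieve.generate_le_iff]
    rintro _ _ ⟨i⟩
    haveI := (hW i).1
    exact surjective_limMap hS v hY hv (ProEtWC.isWC_of_splits (ProEtWC.splits_of_isWContractible (hW i).2)) _⟩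
  exact (Sheaf.isLocallySurjective_iff_epi' _ _).1 inferInstance

end Groth.Agent.ProEtFull
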