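import Groth.Agent.ProEtFull.AdicExactLim

/-!
# `lim ε⁻¹` and maps of systems which are adic up to translation
-/

set_option autoImplicit false
set_option linter.style.haveILetI false
set_option backward.isDefEq.respectTransparency false
set_option backward.isDefEq.respectTransparency.types false
set_option maxHeartbeats 1000000
universe u

namespace Groth.Agent.ProEtFull

open CategoryTheory Limits AlgebraicGeometry Opposite ZeroObject

variable (X : Scheme.{u}) [ProEtS.EpsCont X] (Λ : Type (u + 1)) [CommRing Λ]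

/-- The functor `G ↦ lim ε⁻¹G`. -/
noncomputable abbrev limEpsF : ARSys.PS (EtModW.Mod Λ X) ⥤ EtModW.ModP Λ X :=
  (Functor.whiskeringRight ℕᵒᵖ (EtModW.Mod Λ X) (EtModW.ModP Λ X)).obj (EtModW.epsPullMod Λ X) ⋙ lim

theorem preservesFiniteLimits_limEpsF : PreservesFiniteLimits (limEpsF X Λ) := by
  haveI := preservesFiniteLimits_epsPullMod X Λ
  haveI : PreservesFiniteLimits ((Functor.whiskeringRight ℕᵒᵖ (EtModW.Mod Λ X) (EtModW.ModP Λ X)).obj
      (EtModW.epsPullMod Λ X)) := ⟨fun J _ _ => inferInstance⟩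
  haveI : PreservesFiniteLimits (lim : (ℕᵒᵖ ⥤ EtModW.ModP Λ X) ⥤ _) := ⟨fun J _ _ => inferInstance⟩
  exact comp_preservesFiniteLimits _ _

theorem additive_limEpsF : (limEpsF X Λ).Additive := by
  haveI := preservesFiniteLimits_limEpsF X Λ
  exact Functor.additive_of_preserves_binary_products _

variable {X Λ}

theorem limEpsF_map_eq_zero {N : ARSys.PS (EtModW.Mod Λ X)} (hN : ARSys.IsARNull N) : IsZero ((limEpsF X Λ).obj N) := by
  obtain ⟨r, hr⟩ := hN
  rw [IsZero.iff_id_eq_zero]
  refine limit.hom_ext fun j => ?_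
  obtain ⟨n⟩ := j
  show 𝟙 _ ≫ limit.π (N ⋙ EtModW.epsPullMod Λ X) (op n) = (0 : limEps N ⟶ _) ≫ _
  rw [zero_comp, Category.id_comp, ← limit.w (N ⋙ EtModW.epsPullMod Λ X) (homOfLE (Nat.le_add_right n r)).op]
  have h : (N ⋙ EtModW.epsPullMod Λ X).map (homOfLE (Nat.le_add_right n r)).op = 0 :=
    (congrArg (EtModW.epsPullMod Λ X).map (hr n)).trans epsPullMod_map_zero
  rw [h, comp_zero]

theorem isAdic_zero (I : Ideal Λ) : ∃ Y : ARSys.PS (EtModW.Mod Λ X), ARSys.IsAdic I Y ∧ IsZero Y := by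
  refine ⟨(Functor.const ℕᵒᵖ).obj 0, ⟨fun n a _ => (isZero_zero _).eq_of_src _ _, fun n m h => ?_⟩,
    Functor.isZero _ fun _ => isZero_zero _⟩
  exact ⟨fun a _ => (isZero_zero _).eq_of_src _ _, fun Y φ _ => ⟨0, (isZero_zero _).eq_of_src _ _,
    fun ψ _ => (isZero_zero _).eq_of_src _ _⟩⟩

theorem shortExact_ker_image {A B : ARSys.PS (EtModW.Mod Λ X)} (v : A ⟶ B) :
    (ShortComplex.mk (kernel.ι v) (Abelian.factorThruImage v) (by
      rw [← cancel_mono (Abelian.image.ι v), Category.assoc, Abelian.image.fac, kernel.condition, zero_comp])).ShortExact := by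
  let φ : ShortComplex.mk (kernel.ι v) (Abelian.factorThruImage v) (by
      rw [← cancel_mono (Abelian.image.ι v), Category.assoc, Abelian.image.fac, kernel.condition, zero_comp]) ⟶
      ShortComplex.mk (kernel.ι v) v (kernel.condition v) :=
    { τ₁ := 𝟙 _, τ₂ := 𝟙 _, τ₃ := Abelian.image.ι v }
  haveI : Epi φ.τ₁ := inferInstanceAs (Epi (𝟙 _))
  haveI : IsIso φ.τ₂ := inferInstanceAs (IsIso (𝟙 _))
  haveI : Mono φ.τ₃ := inferInstanceAs (Mono (Abelian.image.ι v))
  exact { exact := (ShortComplex.exact_iff_of_epi_of_isIso_of_mono φ).2 (ShortComplex.exact_kernel v) }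

theorem shortExact_image_coker {A B : ARSys.PS (EtModW.Mod Λ X)} (v : A ⟶ B) :
    (ShortComplex.mk (Abelian.image.ι v) (cokernel.π v) (kernel.condition _)).ShortExact :=
  { exact := ShortComplex.exact_kernel _ }

theorem isARNull_of_isZero {N : ARSys.PS (EtModW.Mod Λ X)} (h : IsZero N) : ARSys.IsARNull N :=
  ⟨0, fun n => (((evaluation ℕᵒᵖ (EtModW.Mod Λ X)).obj (op n)).map_isZero h).eq_of_tgt _ _⟩

/-- `lim ε⁻¹` inverts isomorphisms up to translation. -/
theorem isIso_limEpsF_map (I : Ideal Λ) {A B : ARSys.PS (EtModW.Mod Λ X)} (v : A ⟶ B) (hv : ARSys.IsARIso v) :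
    IsIso ((limEpsF X Λ).map v) := by
  haveI := preservesFiniteLimits_limEpsF X Λ
  haveI := additive_limEpsF X Λ
  obtain ⟨Z, hZ, hZ0⟩ := isAdic_zero (X := X) I
  haveI hm : Mono ((limEpsF X Λ).map v) := by
    refine Preadditive.mono_of_isZero_kernel _ ?_
    exact (limEpsF_map_eq_zero hv.1).of_iso (PreservesKernel.iso (limEpsF X Λ) v).symm
  haveI : Epi ((limEpsF X Λ).map (Abelian.factorThruImage v)) := by
    have hc : ARSys.IsARNull (cokernel (0 : Z ⟶ kernel v)) := by
      obtain ⟨r, hr⟩ := hv.1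
      refine ⟨r, fun n => ?_⟩
      haveI : Epi ((cokernel.π (0 : Z ⟶ kernel v)).app (op (n + r))) :=
        ((evaluation ℕᵒᵖ (EtModW.Mod Λ X)).obj (op (n + r))).map_epi (cokernel.π (0 : Z ⟶ kernel v))
      rw [← cancel_epi ((cokernel.π (0 : Z ⟶ kernel v)).app (op (n + r))), comp_zero]
      refine ((cokernel.π (0 : Z ⟶ kernel v)).naturality (homOfLE (Nat.le_add_right n r)).op).symm.trans ?_
      exact (congrArg (· ≫ _) (hr n)).trans zero_comp
    exact epi_limMap (shortExact_ker_image v) (0 : Z ⟶ kernel v) hZ hc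
  haveI : Epi ((limEpsF X Λ).map (Abelian.image.ι v)) := by
    let S := ShortComplex.mk (Abelian.image.ι v) (cokernel.π v) (kernel.condition _)
    have h0 : (limEpsF X Λ).map (cokernel.π v) = 0 := (limEpsF_map_eq_zero hv.2).eq_of_tgt _ _
    haveI : IsIso ((limEpsF X Λ).map (Abelian.image.ι v)) := by
      have h : IsLimit (KernelFork.ofι _ _) :=
        isLimitForkMapOfIsLimit' (limEpsF X Λ) (kernel.condition (cokernel.π v)) (kernelIsKernel (cokernel.π v))
      exact KernelFork.IsLimit.isIso_ι (KernelFork.ofι _ _) h h0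
    infer_instance
  haveI : Epi ((limEpsF X Λ).map v) := by
    rw [← Abelian.image.fac v, Functor.map_comp]
    infer_instance
  exact isIso_of_mono_of_epi _

/-- The cokernel of `lim ε⁻¹u` for a map `u` out of an adic system with adic-up-to-translation kernel. -/
theorem nonempty_cokernel_limEpsF {I : Ideal Λ} {A B : ARSys.PS (EtModW.Mod Λ X)} (u : A ⟶ B)
    (hA : ARSys.IsAdic I A) {Y : ARSys.PS (EtModW.Mod Λ X)} (v : Y ⟶ kernel u) (hY : ARSys.IsAdic I Y)
    (hv : ARSys.IsARNull (cokernel v)) :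
    Nonempty (cokernel ((limEpsF X Λ).map u) ≅ (limEpsF X Λ).obj (cokernel u)) := by
  haveI := preservesFiniteLimits_limEpsF X Λ
  haveI := additive_limEpsF X Λ
  haveI : Epi ((limEpsF X Λ).map (Abelian.factorThruImage u)) := epi_limMap (shortExact_ker_image u) v hY hv
  haveI : Epi ((limEpsF X Λ).map (cokernel.π u)) := by
    refine epi_limMap (shortExact_image_coker u) (Abelian.factorThruImage u) hA
      (isARNull_of_isZero (isZero_cokernel_of_epi _))
  have h : IsLimit (KernelFork.ofι _ _) :=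
    isLimitForkMapOfIsLimit' (limEpsF X Λ) (kernel.condition (cokernel.π u)) (kernelIsKernel (cokernel.π u))
  have hc := Abelian.epiIsCokernelOfKernel _ h
  refine ⟨cokernelIsoOfEq ((congrArg (limEpsF X Λ).map (Abelian.image.fac u)).symm.trans (Functor.map_comp _ _ _)) ≪≫
    cokernelEpiComp _ _ ≪≫ (cokernelIsCokernel _).coconePointUniqueUpToIso hc⟩

end Groth.Agent.ProEtFull
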