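import Groth.Agent.ProEtFull.AdicP
import Groth.Agent.ProEtWC.Quot
import Groth.Agent.ProEtWC.Covers

/-!
# The pro-étale sheaf underlying an adic system
-/

set_option autoImplicit false
set_option linter.style.haveILetI false
set_option backward.isDefEq.respectTransparency false
set_option backward.isDefEq.respectTransparency.types false
set_option maxHeartbeats 1000000
universe u

namespace Groth.Agent.ProEtFull

open CategoryTheory Limits AlgebraicGeometry Opposite

variable {X : Scheme.{u}} [ProEtS.EpsCont X] {Λ : Type (u + 1)} [CommRing Λ]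

theorem epsPullMod_map_zero {A B : EtModW.Mod Λ X} :
    (EtModW.epsPullMod Λ X).map (0 : A ⟶ B) = 0 := by
  haveI : (EtModW.epsPullMod Λ X).PreservesZeroMorphisms :=
    haveI : (EtModW.epsPullMod Λ X).IsLeftAdjoint := (epsAdjMod X Λ).isLeftAdjoint
    inferInstance
  exact Functor.map_zero _ _ _

theorem killedBy_epsPullMod {J : Ideal Λ} {A : EtModW.Mod Λ X} (h : ARSys.KilledBy J A) :
    ARSys.KilledBy J ((EtModW.epsPullMod Λ X).obj A) := fun a ha => by
  rw [← CategoryTheory.Functor.map_id, ← epsPullMod_smul, h a ha, epsPullMod_map_zero]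

/-- `ε⁻¹` preserves quotient maps modulo an ideal. -/
theorem isQuot_epsPullMod {J : Ideal Λ} {A B : EtModW.Mod Λ X} {f : A ⟶ B} (h : ARSys.IsQuot J f) :
    ARSys.IsQuot J ((EtModW.epsPullMod Λ X).map f) := by
  refine ⟨killedBy_epsPullMod h.1, fun Y φ hφ => ?_⟩
  let adj := epsAdjMod X Λ
  obtain ⟨ψ, hψ, hu⟩ := h.2 _ (adj.homEquiv A Y φ) fun a ha => by
    have h0 : a • φ = 0 := hφ a ha
    rw [Adjunction.homEquiv_unit, ← Linear.comp_smul]
    have : a • ((ProEtS.eps X).sheafPushforwardContinuous (ModuleCat.{u + 1} Λ)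
        X.smallEtaleTopology (Scheme.ProEt.topology X)).map φ =
        ((ProEtS.eps X).sheafPushforwardContinuous (ModuleCat.{u + 1} Λ)
          X.smallEtaleTopology (Scheme.ProEt.topology X)).map (a • φ) := rfl
    rw [this, h0]
    exact comp_zero
  refine ⟨(adj.homEquiv B Y).symm ψ, ?_, fun χ hχ => ?_⟩
  · show _ ≫ _ = _
    rw [← Adjunction.homEquiv_naturality_left_symm, hψ, Equiv.symm_apply_apply]
  · rw [← hu (adj.homEquiv B Y χ) ?_, Equiv.symm_apply_apply]
    show _ ≫ _ = _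
    rw [← Adjunction.homEquiv_naturality_left, hχ]

theorem exists_sum_of_mem {Λ : Type (u + 1)} [CommRing Λ] {r : ℕ} (a : Fin r → Λ) {M : Type (u + 1)}
    [AddCommGroup M] [Module Λ M] {N : Submodule Λ M} {x : M}
    (h : x ∈ Submodule.span Λ (Set.range a) • N) :
    ∃ c : Fin r → M, (∀ k, c k ∈ N) ∧ ∑ k, a k • c k = x := by
  refine Submodule.smul_induction_on h (fun b hb n hn => ?_) ?_
  · obtain ⟨d, hd⟩ := (Submodule.mem_span_range_iff_exists_fun Λ).1 hb
    refine ⟨fun k => d k • n, fun k => N.smul_mem _ hn, ?_⟩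
    rw [← hd, Finset.sum_smul]
    exact Finset.sum_congr rfl fun k _ => by rw [smul_eq_mul, mul_comm, mul_smul]
  · rintro _ _ ⟨c, hc, rfl⟩ ⟨c', hc', rfl⟩
    exact ⟨c + c', fun k => N.add_mem (hc k) (hc' k), by simp [smul_add, Finset.sum_add_distrib]⟩

/-- In a tower of `I`-adic modules with surjective transition maps, a compatible family vanishing at
stage `n` is, compatibly, a combination of generators of `I ^ (n + 1)`. -/
theorem exists_compatible_coeffs {Λ : Type (u + 1)} [CommRing Λ] (I : Ideal Λ) (M : ℕ → Type (u + 1))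
    [∀ m, AddCommGroup (M m)] [∀ m, Module Λ (M m)] (t : ∀ {m m' : ℕ}, m ≤ m' → M m' →ₗ[Λ] M m)
    (ht : ∀ {a b c : ℕ} (h : a ≤ b) (h' : b ≤ c) (x : M c), t h (t h' x) = t (h.trans h') x)
    (hs : ∀ {m m' : ℕ} (h : m ≤ m'), Function.Surjective (t h))
    (hk : ∀ {m m' : ℕ} (h : m ≤ m') (x : M m'), t h x = 0 ↔ x ∈ I ^ (m + 1) • (⊤ : Submodule Λ (M m')))
    {n r : ℕ} (c : Fin r → Λ) (hc : Submodule.span Λ (Set.range c) = I ^ (n + 1))
    (s : ∀ m, M m) (hcomp : ∀ {m m' : ℕ} (h : m ≤ m'), t h (s m') = s m) (hsn : s n = 0) :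
    ∃ T : ∀ m, Fin r → M m, (∀ {m m' : ℕ} (h : m ≤ m') (i : Fin r), t h (T m' i) = T m i) ∧
      ∀ m, ∑ i, c i • T m i = s m := by
  have ht1 : ∀ {a : ℕ} (x : M a), t (le_refl a) x = x := fun {a} x => by
    obtain ⟨y, rfl⟩ := hs (le_refl a) x
    exact ht _ _ y
  -- approximations
  let P : ∀ k, Type (u + 1) := fun k => {v : Fin r → M (n + 1 + k) // ∑ i, c i • v i = s (n + 1 + k)}
  have h0 : Nonempty (P 0) := by
    have hmem := (hk (Nat.le_succ n) (s (n + 1))).1 (by rw [hcomp, hsn])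
    obtain ⟨v, -, hv⟩ := exists_sum_of_mem c (hc.symm ▸ hmem)
    exact ⟨⟨v, hv⟩⟩
  have hstep : ∀ (k : ℕ) (v : P k), ∃ v' : P (k + 1), ∀ i,
      t (show k ≤ n + 1 + (k + 1) by omega) (v'.1 i) = t (show k ≤ n + 1 + k by omega) (v.1 i) := by
    intro k v
    choose w hw using fun i => hs (show n + 1 + k ≤ n + 1 + (k + 1) by omega) (v.1 i)
    have hmem : s (n + 1 + (k + 1)) - ∑ i, c i • w i ∈
        Submodule.span Λ (Set.range c) • (I ^ (k + 1) • (⊤ : Submodule Λ (M (n + 1 + (k + 1))))) := by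
      have he : I ^ (n + 1) * I ^ (k + 1) = I ^ (n + 1 + k + 1) := by
        rw [← pow_add, show n + 1 + (k + 1) = n + 1 + k + 1 by omega]
      rw [hc, ← Submodule.mul_smul, he]
      rw [← hk (show n + 1 + k ≤ n + 1 + (k + 1) by omega)]
      simp only [map_sub, map_sum, map_smul]
      rw [hcomp, sub_eq_zero, ← v.2]
      exact Finset.sum_congr rfl fun i _ => by rw [hw i]
    obtain ⟨z, hz, hze⟩ := exists_sum_of_mem c hmem
    refine ⟨⟨w + z, ?_⟩, fun i => ?_⟩
    · simp only [Pi.add_apply, smul_add, Finset.sum_add_distrib, hze, add_sub_cancel]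
    · simp only [Pi.add_apply, map_add]
      rw [(hk (show k ≤ n + 1 + (k + 1) by omega) (z i)).2 (hz i), add_zero,
        ← ht (show k ≤ n + 1 + k by omega) (show n + 1 + k ≤ n + 1 + (k + 1) by omega) (w i), hw i]
  choose f hf using hstep
  let v : ∀ k, P k := fun k => Nat.rec h0.some (fun k v => f k v) k
  refine ⟨fun m i => t (show m ≤ n + 1 + m by omega) ((v m).1 i), fun {m m'} h i => ?_, fun m => ?_⟩
  · show t h (t _ ((v m').1 i)) = _
    rw [ht]
    induction m', h using Nat.le_induction with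
    | base => rfl
    | succ j hj ih =>
      rw [← ht hj (show j ≤ n + 1 + (j + 1) by omega), show v (j + 1) = f j (v j) from rfl, hf j (v j) i, ht]
      exact ih
  · simp only [← map_smul, ← map_sum]
    rw [(v m).2, hcomp]

variable {I : Ideal Λ} {G : ARSys.PS (EtModW.Mod Λ X)} (hG : ARSys.IsAdic I G)

/-- Evaluation at an object of the pro-étale site. -/
noncomputable abbrev evW (W : X.ProEt) : EtModW.ModP Λ X ⥤ ModuleCat.{u + 1} Λ :=
  sheafToPresheaf _ _ ⋙ (evaluation _ _).obj (op W)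

variable (G) in
noncomputable abbrev limEps : EtModW.ModP Λ X := limit (G ⋙ EtModW.epsPullMod Λ X)

theorem limEps_ext {W : X.ProEt} {x y : (limEps G).obj.obj (op W)}
    (h : ∀ m, (limit.π (G ⋙ EtModW.epsPullMod Λ X) (op m)).hom.app (op W) x =
      (limit.π (G ⋙ EtModW.epsPullMod Λ X) (op m)).hom.app (op W) y) : x = y :=
  Concrete.isLimit_ext _ (isLimitOfPreserves (evW W) (limit.isLimit (G ⋙ EtModW.epsPullMod Λ X))) x y
    fun m => h m.unop

theorem exists_limEps_section {W : X.ProEt}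
    (s : ∀ m, ((EtModW.epsPullMod Λ X).obj (G.obj (op m))).obj.obj (op W))
    (hs : ∀ {m m' : ℕ} (h : m ≤ m'), ((EtModW.epsPullMod Λ X).map (ARSys.tr G h)).hom.app (op W) (s m') = s m) :
    ∃ x : (limEps G).obj.obj (op W),
      ∀ m, (limit.π (G ⋙ EtModW.epsPullMod Λ X) (op m)).hom.app (op W) x = s m := by
  let hl := isLimitOfPreserves (evW W ⋙ forget (ModuleCat.{u + 1} Λ))
    (limit.isLimit (G ⋙ EtModW.epsPullMod Λ X))
  let sec : ((G ⋙ EtModW.epsPullMod Λ X) ⋙ evW W ⋙ forget (ModuleCat.{u + 1} Λ)).sections :=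
    ⟨fun m => s m.unop, fun {m m'} f => hs (leOfHom f.unop)⟩
  exact ⟨(Types.isLimitEquivSections hl).symm sec,
    fun m => Types.isLimitEquivSections_symm_apply hl sec (op m)⟩

theorem map_tr_tr {W : X.ProEt} {a b c : ℕ} (h : a ≤ b) (h' : b ≤ c)
    (z : ((EtModW.epsPullMod Λ X).obj (G.obj (op c))).obj.obj (op W)) :
    ((EtModW.epsPullMod Λ X).map (ARSys.tr G h)).hom.app (op W)
      (((EtModW.epsPullMod Λ X).map (ARSys.tr G h')).hom.app (op W) z) =
    ((EtModW.epsPullMod Λ X).map (ARSys.tr G (h.trans h'))).hom.app (op W) z := by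
  have e : ARSys.tr G h' ≫ ARSys.tr G h = ARSys.tr G (h.trans h') := (G.map_comp _ _).symm
  rw [← e, Functor.map_comp]
  rfl

include hG

theorem surjective_tr {W : X.ProEt} (hW : ProEtS.IsWC W) {m m' : ℕ} (h : m ≤ m') :
    Function.Surjective (((EtModW.epsPullMod Λ X).map (ARSys.tr G h)).hom.app (op W)).hom :=
  ProEtWC.surjective_of_isWC _ _ (isQuot_epsPullMod (hG.2 m m' h)) hW

theorem surjective_limit_π {W : X.ProEt} (hW : ProEtS.IsWC W) (n : ℕ) :
    Function.Surjective ((limit.π (G ⋙ EtModW.epsPullMod Λ X) (op n)).hom.app (op W)).hom := by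
  intro y
  let M := fun m => ((EtModW.epsPullMod Λ X).obj (G.obj (op m))).obj.obj (op W)
  let t := fun {m m' : ℕ} (h : m ≤ m') => ((EtModW.epsPullMod Λ X).map (ARSys.tr G h)).hom.app (op W)
  have ht : ∀ {a b c : ℕ} (h : a ≤ b) (h' : b ≤ c) (x : M c), t h (t h' x) = t (h.trans h') x := fun h h' x =>
    map_tr_tr h h' x
  have hstep : ∀ (k : ℕ) (v : M (n + k)), ∃ v' : M (n + (k + 1)), t (show n + k ≤ n + (k + 1) by omega) v' = v :=
    fun k v => surjective_tr hG hW _ v
  choose f hf using hstep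
  let v : ∀ k, M (n + k) := fun k => Nat.rec y (fun k v => f k v) k
  have hv : ∀ {k k' : ℕ} (h : k ≤ k'), t (show n + k ≤ n + k' by omega) (v k') = v k := by
    intro k k' h
    induction k', h using Nat.le_induction with
    | base =>
      show ((EtModW.epsPullMod Λ X).map (G.map _)).hom.app (op W) (v k) = v k
      rw [show (homOfLE (le_refl (n + k))).op = 𝟙 _ from rfl, CategoryTheory.Functor.map_id,
        CategoryTheory.Functor.map_id]
      rfl
    | succ j hj ih =>
      rw [← ht (show n + k ≤ n + j by omega) (show n + j ≤ n + (j + 1) by omega),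
        show v (j + 1) = f j (v j) from rfl, hf, ih]
  obtain ⟨x, hx⟩ := exists_limEps_section (G := G) (W := W) (fun m => t (show m ≤ n + m by omega) (v m))
    fun {m m'} h => by
      show t h (t _ (v m')) = t _ (v m)
      rw [ht, ← hv h, ht]
  refine ⟨x, (hx n).trans ?_⟩
  exact hv (Nat.zero_le n)

theorem mem_smul_of_π_eq_zero (hI : I.FG) {W : X.ProEt} (hW : ProEtS.IsWC W) (n : ℕ)
    (x : (limEps G).obj.obj (op W))
    (hx : (limit.π (G ⋙ EtModW.epsPullMod Λ X) (op n)).hom.app (op W) x = 0) :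
    x ∈ I ^ (n + 1) • (⊤ : Submodule Λ ((limEps G).obj.obj (op W))) := by
  obtain ⟨r, c, hc⟩ := Submodule.fg_iff_exists_fin_generating_family.1 (Submodule.FG.pow hI (n + 1))
  let t := fun {m m' : ℕ} (h : m ≤ m') => (((EtModW.epsPullMod Λ X).map (ARSys.tr G h)).hom.app (op W)).hom
  obtain ⟨T, hT, hTs⟩ := exists_compatible_coeffs I
    (fun m => ((EtModW.epsPullMod Λ X).obj (G.obj (op m))).obj.obj (op W)) t
    (fun {a b d} h h' z => map_tr_tr h h' z)
    (fun h => surjective_tr hG hW h)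
    (fun {m m'} h z => ⟨ProEtWC.mem_smul_of_isWC _ _ (isQuot_epsPullMod (hG.2 m m' h)) (Submodule.FG.pow hI _) hW z,
      ProEtWC.app_smul_eq_zero _ _ (isQuot_epsPullMod (hG.2 m m' h)) (op W)⟩)
    c hc (fun m => (limit.π (G ⋙ EtModW.epsPullMod Λ X) (op m)).hom.app (op W) x)
    (fun {m m'} h => congrArg (fun φ => φ.hom.app (op W) x)
      (limit.w (G ⋙ EtModW.epsPullMod Λ X) (homOfLE h).op)) hx
  choose z hz using fun i => exists_limEps_section (G := G) (W := W) (fun m => T m i) fun h => hT h i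
  have hxe : x = ∑ i, c i • z i := limEps_ext fun m => by
    rw [map_sum, ← hTs m]
    exact Finset.sum_congr rfl fun i _ => by rw [map_smul, hz i m]
  rw [hxe]
  exact Submodule.sum_mem _ fun i _ => Submodule.smul_mem_smul (hc ▸ Submodule.subset_span ⟨i, rfl⟩) Submodule.mem_top

/-- `F/I^(n+1)F = ε⁻¹G_n` for `F = lim ε⁻¹G`. -/
theorem isQuot_limit_π (hI : I.FG) (n : ℕ) :
    ARSys.IsQuot (I ^ (n + 1)) (limit.π (G ⋙ EtModW.epsPullMod Λ X) (op n)) := by
  let π : limEps G ⟶ (EtModW.epsPullMod Λ X).obj (G.obj (op n)) := limit.π (G ⋙ EtModW.epsPullMod Λ X) (op n)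
  have hQ := killedBy_epsPullMod (X := X) (hG.1 n)
  haveI : Sheaf.IsLocallySurjective π := ⟨fun {V} y => by
    obtain ⟨ι, W, g, hmem, hW⟩ := ProEtWC.exists_cover_wContractible V
    refine GrothendieckTopology.superset_covering _ ?_ hmem
    rw [Sieve.generate_le_iff]
    rintro _ _ ⟨i⟩
    haveI := (hW i).1
    exact surjective_limit_π hG (ProEtWC.isWC_of_splits (ProEtWC.splits_of_isWContractible (hW i).2)) n _⟩
  haveI : Epi π := (Sheaf.isLocallySurjective_iff_epi' _ π).1 inferInstance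
  refine ⟨hQ, fun D φ hφ => ?_⟩
  have hk : kernel.ι π ≫ φ = 0 := by
    apply ObjectProperty.hom_ext
    ext V z
    obtain ⟨ι, W, g, hmem, hW⟩ := ProEtWC.exists_cover_wContractible V.unop
    have hsep := ((isSheaf_iff_isSheaf_of_type _ _).1
      ((sheafCompose (Scheme.ProEt.topology X) (forget (ModuleCat.{u + 1} Λ))).obj D).property _ hmem).isSeparatedFor
    refine hsep.ext ?_
    rintro _ f ⟨_, a, _, ⟨i⟩, rfl⟩
    haveI := (hW i).1
    show (D.obj.map (a ≫ g i).op) (φ.hom.app V ((kernel.ι π).hom.app V z)) =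
      (D.obj.map (a ≫ g i).op) ((0 : (kernel π) ⟶ D).hom.app V z)
    rw [op_comp, Functor.map_comp, ConcreteCategory.comp_apply, ConcreteCategory.comp_apply]
    refine congrArg _ ?_
    let y : (limEps G).obj.obj (op (W i)) := (kernel.ι π).hom.app (op (W i)) ((kernel π).obj.map (g i).op z)
    have h0 : π.hom.app (op (W i)) y = 0 :=
      congrArg (fun m => m.hom.app (op (W i)) ((kernel π).obj.map (g i).op z)) (kernel.condition π)
    have hmem' := mem_smul_of_π_eq_zero hG hI
      (ProEtWC.isWC_of_splits (ProEtWC.splits_of_isWContractible (hW i).2)) n y h0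
    have e1 : D.obj.map (g i).op (φ.hom.app V ((kernel.ι π).hom.app V z)) = φ.hom.app (op (W i)) y :=
      (NatTrans.naturality_apply (kernel.ι π ≫ φ).hom (g i).op z).symm
    have e2 : φ.hom.app (op (W i)) y = 0 :=
      Submodule.smul_induction_on hmem' (fun b hb w _ => ProEtWC.killed_app φ.hom
        (congrArg (fun m : limEps G ⟶ D => m.hom) (hφ b hb)) (op (W i)) w)
        (fun p q hp hq => by rw [map_add, hp, hq, add_zero])
    refine (e1.trans e2).trans ?_
    exact (map_zero (D.obj.map (g i).op).hom).symm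
  exact ⟨Abelian.epiDesc π φ hk, Abelian.comp_epiDesc π φ hk,
    fun χ hχ => (cancel_epi π).1 (hχ.trans (Abelian.comp_epiDesc π φ hk).symm)⟩

end Groth.Agent.ProEtFull
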