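import Groth.Agent.ProEtFull.EpsExact

/-!
# The image of a weak Serre subcategory under an exact fully faithful left adjoint
-/

set_option autoImplicit false
set_option linter.style.haveILetI false
set_option backward.isDefEq.respectTransparency false
set_option backward.isDefEq.respectTransparency.types false
universe u

namespace Groth.Agent.ProEtFull

open CategoryTheory Limits

section

variable {C : Type*} [Category C] [Abelian C] {D : Type*} [Category D] [Abelian D]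
  {L : C ⥤ D} {R : D ⥤ C} (adj : L ⊣ R) [IsIso adj.unit] [PreservesFiniteLimits L] [R.Additive]
  (P : ObjectProperty C)

/-- The objects isomorphic to the image of an object with the property. -/
def img (L : C ⥤ D) (P : ObjectProperty C) : ObjectProperty D := fun F => ∃ G : C, P G ∧ Nonempty (L.obj G ≅ F)

include adj

theorem img_ker_coker
    (hk : ∀ {A B : C} (g : A ⟶ B), P A → P B → P (kernel g) ∧ P (cokernel g))
    {Y Z : D} (f : Y ⟶ Z) (hY : img L P Y) (hZ : img L P Z) :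
    img L P (kernel f) ∧ img L P (cokernel f) := by
  obtain ⟨A, hA, ⟨eA⟩⟩ := hY
  obtain ⟨B, hB, ⟨eB⟩⟩ := hZ
  haveI : L.IsLeftAdjoint := adj.isLeftAdjoint
  haveI : L.Additive := adj.left_adjoint_additive
  haveI : PreservesFiniteColimits L := inferInstance
  let ff := adj.fullyFaithfulLOfIsIsoUnit
  let g : A ⟶ B := ff.preimage (eA.hom ≫ f ≫ eB.inv)
  have hg : L.map g ≫ eB.hom = eA.hom ≫ f := by
    rw [ff.map_preimage]
    simp
  exact ⟨⟨kernel g, (hk g hA hB).1, ⟨PreservesKernel.iso L g ≪≫ kernel.mapIso _ _ eA eB hg⟩⟩,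
    ⟨cokernel g, (hk g hA hB).2, ⟨PreservesCokernel.iso L g ≪≫ cokernel.mapIso _ _ eA eB hg⟩⟩⟩

theorem img_ext (hiso : ∀ {A B : C}, (A ≅ B) → P A → P B)
    (hext : ∀ (U : ShortComplex C), U.ShortExact → P U.X₁ → P U.X₃ → P U.X₂)
    (hepi : ∀ (T : ShortComplex D), T.ShortExact → ∀ A, (L.obj A ≅ T.X₁) → Epi (R.map T.g))
    (T : ShortComplex D) (hT : T.ShortExact) (h₁ : img L P T.X₁) (h₃ : img L P T.X₃) : img L P T.X₂ := by
  obtain ⟨A, hA, ⟨eA⟩⟩ := h₁
  obtain ⟨B, hB, ⟨eB⟩⟩ := h₃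
  obtain ⟨hRT, ⟨iA⟩, ⟨iB⟩, ⟨e⟩⟩ := exists_preimage_extension adj hT eA eB (hepi T hT A eA)
  exact ⟨R.obj T.X₂, hext _ hRT (hiso iA hA) (hiso iB hB), ⟨e⟩⟩

theorem isWeakSerre_img [WSerre.IsWeakSerre P]
    (hepi : ∀ (T : ShortComplex D), T.ShortExact → ∀ A, (L.obj A ≅ T.X₁) → Epi (R.map T.g)) :
    WSerre.IsWeakSerre (img L P) := by
  haveI : L.IsLeftAdjoint := adj.isLeftAdjoint
  have hk : ∀ {A B : C} (g : A ⟶ B), P A → P B → P (kernel g) ∧ P (cokernel g) := fun g hA hB =>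
    ⟨P.prop_kernel g hA hB, P.prop_cokernel g hA hB⟩
  obtain ⟨Z, hZ, hPZ⟩ := (inferInstance : P.ContainsZero).exists_zero
  haveI : (img L P).ContainsZero :=
    ⟨⟨L.obj Z, by haveI : L.Additive := adj.left_adjoint_additive; exact L.map_isZero hZ, Z, hPZ, ⟨Iso.refl _⟩⟩⟩
  haveI : (img L P).IsClosedUnderKernels := ⟨by
    rintro K ⟨f, k, hk', hY, hZ'⟩
    obtain ⟨G, hG, ⟨e⟩⟩ := (img_ker_coker adj P hk f hY hZ').1
    exact ⟨G, hG, ⟨e ≪≫ (kernelIsKernel f).conePointUniqueUpToIso hk'⟩⟩⟩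
  haveI : (img L P).IsClosedUnderCokernels := ⟨by
    rintro K ⟨f, k, hk', hY, hZ'⟩
    obtain ⟨G, hG, ⟨e⟩⟩ := (img_ker_coker adj P hk f hY hZ').2
    exact ⟨G, hG, ⟨e ≪≫ (cokernelIsCokernel f).coconePointUniqueUpToIso hk'⟩⟩⟩
  haveI : (img L P).IsClosedUnderExtensions := ⟨fun {S} hS h₁ h₃ =>
    img_ext adj P (fun e h => P.prop_of_iso e h) (fun U hU a b => P.prop_X₂_of_shortExact hU a b) hepi S hS h₁ h₃⟩
  exact {}

end

end Groth.Agent.ProEtFull
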