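import Groth.Agent.ProEtFull.AdicExtAlg
import Groth.Agent.ProEtFull.AdicKerCoker
import Groth.Agent.S14010
import Groth.Agent.S14013
import Groth.Agent.S14014
import Groth.Agent.S14019
import Mathlib.Algebra.Homology.ShortComplex.SnakeLemma

/-!
# An extension of adic pro-étale sheaves is adic, for a principal ideal
-/

set_option autoImplicit false
set_option linter.style.haveILetI false
set_option backward.isDefEq.respectTransparency false
set_option backward.isDefEq.respectTransparency.types false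
set_option maxHeartbeats 1000000
universe u

noncomputable section

namespace Groth.Agent.ProEtFull

open CategoryTheory Limits AlgebraicGeometry Opposite

variable {X : Scheme.{u}} {Λ : Type (u + 1)} [CommRing Λ]

theorem killedBy_span_iff {C : Type*} [Category C] [Preadditive C] [Linear Λ C] {a : Λ} {A B : C} (n : ℕ) (φ : A ⟶ B) :
    ARSys.HomKilledBy (Ideal.span {a} ^ n) φ ↔ a ^ n • φ = 0 := by
  rw [Ideal.span_singleton_pow]
  refine ⟨fun h => h _ (Ideal.mem_span_singleton_self _), fun h c hc => ?_⟩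
  obtain ⟨d, rfl⟩ := Ideal.mem_span_singleton'.1 hc
  rw [mul_smul, h, smul_zero]

theorem mem_span_pow_smul_top {a : Λ} {M : Type (u + 1)} [AddCommGroup M] [Module Λ M] {n : ℕ} {x : M} :
    x ∈ Ideal.span {a} ^ n • (⊤ : Submodule Λ M) ↔ ∃ y, x = a ^ n • y := by
  rw [Ideal.span_singleton_pow, Submodule.ideal_span_singleton_smul, Submodule.mem_smul_pointwise_iff_exists]
  exact ⟨fun ⟨y, _, h⟩ => ⟨y, h.symm⟩, fun ⟨y, h⟩ => ⟨y, trivial, h.symm⟩⟩

theorem smul_app_apply {A B : EtModW.ModP Λ X} (b : Λ) (φ : A ⟶ B) (W : X.ProEtᵒᵖ) (x : A.obj.obj W) :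
    (b • φ).hom.app W x = b • φ.hom.app W x := rfl

/-- Sections of a limit of a tower. -/
theorem exists_section_limit {Q : ℕᵒᵖ ⥤ EtModW.ModP Λ X} {W : X.ProEt}
    (s : ∀ m, (Q.obj (op m)).obj.obj (op W))
    (hs : ∀ {m m' : ℕ} (h : m ≤ m'), (Q.map (homOfLE h).op).hom.app (op W) (s m') = s m) :
    ∃ x : (limit Q).obj.obj (op W), ∀ m, (limit.π Q (op m)).hom.app (op W) x = s m := by
  let hl := isLimitOfPreserves (evW W ⋙ forget (ModuleCat.{u + 1} Λ)) (limit.isLimit Q)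
  let sec : (Q ⋙ evW W ⋙ forget (ModuleCat.{u + 1} Λ)).sections :=
    ⟨fun m => s m.unop, fun {m m'} f => hs (leOfHom f.unop)⟩
  exact ⟨(Types.isLimitEquivSections hl).symm sec,
    fun m => Types.isLimitEquivSections_symm_apply hl sec (op m)⟩

theorem section_limit_ext {Q : ℕᵒᵖ ⥤ EtModW.ModP Λ X} {W : X.ProEt} {x y : (limit Q).obj.obj (op W)}
    (h : ∀ m, (limit.π Q (op m)).hom.app (op W) x = (limit.π Q (op m)).hom.app (op W) y) : x = y :=
  Concrete.isLimit_ext _ (isLimitOfPreserves (evW W) (limit.isLimit Q)) x y fun m => h m.unop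

theorem lift_π_app {F : EtModW.ModP Λ X} {Q : ℕᵒᵖ ⥤ EtModW.ModP Λ X} (p : (Functor.const ℕᵒᵖ).obj F ⟶ Q)
    (W : X.ProEtᵒᵖ) (x : F.obj.obj W) (m : ℕ) :
    (limit.π Q (op m)).hom.app W ((limit.lift Q (Cone.mk F p)).hom.app W x) = (p.app (op m)).hom.app W x :=
  congrArg (fun φ => φ.hom.app W x) (limit.lift_π (Cone.mk F p) (op m))

/-- The sections of an adic sheaf on a weakly contractible object are separated and complete. -/
theorem sep_complete_of_adic {a : Λ} {F : EtModW.ModP Λ X} {Q : ℕᵒᵖ ⥤ EtModW.ModP Λ X}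
    (p : (Functor.const ℕᵒᵖ).obj F ⟶ Q) (hQ : ∀ n : ℕ, ARSys.IsQuot (Ideal.span {a} ^ (n + 1)) (p.app (op n)))
    [IsIso (limit.lift Q (Cone.mk F p))] {W : X.ProEt} (hW : ProEtS.IsWC W) :
    SepAt a (F.obj.obj (op W)) ∧ CompleteAt a (F.obj.obj (op W)) := by
  set l := limit.lift Q (Cone.mk F p) with hl
  have hbij : Function.Bijective (l.hom.app (op W)) :=
    ConcreteCategory.bijective_of_isIso ((evW W).map l)
  have hz : ∀ (n : ℕ) (y : F.obj.obj (op W)), (p.app (op n)).hom.app (op W) (a ^ (n + 1) • y) = 0 := fun n y =>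
    ProEtWC.app_smul_eq_zero _ _ (hQ n) (op W) (mem_span_pow_smul_top.2 ⟨y, rfl⟩)
  refine ⟨fun x hx => hbij.1 (section_limit_ext fun m => ?_), fun s hs => ?_⟩
  · obtain ⟨y, hy⟩ := hx m
    rw [lift_π_app, map_zero, map_zero, hy, hz]
  · obtain ⟨t, ht⟩ := exists_section_limit (Q := Q) (W := W) (fun m => (p.app (op m)).hom.app (op W) (s m))
      fun {m m'} h => by
        have e := congrArg (fun φ => φ.hom.app (op W) (s m')) (p.naturality (homOfLE h).op)
        refine e.symm.trans ?_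
        obtain ⟨y, hy⟩ := hs m m' h
        show (p.app (op m)).hom.app (op W) (s m') = _
        rw [eq_add_of_sub_eq hy, map_add, hz, zero_add]
    obtain ⟨x, rfl⟩ := hbij.2 t
    refine ⟨x, fun n => mem_span_pow_smul_top.1 (ProEtWC.mem_smul_of_isWC _ _ (hQ n)
      (Submodule.FG.pow (Submodule.fg_span_singleton a) _) hW _ ?_)⟩
    rw [map_sub, sub_eq_zero, ← ht n, lift_π_app]

/-- A morphism of sheaves which is bijective on weakly contractible objects is an isomorphism. -/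
theorem isIso_of_bijective_wc {A B : EtModW.ModP Λ X} (φ : A ⟶ B)
    (h : ∀ W : X.ProEt, ProEtS.IsWC W → Function.Bijective (φ.hom.app (op W))) : IsIso φ := by
  haveI : Sheaf.IsLocallySurjective φ := ⟨fun {V} y => by
    obtain ⟨ι, W, g, hmem, hW⟩ := ProEtWC.exists_cover_wContractible V
    refine GrothendieckTopology.superset_covering _ ?_ hmem
    rw [Sieve.generate_le_iff]
    rintro _ _ ⟨i⟩
    haveI := (hW i).1
    exact (h _ (ProEtWC.isWC_of_splits (ProEtWC.splits_of_isWContractible (hW i).2))).2 _⟩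
  haveI : Sheaf.IsLocallyInjective φ := ⟨fun {V} x y hxy => by
    obtain ⟨ι, W, g, hmem, hW⟩ := ProEtWC.exists_cover_wContractible V.unop
    refine GrothendieckTopology.superset_covering _ ?_ hmem
    rw [Sieve.generate_le_iff]
    rintro _ _ ⟨i⟩
    haveI := (hW i).1
    refine (h _ (ProEtWC.isWC_of_splits (ProEtWC.splits_of_isWContractible (hW i).2))).1 ?_
    have e := congrArg (B.obj.map (g i).op) hxy
    rwa [← NatTrans.naturality_apply, ← NatTrans.naturality_apply] at e⟩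
  exact (Sheaf.isLocallyBijective_iff_isIso φ).1 ⟨inferInstance, inferInstance⟩

variable [ProEtS.EpsCont X]

/-- The pro-étale sheaves coming from constructible étale sheaves. -/
def ConsP : ObjectProperty (EtModW.ModP Λ X) := fun F =>
  ∃ E : EtModW.Mod Λ X, EtModW.IsConstructible Λ E ∧ Nonempty ((EtModW.epsPullMod Λ X).obj E ≅ F)

instance isWeakSerre_consP [IsNoetherianRing Λ] : WSerre.IsWeakSerre (ConsP (X := X) (Λ := Λ)) :=
  Groth.Agent.S14019.result Λ X

variable (a : Λ) in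
/-- The adic pro-étale sheaves. -/
def AdicPP (F : EtModW.ModP Λ X) : Prop :=
  ∃ (Q : ℕᵒᵖ ⥤ EtModW.ModP Λ X) (p : (Functor.const ℕᵒᵖ).obj F ⟶ Q),
    (∀ n : ℕ, ARSys.IsQuot ((Ideal.span {a}) ^ (n + 1)) (p.app (op n))) ∧
    (∀ n : ℕ, ∃ E : EtModW.Mod Λ X, EtModW.IsConstructible Λ E ∧
      Nonempty ((EtModW.epsPullMod Λ X).obj E ≅ Q.obj (op n))) ∧
    IsIso (limit.lift Q (Cone.mk F p))

theorem AdicPP.of_iso {a : Λ} {F F' : EtModW.ModP Λ X} (e : F ≅ F') (h : AdicPP a F) : AdicPP a F' := by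
  have hI : (Ideal.span {a} : Ideal Λ).FG := Submodule.fg_span_singleton a
  obtain ⟨G, hG, hGc, ⟨eG⟩⟩ := (Groth.Agent.S14010.result Λ _ hI X F).1 h
  exact (Groth.Agent.S14010.result Λ _ hI X F').2 ⟨G, hG, hGc, ⟨eG ≪≫ e⟩⟩

section Extension

variable [IsNoetherianRing Λ] [IsNoetherian X] {a : Λ}

theorem AdicPP.kernel_smul {F : EtModW.ModP Λ X} (h : AdicPP a F) (b : Λ) : AdicPP a (kernel (b • 𝟙 F)) :=
  (Groth.Agent.S14013.result Λ (Ideal.span {a}) X F F h h (b • 𝟙 F)).1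

theorem consP_kernel_smul {F : EtModW.ModP Λ X} (h : AdicPP a F) (n : ℕ) :
    ConsP (kernel (a ^ (n + 1) • 𝟙 F)) := by
  set K := kernel (a ^ (n + 1) • 𝟙 F)
  obtain ⟨Q, p, hQ, hc, -⟩ := (h.kernel_smul (a ^ (n + 1)) : AdicPP a K)
  obtain ⟨E, hE, ⟨e⟩⟩ := hc n
  have hK : a ^ (n + 1) • 𝟙 K = 0 := by
    rw [← cancel_mono (kernel.ι (a ^ (n + 1) • 𝟙 F)), zero_comp, Linear.smul_comp, Category.id_comp]
    have := kernel.condition (a ^ (n + 1) • 𝟙 F)
    rwa [Linear.comp_smul, Category.comp_id] at this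
  obtain ⟨q, hq, -⟩ := (hQ n).2 K (𝟙 K) ((killedBy_span_iff _ _).2 hK)
  have hq' : q ≫ p.app (op n) = 𝟙 _ := by
    refine ((hQ n).2 _ (p.app (op n)) ((killedBy_span_iff _ _).2 ?_)).unique ?_ (Category.comp_id _)
    · rw [← Category.id_comp (p.app (op n))]
      show a ^ (n + 1) • (𝟙 K ≫ _) = 0
      rw [← Linear.smul_comp, hK, zero_comp]
    · exact (Category.assoc _ _ _).symm.trans ((congrArg (· ≫ p.app (op n)) hq).trans (Category.id_comp _))
  exact ⟨E, hE, ⟨e ≪≫ (⟨p.app (op n), q, hq, hq'⟩ : K ≅ Q.obj (op n)).symm⟩⟩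

theorem consP_cokernel_smul {F : EtModW.ModP Λ X} (h : AdicPP a F) (n : ℕ) :
    ConsP (cokernel (a ^ (n + 1) • 𝟙 F)) := by
  obtain ⟨Q, p, hQ, hc, -⟩ := h
  obtain ⟨E, hE, ⟨e⟩⟩ := hc n
  have hk : (a ^ (n + 1) • 𝟙 F) ≫ p.app (op n) = 0 := by
    have h0 : a ^ (n + 1) • 𝟙 (Q.obj (op n)) = 0 := (killedBy_span_iff _ _).1 (hQ n).1
    rw [Linear.smul_comp, Category.id_comp, ← Category.comp_id (p.app (op n)), ← Linear.comp_smul, h0, comp_zero]
  have hπ : a ^ (n + 1) • cokernel.π (a ^ (n + 1) • 𝟙 F) = 0 := by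
    have := cokernel.condition (a ^ (n + 1) • 𝟙 F)
    rwa [Linear.smul_comp, Category.id_comp] at this
  obtain ⟨d, hd, -⟩ := (hQ n).2 _ (cokernel.π (a ^ (n + 1) • 𝟙 F)) ((killedBy_span_iff _ _).2 hπ)
  have hd' : d ≫ cokernel.desc _ (p.app (op n)) hk = 𝟙 _ := by
    refine ((hQ n).2 _ (p.app (op n)) ((killedBy_span_iff _ _).2 ?_)).unique ?_ (Category.comp_id _)
    · exact (congrArg (a ^ (n + 1) • ·) (Category.id_comp (p.app (op n))).symm).trans
        ((Linear.smul_comp _ _ _ _ _ _).symm.trans hk)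
    · rw [← Category.assoc, hd, cokernel.π_desc]
  refine ⟨E, hE, ⟨e ≪≫ ⟨d, cokernel.desc _ (p.app (op n)) hk, hd', ?_⟩⟩⟩
  rw [← cancel_epi (cokernel.π (a ^ (n + 1) • 𝟙 F)), cokernel.π_desc_assoc, hd, Category.comp_id]

/-- The torsion of an adic sheaf is bounded. -/
theorem exists_torsion_bound {F : EtModW.ModP Λ X} (h : AdicPP a F) :
    ∃ N : ℕ, ∀ (k : ℕ) (W : X.ProEt), ProEtS.IsWC W → ∀ z : F.obj.obj (op W), a ^ k • z = 0 → a ^ N • z = 0 := by
  let Z : ℕ →o Subobject F := ⟨fun k => kernelSubobject (a ^ k • 𝟙 F), fun k l hkl => by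
    refine le_kernelSubobject _ _ ?_
    have h0 := kernelSubobject_arrow_comp (a ^ k • 𝟙 F)
    rw [Linear.comp_smul, Category.comp_id] at h0 ⊢
    rw [← Nat.sub_add_cancel hkl, pow_add, mul_smul, h0, smul_zero]⟩
  obtain ⟨N, hN⟩ := Groth.Agent.S14014.result Λ (Ideal.span {a}) X F h Z fun k =>
    (h.kernel_smul (a ^ k)).of_iso (kernelSubobjectIso _).symm
  refine ⟨N, fun k W hW z hz => ?_⟩
  rcases Nat.le_total k N with hkN | hkN
  · rw [← Nat.sub_add_cancel hkN, pow_add, mul_smul, hz, smul_zero]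
  have h0 : kernel.ι (a ^ k • 𝟙 F) ≫ (a ^ N • 𝟙 F) = 0 := by
    have h1 := kernelSubobject_arrow_comp (a ^ N • 𝟙 F)
    have h2 : kernelSubobject (a ^ k • 𝟙 F) ≤ kernelSubobject (a ^ N • 𝟙 F) := (hN k hkN).le
    rw [← kernelSubobject_arrow' (a ^ k • 𝟙 F), ← Subobject.ofLE_arrow h2, Category.assoc, Category.assoc, h1,
      comp_zero, comp_zero]
  let T : ShortComplex (EtModW.ModP Λ X) :=
    ShortComplex.mk (kernel.ι (a ^ k • 𝟙 F)) (a ^ k • 𝟙 F) (kernel.condition _)
  obtain ⟨y, hy⟩ := exists_app_eq_of_exact (S := T) (ShortComplex.exact_kernel _) hW z (by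
    show (a ^ k • 𝟙 F : F ⟶ F).hom.app (op W) z = 0
    rw [smul_app_apply]
    exact hz)
  rw [← hy]
  exact congrArg (fun φ => φ.hom.app (op W) y) h0

/-- An extension of two adic sheaves is adic. -/
theorem AdicPP.middle (S : ShortComplex (EtModW.ModP Λ X)) (hS : S.ShortExact)
    (h₁ : AdicPP a S.X₁) (h₃ : AdicPP a S.X₃) : AdicPP a S.X₂ := by
  haveI := hS.mono_f
  haveI := hS.epi_g
  let F := S.X₂
  have hπ : ∀ {n m : ℕ}, n ≤ m → (a ^ (m + 1) • 𝟙 F) ≫ cokernel.π (a ^ (n + 1) • 𝟙 F) = 0 := fun {n m} h => by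
    have h0 := cokernel.condition (a ^ (n + 1) • 𝟙 F)
    rw [Linear.smul_comp, Category.id_comp] at h0 ⊢
    obtain ⟨d, rfl⟩ := Nat.exists_eq_add_of_le h
    rw [show n + d + 1 = d + (n + 1) by omega, pow_add a d (n + 1), mul_smul, h0, smul_zero]
  let Q : ℕᵒᵖ ⥤ EtModW.ModP Λ X :=
    { obj := fun n => cokernel (a ^ (n.unop + 1) • 𝟙 F)
      map := fun {m n} f => cokernel.desc _ (cokernel.π _) (hπ (leOfHom f.unop))
      map_id := fun n => coequalizer.hom_ext (by simp)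
      map_comp := fun f g => coequalizer.hom_ext (by simp) }
  let p : (Functor.const ℕᵒᵖ).obj F ⟶ Q :=
    { app := fun n => cokernel.π _
      naturality := fun m n f => by
        show 𝟙 _ ≫ cokernel.π _ = cokernel.π _ ≫ cokernel.desc _ _ _
        rw [cokernel.π_desc, Category.id_comp] }
  have hQ : ∀ n : ℕ, ARSys.IsQuot (Ideal.span {a} ^ (n + 1)) (p.app (op n)) := fun n => by
    have h0 := cokernel.condition (a ^ (n + 1) • 𝟙 F)
    rw [Linear.smul_comp, Category.id_comp] at h0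
    refine ⟨(killedBy_span_iff _ _).2 ?_, fun Y φ hφ => ?_⟩
    · refine (cancel_epi (cokernel.π (a ^ (n + 1) • 𝟙 F))).1 ?_
      exact ((Linear.comp_smul _ _ _ _ _ _).trans ((congrArg (a ^ (n + 1) • ·) (Category.comp_id _)).trans h0)).trans
        comp_zero.symm
    · have hφ' : (a ^ (n + 1) • 𝟙 F) ≫ φ = 0 := by
        rw [Linear.smul_comp, Category.id_comp]
        exact (killedBy_span_iff _ _).1 hφ
      exact ⟨cokernel.desc _ φ hφ', cokernel.π_desc _ _ _,
        fun χ hχ => coequalizer.hom_ext (hχ.trans (cokernel.π_desc _ φ hφ').symm)⟩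
  have h₃' : AdicPP a S.X₃ := h₃
  refine ⟨Q, p, hQ, fun n => ?_, ?_⟩
  · show ConsP (cokernel (a ^ (n + 1) • 𝟙 F))
    let v : S ⟶ S :=
      { τ₁ := a ^ (n + 1) • 𝟙 _
        τ₂ := a ^ (n + 1) • 𝟙 _
        τ₃ := a ^ (n + 1) • 𝟙 _ }
    let SI : ShortComplex.SnakeInput (EtModW.ModP Λ X) :=
      { L₀ := kernel v
        L₁ := S
        L₂ := S
        L₃ := cokernel v
        v₀₁ := kernel.ι v
        v₁₂ := v
        v₂₃ := cokernel.π v
        w₀₂ := kernel.condition v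
        w₁₃ := cokernel.condition v
        h₀ := kernelIsKernel v
        h₃ := cokernelIsCokernel v
        L₁_exact := hS.exact
        epi_L₁_g := hS.epi_g
        L₂_exact := hS.exact
        mono_L₂_f := hS.mono_f }
    have hA : ConsP SI.L₀.X₃ :=
      (ConsP (X := X) (Λ := Λ)).prop_of_iso (PreservesKernel.iso ShortComplex.π₃ v).symm (consP_kernel_smul h₃ n)
    have hB : ConsP SI.L₃.X₁ :=
      (ConsP (X := X) (Λ := Λ)).prop_of_iso (PreservesCokernel.iso ShortComplex.π₁ v).symm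
        (consP_cokernel_smul h₁ n)
    have hD : ConsP SI.L₃.X₃ :=
      (ConsP (X := X) (Λ := Λ)).prop_of_iso (PreservesCokernel.iso ShortComplex.π₃ v).symm
        (consP_cokernel_smul h₃ n)
    have hC : ConsP (cokernel SI.δ) :=
      (ConsP (X := X) (Λ := Λ)).prop_cokernel SI.δ hA hB
    let T : ShortComplex (EtModW.ModP Λ X) :=
      ShortComplex.mk (cokernel.desc SI.δ SI.L₃.f SI.δ_L₃_f) SI.L₃.g
        (coequalizer.hom_ext (by simp))
    haveI : Mono T.f := SI.L₂'_exact.mono_cokernelDesc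
    haveI : Epi T.g := SI.epi_L₃_g
    have hT : T.ShortExact := ShortComplex.ShortExact.mk' (by
      let φ : SI.L₃ ⟶ T := { τ₁ := cokernel.π _, τ₂ := 𝟙 _, τ₃ := 𝟙 _ }
      haveI : Epi φ.τ₁ := inferInstanceAs (Epi (cokernel.π _))
      haveI : IsIso φ.τ₂ := inferInstanceAs (IsIso (𝟙 _))
      haveI : Mono φ.τ₃ := inferInstanceAs (Mono (𝟙 _))
      exact (ShortComplex.exact_iff_of_epi_of_isIso_of_mono φ).1 SI.L₃_exact) inferInstance inferInstance
    have hM : ConsP T.X₂ := (ConsP (X := X) (Λ := Λ)).prop_X₂_of_shortExact hT hC hD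
    exact (ConsP (X := X) (Λ := Λ)).prop_of_iso (PreservesCokernel.iso ShortComplex.π₂ v) hM
  · obtain ⟨Q₁, p₁, hQ₁, -, hl₁⟩ := h₁
    obtain ⟨Q₃, p₃, hQ₃, -, hl₃⟩ := h₃
    obtain ⟨N, hN⟩ := exists_torsion_bound (a := a) (F := S.X₃) h₃'
    haveI := hl₁
    haveI := hl₃
    refine isIso_of_bijective_wc _ fun W hW => ?_
    obtain ⟨hs₁, hc₁⟩ := sep_complete_of_adic p₁ hQ₁ hW
    obtain ⟨hs₃, hc₃⟩ := sep_complete_of_adic p₃ hQ₃ hW
    have hfI : Function.Injective (S.f.hom.app (op W)).hom :=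
      (ModuleCat.mono_iff_injective _).1 (inferInstanceAs (Mono ((evW W).map S.f)))
    have hgS : Function.Surjective (S.g.hom.app (op W)).hom := surjective_of_epi S.g hW
    have hex := exists_app_eq_of_exact hS.exact hW
    have hgf : ∀ y, S.g.hom.app (op W) (S.f.hom.app (op W) y) = 0 := fun y =>
      congrArg (fun φ => φ.hom.app (op W) y) S.zero
    have hN' : ∀ (k : ℕ) (z : S.X₃.obj.obj (op W)), a ^ k • z = 0 → a ^ N • z = 0 := fun k => hN k W hW
    have hs := sepAt_middle (f := (S.f.hom.app (op W)).hom) (g := (S.g.hom.app (op W)).hom) hex hgf hN' hfI hs₁ hs₃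
    have hc := completeAt_middle (f := (S.f.hom.app (op W)).hom) (g := (S.g.hom.app (op W)).hom) hex hgf hN' hfI
      hgS hc₁ hc₃
    have hker : ∀ (m : ℕ) (x : F.obj.obj (op W)), (p.app (op m)).hom.app (op W) x = 0 →
        ∃ y, x = a ^ (m + 1) • y := fun m x hx => mem_span_pow_smul_top.1 (ProEtWC.mem_smul_of_isWC _ _ (hQ m)
          (Submodule.FG.pow (Submodule.fg_span_singleton a) _) hW _ hx)
    refine ⟨(injective_iff_map_eq_zero _).2 fun x hx => hs x fun m => hker m x ?_, fun t => ?_⟩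
    · rw [← lift_π_app, hx, map_zero]
    · choose s hs' using fun m => ProEtWC.surjective_of_isWC _ _ (hQ m) hW ((limit.π Q (op m)).hom.app (op W) t)
      obtain ⟨x, hx⟩ := hc s fun n m h => hker n _ (by
        have e : (p.app (op n)).hom.app (op W) (s m) =
            (Q.map (homOfLE h).op).hom.app (op W) ((p.app (op m)).hom.app (op W) (s m)) :=
          congrArg (fun φ => φ.hom.app (op W) (s m)) (p.naturality (homOfLE h).op)
        rw [map_sub, sub_eq_zero, e, hs', hs']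
        exact congrArg (fun φ => φ.hom.app (op W) t) (limit.w Q (homOfLE h).op))
      refine ⟨x, section_limit_ext fun m => ?_⟩
      rw [lift_π_app, ← hs' m, ← sub_eq_zero, ← map_sub]
      obtain ⟨y, hy⟩ := hx m
      exact ProEtWC.app_smul_eq_zero _ _ (hQ m) (op W) (mem_span_pow_smul_top.2 ⟨y, hy⟩)

end Extension

end Groth.Agent.ProEtFull
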