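import Mathlib

/-!
# Completeness of an extension of complete modules with bounded torsion
-/

set_option autoImplicit false
universe u v

namespace Groth.Agent.ProEtFull

variable {Λ : Type u} [CommRing Λ] (a : Λ) (M : Type v) [AddCommGroup M] [Module Λ M]

/-- Separated for the `a`-adic topology. -/
def SepAt : Prop := ∀ x : M, (∀ n : ℕ, ∃ y : M, x = a ^ (n + 1) • y) → x = 0

/-- Sequentially complete for the `a`-adic topology. -/
def CompleteAt : Prop :=
  ∀ s : ℕ → M, (∀ n m : ℕ, n ≤ m → ∃ y : M, s m - s n = a ^ (n + 1) • y) →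
    ∃ x : M, ∀ n : ℕ, ∃ y : M, x - s n = a ^ (n + 1) • y

variable {a} {M}
variable {M₁ M₃ : Type v} [AddCommGroup M₁] [Module Λ M₁] [AddCommGroup M₃] [Module Λ M₃]
  {f : M₁ →ₗ[Λ] M} {g : M →ₗ[Λ] M₃}

variable (hex : ∀ x, g x = 0 → ∃ y, f y = x) (hgf : ∀ y, g (f y) = 0)
  {N : ℕ} (hN : ∀ (k : ℕ) (z : M₃), a ^ k • z = 0 → a ^ N • z = 0)

include hex hgf hN in
theorem exists_of_smul_eq (hf : Function.Injective f) {x : M₁} {y : M} {n : ℕ} (h : f x = a ^ (n + N) • y) :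
    ∃ z : M₁, x = a ^ n • z := by
  have h0 : a ^ (n + N) • g y = 0 := by rw [← map_smul, ← h, hgf]
  obtain ⟨z, hz⟩ := hex (a ^ N • y) (by rw [map_smul]; exact hN _ _ h0)
  refine ⟨z, hf ?_⟩
  rw [map_smul, hz, smul_smul, ← pow_add, h]

include hex hgf hN in
theorem sepAt_middle (hf : Function.Injective f) (h₁ : SepAt a M₁) (h₃ : SepAt a M₃) : SepAt a M := by
  intro x hx
  obtain ⟨x₁, rfl⟩ := hex x (h₃ _ fun n => by
    obtain ⟨y, hy⟩ := hx n
    exact ⟨g y, by rw [hy, map_smul]⟩)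
  rw [h₁ x₁ fun n => ?_, map_zero]
  obtain ⟨y, hy⟩ := hx (n + N)
  exact exists_of_smul_eq hex hgf hN hf (n := n + 1) (y := y) (by rw [hy, show n + 1 + N = n + N + 1 by omega])

include hex hgf hN in
theorem completeAt_middle (hf : Function.Injective f) (hg : Function.Surjective g)
    (h₁ : CompleteAt a M₁) (h₃ : CompleteAt a M₃) : CompleteAt a M := by
  intro s hs
  obtain ⟨c, hc⟩ := h₃ (fun n => g (s n)) fun n m h => by
    obtain ⟨y, hy⟩ := hs n m h
    exact ⟨g y, by rw [← map_sub, hy, map_smul]⟩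
  obtain ⟨c', rfl⟩ := hg c
  have hm : ∀ n, ∃ (m : M₁) (y : M), s n - c' - a ^ (n + 1) • y = f m := fun n => by
    obtain ⟨y, hy⟩ := hc n
    obtain ⟨y', rfl⟩ := hg y
    obtain ⟨m, hm⟩ := hex (s n - c' - a ^ (n + 1) • (-y')) (by
      rw [map_sub, map_sub, map_smul, map_neg, smul_neg, ← hy]
      abel)
    exact ⟨m, -y', hm.symm⟩
  choose m y hmy using hm
  obtain ⟨x, hx⟩ := h₁ (fun n => m (n + N)) fun p q h => by
    obtain ⟨w, hw⟩ := hs (p + N) (q + N) (by omega)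
    refine exists_of_smul_eq hex hgf hN hf (n := p + 1) (y := w + y (p + N) - a ^ (q - p) • y (q + N)) ?_
    rw [map_sub, ← hmy, ← hmy, smul_sub, smul_add, smul_smul, ← pow_add, show p + 1 + N = p + N + 1 by omega,
      show p + N + 1 + (q - p) = q + N + 1 by omega, ← hw]
    abel
  refine ⟨c' + f x, fun n => ?_⟩
  obtain ⟨w, hw⟩ := hs n (n + N) (by omega)
  obtain ⟨z, hz⟩ := hx n
  refine ⟨f z + w - a ^ N • y (n + N), ?_⟩
  have hfx : f x = f (m (n + N)) + a ^ (n + 1) • f z := by rw [← map_smul, ← map_add, ← hz, add_sub_cancel]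
  rw [hfx, ← hmy, smul_sub, smul_add, smul_smul, ← pow_add, ← hw, show n + 1 + N = n + N + 1 by omega]
  abel

end Groth.Agent.ProEtFull
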