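import Groth.Agent.ProEtFull.PullComm
import Groth.Prelude.Def_ARSys

/-!
# The étale adic system underlying an adic pro-étale sheaf
-/

set_option autoImplicit false
set_option linter.style.haveILetI false
set_option backward.isDefEq.respectTransparency false
set_option backward.isDefEq.respectTransparency.types false
set_option maxHeartbeats 1000000
universe u

namespace Groth.Agent.ProEtFull

open CategoryTheory Limits AlgebraicGeometry Opposite

variable {X : Scheme.{u}} [ProEtS.EpsCont X] {Λ : Type (u + 1)} [CommRing Λ]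

theorem epsPullMod_smul {A B : EtModW.Mod Λ X} (a : Λ) (φ : A ⟶ B) :
    (EtModW.epsPullMod Λ X).map (a • φ) = a • (EtModW.epsPullMod Λ X).map φ := by
  haveI : ((ProEtS.eps X).sheafPushforwardContinuous (ModuleCat.{u + 1} Λ)
      X.smallEtaleTopology (Scheme.ProEt.topology X)).Additive := {}
  let adj := epsAdjMod X Λ
  apply (adj.homEquiv _ _).injective
  rw [Adjunction.homEquiv_unit, Adjunction.homEquiv_unit]
  have hR : ((ProEtS.eps X).sheafPushforwardContinuous (ModuleCat.{u + 1} Λ)
      X.smallEtaleTopology (Scheme.ProEt.topology X)).map (a • (EtModW.epsPullMod Λ X).map φ) =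
      a • ((ProEtS.eps X).sheafPushforwardContinuous (ModuleCat.{u + 1} Λ)
      X.smallEtaleTopology (Scheme.ProEt.topology X)).map ((EtModW.epsPullMod Λ X).map φ) := rfl
  rw [hR, Linear.comp_smul]
  have h1 := adj.unit.naturality φ
  have h2 := adj.unit.naturality (a • φ)
  refine h2.symm.trans (Eq.trans ?_ (congrArg (a • ·) h1))
  exact Linear.smul_comp _ _ _ a φ _

theorem killedBy_of_epsPullMod {I : Ideal Λ} {A : EtModW.Mod Λ X} {B : EtModW.ModP Λ X}
    (e : (EtModW.epsPullMod Λ X).obj A ≅ B) (h : ARSys.KilledBy I B) : ARSys.KilledBy I A := fun a ha => by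
  apply (fullyFaithfulEpsPullMod X Λ).map_injective
  rw [epsPullMod_smul, CategoryTheory.Functor.map_id]
  haveI := preservesFiniteLimits_epsPullMod X Λ
  haveI : (EtModW.epsPullMod Λ X).PreservesZeroMorphisms :=
    haveI : (EtModW.epsPullMod Λ X).IsLeftAdjoint := (epsAdjMod X Λ).isLeftAdjoint
    inferInstance
  rw [Functor.map_zero]
  rw [← cancel_mono e.hom, zero_comp, Linear.smul_comp, Category.id_comp,
    show a • e.hom = e.hom ≫ (a • 𝟙 B) by rw [Linear.comp_smul, Category.comp_id], h a ha, comp_zero]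

/-- An adic pro-étale tower comes from an adic étale system. -/
theorem exists_system {I : Ideal Λ} {F : EtModW.ModP Λ X} {Q : ℕᵒᵖ ⥤ EtModW.ModP Λ X}
    (p : (Functor.const ℕᵒᵖ).obj F ⟶ Q) (hQ : ∀ n : ℕ, ARSys.IsQuot (I ^ (n + 1)) (p.app (op n)))
    (E : ℕ → EtModW.Mod Λ X) (e : ∀ n, (EtModW.epsPullMod Λ X).obj (E n) ≅ Q.obj (op n)) :
    ∃ G : ARSys.PS (EtModW.Mod Λ X), ARSys.IsAdic I G ∧ (∀ n, G.obj (op n) = E n) ∧
      Nonempty (G ⋙ EtModW.epsPullMod Λ X ≅ Q) := by
  let ff := fullyFaithfulEpsPullMod X Λ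
  let G : ARSys.PS (EtModW.Mod Λ X) :=
    { obj := fun n => E n.unop
      map := fun {n m} f => ff.preimage ((e n.unop).hom ≫ Q.map f ≫ (e m.unop).inv)
      map_id := fun n => by
        apply ff.map_injective
        simp
      map_comp := fun f g => by
        apply ff.map_injective
        simp }
  let φ : G ⋙ EtModW.epsPullMod Λ X ≅ Q :=
    NatIso.ofComponents (fun n => e n.unop) (fun {n m} f => by simp [G])
  refine ⟨G, ⟨fun n => killedBy_of_epsPullMod (e n) (hQ n).1, fun n m h => ⟨?_, ?_⟩⟩, fun n => rfl, ⟨φ⟩⟩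
  · exact killedBy_of_epsPullMod (e n) (hQ n).1
  intro Y ψ hψ
  -- a morphism out of `Q m` determined after composition with `p`
  have hw : p.app (op m) ≫ Q.map (homOfLE h).op = p.app (op n) :=
    (p.naturality (homOfLE h).op).symm.trans (Category.id_comp _)
  have hepi : ∀ k, Epi (p.app (op k)) := fun k => ⟨fun {Z} a b hab => ((hQ k).2 Z (p.app (op k) ≫ a) fun c hc => by
    have hh : c • (p.app (op k) ≫ a) = p.app (op k) ≫ (c • 𝟙 (Q.obj (op k))) ≫ a := by simp
    rw [hh, (hQ k).1 c hc, zero_comp, comp_zero]).unique rfl hab.symm⟩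
  haveI := hepi m
  haveI := hepi n
  let t := p.app (op m) ≫ (e m).inv ≫ (EtModW.epsPullMod Λ X).map ψ
  obtain ⟨θ, hθ, huniq⟩ := (hQ n).2 _ t fun a ha => by
    rw [← Linear.comp_smul, ← Linear.comp_smul, ← epsPullMod_smul, hψ a ha]
    haveI : (EtModW.epsPullMod Λ X).PreservesZeroMorphisms :=
      haveI : (EtModW.epsPullMod Λ X).IsLeftAdjoint := (epsAdjMod X Λ).isLeftAdjoint
      inferInstance
    rw [Functor.map_zero, comp_zero, comp_zero]
  refine ⟨ff.preimage ((e n).hom ≫ θ), ?_, fun χ hχ => ?_⟩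
  · apply ff.map_injective
    rw [Functor.map_comp, show (EtModW.epsPullMod Λ X).map (ARSys.tr G h) =
      (e m).hom ≫ Q.map (homOfLE h).op ≫ (e n).inv from ff.map_preimage _, ff.map_preimage]
    rw [← cancel_epi (e m).inv, ← cancel_epi (p.app (op m))]
    simp only [Category.assoc, Iso.inv_hom_id_assoc]
    rw [← Category.assoc, hw]
    exact hθ
  · apply ff.map_injective
    rw [ff.map_preimage]
    refine (Iso.inv_comp_eq _).1 (huniq _ ?_)
    rw [← hw]
    simp only [Category.assoc]
    show _ = t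
    have h1 := congrArg (EtModW.epsPullMod Λ X).map hχ
    rw [Functor.map_comp, show (EtModW.epsPullMod Λ X).map (ARSys.tr G h) =
      (e m).hom ≫ Q.map (homOfLE h).op ≫ (e n).inv from ff.map_preimage _] at h1
    simp only [t]
    rw [← h1]
    simp

end Groth.Agent.ProEtFull
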