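import Groth.Agent.ProEtFull.AdicTransfer

/-!
# The recollement exact sequence for pro-étale sheaves of modules
-/

set_option autoImplicit false
set_option linter.style.haveILetI false
set_option linter.unusedSectionVars false
set_option backward.isDefEq.respectTransparency false
set_option backward.isDefEq.respectTransparency.types false
set_option maxHeartbeats 1000000
universe u

noncomputable section

namespace Groth.Agent.ProEtFull

open CategoryTheory Limits AlgebraicGeometry Opposite
open Groth.Agent.EtSixLib (coind)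

variable (Λ : Type (u + 1)) [CommRing Λ]

section Comparison

variable {C : Type (u + 1)} [Category.{u} C] {J : GrothendieckTopology C}
  {D : Type (u + 1)} [Category.{u} D] {K : GrothendieckTopology D}
  [J.HasSheafCompose (forget₂ (ModuleCat.{u + 1} Λ) AddCommGrpCat.{u + 1})]
  [K.HasSheafCompose (forget₂ (ModuleCat.{u + 1} Λ) AddCommGrpCat.{u + 1})]
  [J.HasSheafCompose (coind Λ)] [K.HasSheafCompose (coind Λ)]
  (G : C ⥤ D) [G.IsContinuous J K]
  [(G.sheafPushforwardContinuous (ModuleCat.{u + 1} Λ) J K).IsRightAdjoint]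
  [(G.sheafPushforwardContinuous AddCommGrpCat.{u + 1} J K).IsRightAdjoint]

/-- The counit on modules lies over the counit on abelian sheaves. -/
theorem exists_counit_forget_iso (F : Sheaf K (ModuleCat.{u + 1} Λ)) :
    ∃ e : (G.sheafPullback AddCommGrpCat.{u + 1} J K).obj
          ((G.sheafPushforwardContinuous AddCommGrpCat.{u + 1} J K).obj ((forgetSh Λ K).obj F)) ≅
        (forgetSh Λ K).obj ((G.sheafPullback (ModuleCat.{u + 1} Λ) J K).obj
          ((G.sheafPushforwardContinuous (ModuleCat.{u + 1} Λ) J K).obj F)),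
      e.hom ≫ (forgetSh Λ K).map ((G.sheafAdjunctionContinuous (ModuleCat.{u + 1} Λ) J K).counit.app F) =
        (G.sheafAdjunctionContinuous AddCommGrpCat.{u + 1} J K).counit.app ((forgetSh Λ K).obj F) := by
  let aM := G.sheafAdjunctionContinuous (ModuleCat.{u + 1} Λ) J K
  let aA := G.sheafAdjunctionContinuous AddCommGrpCat.{u + 1} J K
  let RM := G.sheafPushforwardContinuous (ModuleCat.{u + 1} Λ) J K
  obtain ⟨e, he⟩ := exists_pullback_forget_iso Λ (K := K) G (RM.obj F)
  refine ⟨e, ?_⟩
  apply (aA.homEquiv _ _).injective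
  rw [Adjunction.homEquiv_unit, Adjunction.homEquiv_unit, Functor.map_comp]
  refine (Category.assoc _ _ _).symm.trans ?_
  refine (congrArg (· ≫ _) he).trans ?_
  refine Eq.trans ?_ (aA.right_triangle_components ((forgetSh Λ K).obj F)).symm
  show (forgetSh Λ J).map (aM.unit.app (RM.obj F)) ≫ (forgetSh Λ J).map (RM.map (aM.counit.app F)) = _
  exact ((forgetSh Λ J).map_comp _ _).symm.trans ((congrArg (forgetSh Λ J).map
    (aM.right_triangle_components F)).trans ((forgetSh Λ J).map_id _))

end Comparison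

variable {Z X U : Scheme.{u}} (i : Z ⟶ X) [IsClosedImmersion i] (j : U ⟶ X) [IsOpenImmersion j] [WeaklyEtale j]
  [QuasiCompact j] [ProEtS.PCont i] [ProEtS.JPCont j] (hc : Set.range j = (Set.range i)ᶜ)

/-- Restriction on pro-étale sheaves of modules along a weakly étale map. -/
abbrev restrPMod : EtModW.ModP Λ X ⥤ EtModW.ModP Λ U :=
  (ProEtS.compP j).sheafPushforwardContinuous (ModuleCat.{u + 1} Λ) (Scheme.ProEt.topology U) (Scheme.ProEt.topology X)

/-- The adjunction of extension by zero and restriction on modules. -/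
abbrev extRestrMod : extPMod Λ j ⊣ restrPMod Λ j :=
  (ProEtS.compP j).sheafAdjunctionContinuous (ModuleCat.{u + 1} Λ) (Scheme.ProEt.topology U) (Scheme.ProEt.topology X)

include hc in
/-- `0 → j_! j^* F → F → i_* i^* F → 0`. -/
theorem exists_recollement (F : EtModW.ModP Λ X) :
    ∃ w : (extRestrMod Λ j).counit.app F ≫ (pullPushMod Λ i).unit.app F = 0,
      (ShortComplex.mk _ _ w).ShortExact := by
  let Φ := forgetSh Λ (Scheme.ProEt.topology X)
  obtain ⟨e₁, h₁⟩ := exists_counit_forget_iso Λ (J := Scheme.ProEt.topology U) (K := Scheme.ProEt.topology X) (ProEtS.compP j) F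
  obtain ⟨e₂, h₂⟩ := exists_pullback_forget_iso Λ (K := Scheme.ProEt.topology Z) (ProEtS.bcP i) F
  let ε := (ProEtS.extZeroPAdj j).counit.app (Φ.obj F)
  let η := (ProEtS.pullPushAdjP i).unit.app (Φ.obj F)
  let c₃ : (ProEtS.pushP i).obj ((ProEtS.pullP i).obj (Φ.obj F)) ≅
      Φ.obj ((pushPMod Λ i).obj ((pullPMod i Λ).obj F)) := (ProEtS.pushP i).mapIso e₂
  have hz := Rec.counit_unit i j hc (Φ.obj F)
  haveI : Φ.Additive := {}
  have w : (extRestrMod Λ j).counit.app F ≫ (pullPushMod Λ i).unit.app F = 0 := by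
    apply Φ.map_injective
    rw [Functor.map_comp, Functor.map_zero, ← cancel_epi e₁.hom, comp_zero]
    refine (Category.assoc _ _ _).symm.trans ((congrArg (· ≫ _) h₁).trans ?_)
    refine (congrArg (ε ≫ ·) h₂.symm).trans ?_
    refine (Category.assoc _ _ _).symm.trans ((congrArg (· ≫ _) hz).trans zero_comp)
  refine ⟨w, ?_⟩
  haveI : PreservesLimits (forget₂ (ModuleCat.{u + 1} Λ) AddCommGrpCat.{u + 1}) := inferInstance
  haveI : PreservesFiniteLimits Φ := by
    refine ⟨fun K _ _ => ?_⟩
    haveI : PreservesLimitsOfShape K (Φ ⋙ sheafToPresheaf _ _) :=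
      inferInstanceAs (PreservesLimitsOfShape K (sheafToPresheaf (Scheme.ProEt.topology X) (ModuleCat.{u + 1} Λ) ⋙
        (Functor.whiskeringRight _ _ _).obj (forget₂ (ModuleCat.{u + 1} Λ) AddCommGrpCat.{u + 1})))
    exact preservesLimitsOfShape_of_reflects_of_preserves _ (sheafToPresheaf _ _)
  haveI : PreservesFiniteColimits Φ :=
    haveI : Φ.IsLeftAdjoint := (forgetShAdj Λ (Scheme.ProEt.topology X)).isLeftAdjoint
    PreservesColimitsOfSize.preservesFiniteColimits.{0, 0} _
  haveI : Φ.PreservesHomology := inferInstance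
  have hS := Rec.shortExact i j hc (Φ.obj F)
  have hT : ((ShortComplex.mk _ _ w).map Φ).ShortExact := by
    refine (ShortComplex.shortExact_iff_of_iso ?_).1 hS
    exact ShortComplex.isoMk e₁ (Iso.refl _) c₃
      (h₁.trans (Category.comp_id _).symm) ((Category.id_comp _).trans h₂.symm)
  exact { exact := Φ.reflects_exact_of_faithful _ hT.1
          mono_f := Φ.mono_of_mono_map hT.mono_f
          epi_g := Φ.epi_of_epi_map hT.epi_g }

/-- Inverse image along an open immersion is restriction. -/
def pullRestrIso [ProEtS.PCont j] : pullPMod j Λ ≅ restrPMod Λ j :=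
  ((ProEtS.bcP j).sheafAdjunctionContinuous (ModuleCat.{u + 1} Λ) (Scheme.ProEt.topology X)
    (Scheme.ProEt.topology U)).leftAdjointUniq
      ((MorphismProperty.Over.mapPullbackAdj (@WeaklyEtale) ⊤ j (inferInstance : WeaklyEtale j) ⟨⟩ :
        ProEtS.compP j ⊣ ProEtS.bcP j).sheafPushforwardContinuous (Scheme.ProEt.topology U) (Scheme.ProEt.topology X))

end Groth.Agent.ProEtFull
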