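import Groth.Agent.ProEtFull.Recollement
import Mathlib.CategoryTheory.Limits.Preserves.Limits

/-!
# Extension by zero along a retrocompact open immersion commutes with limits on the pro-étale site
-/

set_option autoImplicit false
set_option linter.style.haveILetI false
set_option linter.unusedSectionVars false
set_option backward.isDefEq.respectTransparency false
set_option backward.isDefEq.respectTransparency.types false
set_option maxHeartbeats 800000
universe u

noncomputable section

namespace Groth.Agent.ProEtFull.Rec

open CategoryTheory Limits AlgebraicGeometry Opposite ProEtWC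

variable {X U : Scheme.{u}} (j : U ⟶ X) [IsOpenImmersion j] [QuasiCompact j] [ProEtS.JPCont j]

/-- The reduced complement. -/
def complIdeal : X.IdealSheafData :=
  Scheme.IdealSheafData.vanishingIdeal ⟨(Set.range j)ᶜ, j.isOpenEmbedding.isOpen_range.isClosed_compl⟩

theorem range_compl : Set.range j = (Set.range (complIdeal j).subschemeι)ᶜ := by
  rw [Scheme.IdealSheafData.range_subschemeι, complIdeal, Scheme.IdealSheafData.coe_support_vanishingIdeal]
  exact (compl_compl _).symm

theorem preservesLimitsOfShape_extZero (J : Type u) [SmallCategory J] :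
    PreservesLimitsOfShape J (ProEtS.extZeroP j) where
  preservesLimit {K} := by
    let L := ProEtS.extZeroP j
    let φ := limit.post K L
    suffices hφ : IsIso φ by exact preservesLimit_of_isIso_post (G := L) (F := K)
    let R := ProEtS.restrP j
    haveI : ProEtS.PCont j := Groth.Agent.ProEtSLib.pCont j
    haveI := (ProEtSLib.unit_counit_isIso j).1
    haveI : PreservesLimitsOfShape J R := (ProEtS.extZeroPAdj j).rightAdjoint_preservesLimits.preservesLimitsOfShape
    haveI : PreservesLimitsOfShape J (L ⋙ R) :=
      preservesLimitsOfShape_of_natIso (asIso (ProEtS.extZeroPAdj j).unit)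
    haveI hR : IsIso (R.map φ) := by
      have h1 : IsIso (limit.post K (L ⋙ R)) := inferInstance
      haveI : IsIso (limit.post (K ⋙ L) R) := inferInstance
      rw [← limit.post_post K L R] at h1
      exact IsIso.of_isIso_comp_right _ (limit.post (K ⋙ L) R)
    let i := (complIdeal j).subschemeι
    have hc := range_compl j
    haveI : ProEtS.PCont i := Groth.Agent.ProEtSLib.pCont i
    have hlift : ∀ {V : X.ProEt}, IsLift i V → Subsingleton (ProEtS.sectP (limit (K ⋙ L)) V) := fun {V} hV => by
      let G := sheafToPresheaf (Scheme.ProEt.topology X) AddCommGrpCat.{u + 1} ⋙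
        (evaluation X.ProEtᵒᵖ AddCommGrpCat.{u + 1}).obj (op V)
      haveI : PreservesLimitsOfShape J G := inferInstance
      refine ⟨fun x y => Concrete.isLimit_ext ((K ⋙ L) ⋙ G) (isLimitOfPreserves G (limit.isLimit (K ⋙ L))) x y fun k => ?_⟩
      haveI := subsingleton_extZero_lift i j hc (K.obj k) hV
      exact Subsingleton.elim (α := ProEtS.sectP ((ProEtS.extZeroP j).obj (K.obj k)) V) _ _
    have hopen : ∀ {V : X.ProEt}, Set.range V.hom ⊆ Set.range j → Function.Bijective (φ.hom.app (op V)) := fun {V} hV => by
      obtain ⟨T, ⟨e⟩⟩ := exists_iso_compP j hV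
      have hb : Function.Bijective (φ.hom.app (op ((ProEtS.compP j).obj T))) :=
        ConcreteCategory.bijective_of_isIso
          (((sheafToPresheaf (Scheme.ProEt.topology U) AddCommGrpCat.{u + 1}).map (R.map φ)).app (op T))
      have h1 := ConcreteCategory.bijective_of_isIso ((L.obj (limit K)).obj.map e.hom.op)
      have h2 := ConcreteCategory.bijective_of_isIso ((limit (K ⋙ L)).obj.map e.hom.op)
      have key : φ.hom.app (op V) ∘ (L.obj (limit K)).obj.map e.hom.op =
          (limit (K ⋙ L)).obj.map e.hom.op ∘ φ.hom.app (op ((ProEtS.compP j).obj T)) :=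
        funext fun x => NatTrans.naturality_apply φ.hom e.hom.op x
      exact (Function.Bijective.of_comp_iff _ h1).1 (key ▸ h2.comp hb)
    haveI : Sheaf.IsLocallyInjective φ := ⟨fun {W} x y hxy => by
      refine mem_of_lifts i j hc _ (fun V g hV => ?_) fun V g hV => ?_
      · haveI := subsingleton_extZero_lift i j hc (limit K) hV
        exact Subsingleton.elim (α := ProEtS.sectP ((ProEtS.extZeroP j).obj (limit K)) V) _ _
      · exact (hopen hV).1 (by rw [NatTrans.naturality_apply, NatTrans.naturality_apply, hxy])⟩
    haveI : Sheaf.IsLocallySurjective φ := ⟨fun {W} t => by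
      refine mem_of_lifts i j hc _ (fun V g hV => ?_) fun V g hV => ?_
      · haveI := hlift hV
        exact ⟨0, Subsingleton.elim (α := ProEtS.sectP (limit (K ⋙ L)) V) _ _⟩
      · exact (hopen hV).2 _⟩
    haveI : Mono φ := Sheaf.mono_of_isLocallyInjective φ
    haveI : Epi φ := Sheaf.epi_of_isLocallySurjective φ
    exact isIso_of_mono_of_epi φ

end Groth.Agent.ProEtFull.Rec
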