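import Groth.Agent.ProEtFull.EpsExact
import Groth.Prelude.Def_EtMod2

/-!
# `ε⁻¹` commutes with inverse images
-/

set_option autoImplicit false
set_option linter.style.haveILetI false
set_option backward.isDefEq.respectTransparency false
set_option backward.isDefEq.respectTransparency.types false
set_option maxHeartbeats 1000000
universe u

namespace Groth.Agent.ProEtFull

open CategoryTheory Limits AlgebraicGeometry Opposite

variable {T X : Scheme.{u}} (g : T ⟶ X)

/-- Base change commutes with the inclusion of the étale site into the pro-étale site. -/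
noncomputable def bcEpsIso : EtCoh.bc g ⋙ ProEtS.eps T ≅ ProEtS.eps X ⋙ ProEtS.bcP g :=
  NatIso.ofComponents (fun U => MorphismProperty.Over.isoMk (Iso.refl _))
    (fun f => by
      apply (Scheme.ProEt.forget T ⋙ Over.forget T).map_injective
      exact (Category.comp_id _).trans (Category.id_comp _).symm)

variable (Λ : Type (u + 1)) [CommRing Λ] [ProEtS.EpsCont T] [ProEtS.EpsCont X] [ProEtS.PCont g]

/-- `g⁻¹` on pro-étale sheaves of modules. -/
noncomputable abbrev pullPMod : EtModW.ModP Λ X ⥤ EtModW.ModP Λ T :=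
  (ProEtS.bcP g).sheafPullback (ModuleCat.{u + 1} Λ) (Scheme.ProEt.topology X) (Scheme.ProEt.topology T)

/-- `g⁻¹ ε⁻¹ ≅ ε⁻¹ g⁻¹`. -/
noncomputable def pullEpsIso :
    EtModW.epsPullMod Λ X ⋙ pullPMod g Λ ≅ EtModW.pull Λ g ⋙ EtModW.epsPullMod Λ T :=
  let a := (epsAdjMod X Λ).comp ((ProEtS.bcP g).sheafAdjunctionContinuous (ModuleCat.{u + 1} Λ)
    (Scheme.ProEt.topology X) (Scheme.ProEt.topology T))
  let b := ((EtCoh.bc g).sheafAdjunctionContinuous (ModuleCat.{u + 1} Λ) X.smallEtaleTopology
    T.smallEtaleTopology).comp (epsAdjMod T Λ)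
  let e : (ProEtS.eps T).sheafPushforwardContinuous (ModuleCat.{u + 1} Λ) T.smallEtaleTopology
        (Scheme.ProEt.topology T) ⋙ (EtCoh.bc g).sheafPushforwardContinuous (ModuleCat.{u + 1} Λ)
          X.smallEtaleTopology T.smallEtaleTopology ≅
      (ProEtS.bcP g).sheafPushforwardContinuous (ModuleCat.{u + 1} Λ) (Scheme.ProEt.topology X)
        (Scheme.ProEt.topology T) ⋙ (ProEtS.eps X).sheafPushforwardContinuous (ModuleCat.{u + 1} Λ)
          X.smallEtaleTopology (Scheme.ProEt.topology X) :=
    NatIso.ofComponents (fun F => (fullyFaithfulSheafToPresheaf _ _).preimageIso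
      (Functor.isoWhiskerRight (NatIso.op (bcEpsIso g)).symm F.obj))
      (fun {F F'} φ => by
        ext W s
        exact (NatTrans.naturality_apply φ.hom _ s).symm)
  Adjunction.leftAdjointUniq a (b.ofNatIsoRight e)

end Groth.Agent.ProEtFull
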