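import Groth.Agent.ProEtFull.IndBasis
import Groth.Agent.ProEtFull.PullComm

/-!
# `ε⁻¹` commutes with direct images along quasi-compact quasi-separated morphisms
-/

set_option autoImplicit false
set_option linter.style.haveILetI false
set_option backward.isDefEq.respectTransparency false
set_option backward.isDefEq.respectTransparency.types false
set_option maxHeartbeats 1000000
universe u

noncomputable section

namespace Groth.Agent.ProEtFull

open CategoryTheory Limits AlgebraicGeometry Opposite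

variable {X Y : Scheme.{u}} (f : X ⟶ Y)

theorem qcqs_bc [QuasiCompact f] [QuasiSeparated f] (W : Y.Etale) [CompactSpace ↥W.left]
    [QuasiSeparatedSpace ↥W.left] :
    CompactSpace ↥((EtCoh.bc f).obj W).left ∧ QuasiSeparatedSpace ↥((EtCoh.bc f).obj W).left := by
  haveI : QuasiCompact (pullback.fst W.hom f) := inferInstance
  haveI : QuasiSeparated (pullback.fst W.hom f) := inferInstance
  haveI : CompactSpace ↥((𝟭 Scheme).obj W.left) := ‹CompactSpace ↥W.left›
  haveI : QuasiSeparatedSpace ↥((𝟭 Scheme).obj W.left) := ‹QuasiSeparatedSpace ↥W.left›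
  exact ⟨QuasiCompact.compactSpace_of_compactSpace (pullback.fst W.hom f),
    quasiSeparatedSpace_of_quasiSeparated (pullback.fst W.hom f)⟩

theorem isAffineHom_bc {W W' : Y.Etale} (g : W ⟶ W') [IsAffineHom g.left] :
    IsAffineHom ((EtCoh.bc f).map g).left :=
  MorphismProperty.of_isPullback (P := @IsAffineHom) (EtCoh.isPullback_bc_map f g).flip ‹IsAffineHom g.left›

/-- Base change along `f` of a limit in the pro-étale site is a limit. -/
theorem isLimit_bcP {I : Type u} [SmallCategory I] [IsConnected I] {D : I ⥤ Y.ProEt} (c : Cone D)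
    (hc : IsLimit ((Scheme.ProEt.forget Y ⋙ Over.forget Y).mapCone c)) :
    Nonempty (IsLimit ((Scheme.ProEt.forget X ⋙ Over.forget X).mapCone ((ProEtS.bcP f).mapCone c))) := by
  have h1 : IsLimit ((Scheme.ProEt.forget Y).mapCone c) := isLimitOfReflects (Over.forget Y) hc
  haveI : (Over.pullback f).IsRightAdjoint := (Over.mapPullbackAdj f).isRightAdjoint
  exact ⟨isLimitOfPreserves (Over.forget X) (isLimitOfPreserves (Over.pullback f) h1)⟩

variable [ProEtS.EpsCont X] [ProEtS.EpsCont Y] [ProEtS.PCont f]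

/-- `ε_* f_* ≅ f_* ε_*`. -/
def pushEpsPushIso : ProEtS.pushP f ⋙ ProEtS.epsPush Y ≅ ProEtS.epsPush X ⋙ EtCoh.push f :=
  NatIso.ofComponents (fun G => (fullyFaithfulSheafToPresheaf _ _).preimageIso
      (Functor.isoWhiskerRight (NatIso.op (bcEpsIso f)) G.obj))
    (fun {G G'} φ => by
      ext W s
      exact (NatTrans.naturality_apply φ.hom _ s).symm)

/-- `f_* ≅ ε_* f_* ε⁻¹`. -/
def pushUnitIso : EtCoh.push f ≅ ProEtS.epsPull X ⋙ ProEtS.pushP f ⋙ ProEtS.epsPush Y :=
  haveI : ∀ F, IsIso ((ProEtS.epsAdj X).unit.app F) := fun F => isIso_epsAdj_unit F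
  haveI : IsIso (ProEtS.epsAdj X).unit := NatIso.isIso_of_isIso_app _
  (Functor.leftUnitor _).symm ≪≫ Functor.isoWhiskerRight (asIso (ProEtS.epsAdj X).unit) (EtCoh.push f) ≪≫
    Functor.associator _ _ _ ≪≫ Functor.isoWhiskerLeft _ (pushEpsPushIso f).symm

/-- The comparison `ε⁻¹ f_* ⟶ f_* ε⁻¹`. -/
def epsPushCmp : EtCoh.push f ⋙ ProEtS.epsPull Y ⟶ ProEtS.epsPull X ⋙ ProEtS.pushP f where
  app F := (ProEtS.epsPull Y).map ((pushUnitIso f).hom.app F) ≫
    (ProEtS.epsAdj Y).counit.app ((ProEtS.pushP f).obj ((ProEtS.epsPull X).obj F))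
  naturality F F' φ := by
    show (ProEtS.epsPull Y).map ((EtCoh.push f).map φ) ≫ _ ≫ _ = (_ ≫ _) ≫ _
    rw [← Functor.map_comp_assoc, (pushUnitIso f).hom.naturality φ, Functor.map_comp, Category.assoc,
      Category.assoc]
    refine congrArg ((ProEtS.epsPull Y).map ((pushUnitIso f).hom.app F) ≫ ·) ?_
    exact (ProEtS.epsAdj Y).counit.naturality _

theorem isIso_counit_pushP [QuasiCompact f] [QuasiSeparated f] (F : EtCoh.Ab X) :
    IsIso ((ProEtS.epsAdj Y).counit.app ((ProEtS.pushP f).obj ((ProEtS.epsPull X).obj F))) := by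
  refine isIso_counit_of_isColimit _ fun {α} _ _ _ D c hD hc => ?_
  haveI : IsConnected α := IsFiltered.isConnected α
  haveI : IsConnected αᵒᵖ := inferInstance
  obtain ⟨hc'⟩ := isLimit_bcP f c hc
  haveI : ∀ (i j : αᵒᵖ) (a : i ⟶ j), IsAffineHom (((D ⋙ ProEtS.eps Y) ⋙ ProEtS.bcP f).map a).left :=
    fun i j a => by
      haveI := hD i
      haveI := hD j
      haveI : IsAffineHom (D.map a).left := by
        haveI : IsAffine ((𝟭 Scheme).obj (D.obj i).left) := hD i
        haveI : IsAffine ((𝟭 Scheme).obj (D.obj j).left) := hD j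
        infer_instance
      exact isAffineHom_bc f (D.map a)
  haveI : ∀ a, CompactSpace ↥(((D ⋙ ProEtS.eps Y) ⋙ ProEtS.bcP f).obj a).left := fun a => by
    haveI := hD a
    exact (qcqs_bc f (D.obj a)).1
  haveI : ∀ a, QuasiSeparatedSpace ↥(((D ⋙ ProEtS.eps Y) ⋙ ProEtS.bcP f).obj a).left := fun a => by
    haveI := hD a
    exact (qcqs_bc f (D.obj a)).2
  exact nonempty_isColimit_epsPull F ((D ⋙ ProEtS.eps Y) ⋙ ProEtS.bcP f) ((ProEtS.bcP f).mapCone c) hc'

/-- `ε⁻¹ f_* ≅ f_* ε⁻¹` for quasi-compact quasi-separated `f`. -/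
def epsPushIso [QuasiCompact f] [QuasiSeparated f] :
    EtCoh.push f ⋙ ProEtS.epsPull Y ≅ ProEtS.epsPull X ⋙ ProEtS.pushP f :=
  haveI : ∀ F, IsIso ((epsPushCmp f).app F) := fun F => by
    haveI := isIso_counit_pushP f F
    exact inferInstanceAs (IsIso ((ProEtS.epsPull Y).map ((pushUnitIso f).hom.app F) ≫
      (ProEtS.epsAdj Y).counit.app ((ProEtS.pushP f).obj ((ProEtS.epsPull X).obj F))))
  haveI : IsIso (epsPushCmp f) := NatIso.isIso_of_isIso_app _
  asIso (epsPushCmp f)

end Groth.Agent.ProEtFull
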