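import Groth.Agent.ProEtFull.AdicP
import Groth.Agent.ProEtFull.PushEps
import Groth.Agent.ProEtFull.AdicExactLim
import Groth.Agent.ProEtFull.ExtZeroLimits

/-!
# Adic pro-étale sheaves under direct image along a closed immersion and extension by zero
-/

set_option autoImplicit false
set_option linter.style.haveILetI false
set_option linter.unusedSectionVars false
set_option backward.isDefEq.respectTransparency false
set_option backward.isDefEq.respectTransparency.types false
set_option maxHeartbeats 1000000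
universe u

noncomputable section

namespace Groth.Agent.ProEtFull

open CategoryTheory Limits AlgebraicGeometry Opposite
open Groth.Agent.EtSixLib (coind)

variable (Λ : Type (u + 1)) [CommRing Λ]

section Transfer

variable {Λ}
variable {T X : Scheme.{u}} [ProEtS.EpsCont T] [ProEtS.EpsCont X] (I : Ideal Λ)

/-- The adic condition is transported by a functor with the evident properties. -/
theorem adic_map (L : EtModW.ModP Λ T ⥤ EtModW.ModP Λ X)
    [PreservesLimitsOfShape ℕᵒᵖ L]
    (hquot : ∀ {F Q : EtModW.ModP Λ T} (p : F ⟶ Q) (n : ℕ), ARSys.IsQuot (I ^ (n + 1)) p →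
      ARSys.IsQuot (I ^ (n + 1)) (L.map p))
    (hcons : ∀ E : EtModW.Mod Λ T, EtModW.IsConstructible Λ E → ∃ E' : EtModW.Mod Λ X,
      EtModW.IsConstructible Λ E' ∧ Nonempty ((EtModW.epsPullMod Λ X).obj E' ≅ L.obj ((EtModW.epsPullMod Λ T).obj E)))
    (F : EtModW.ModP Λ T)
    (hF : (∃ (Q : ℕᵒᵖ ⥤ EtModW.ModP Λ T) (p : (Functor.const ℕᵒᵖ).obj F ⟶ Q),
        (∀ n : ℕ, ARSys.IsQuot (I ^ (n + 1)) (p.app (op n))) ∧
        (∀ n : ℕ, ∃ E : EtModW.Mod Λ T, EtModW.IsConstructible Λ E ∧
          Nonempty ((EtModW.epsPullMod Λ T).obj E ≅ Q.obj (op n))) ∧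
        IsIso (limit.lift Q (Cone.mk F p)))) :
    (∃ (Q : ℕᵒᵖ ⥤ EtModW.ModP Λ X) (p : (Functor.const ℕᵒᵖ).obj (L.obj F) ⟶ Q),
      (∀ n : ℕ, ARSys.IsQuot (I ^ (n + 1)) (p.app (op n))) ∧
      (∀ n : ℕ, ∃ E : EtModW.Mod Λ X, EtModW.IsConstructible Λ E ∧
        Nonempty ((EtModW.epsPullMod Λ X).obj E ≅ Q.obj (op n))) ∧
      IsIso (limit.lift Q (Cone.mk (L.obj F) p))) := by
  obtain ⟨Q, p, hQ, hc, hl⟩ := hF
  refine ⟨Q ⋙ L, (L.mapCone (Cone.mk F p)).π, fun n => hquot _ n (hQ n), fun n => ?_, ?_⟩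
  · obtain ⟨E, hE, ⟨e⟩⟩ := hc n
    obtain ⟨E', hE', ⟨e'⟩⟩ := hcons E hE
    exact ⟨E', hE', ⟨e' ≪≫ L.mapIso e⟩⟩
  · haveI := hl
    have hlim : IsLimit (Cone.mk F p) :=
      (limit.isLimit Q).ofPointIso (i := (by exact hl))
    have h' := isLimitOfPreserves L hlim
    have e : limit.lift (Q ⋙ L) (L.mapCone (Cone.mk F p)) =
        (h'.conePointUniqueUpToIso (limit.isLimit (Q ⋙ L))).hom :=
      limit.hom_ext fun j => by
        rw [limit.lift_π]
        exact (h'.conePointUniqueUpToIso_hom_comp (limit.isLimit (Q ⋙ L)) j).symm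
    show IsIso (limit.lift (Q ⋙ L) (L.mapCone (Cone.mk F p)))
    rw [e]
    infer_instance

end Transfer

section LeftAdjoint

variable {Λ}
variable {C D : Type*} [Category C] [Preadditive C] [Linear Λ C] [Category D] [Preadditive D] [Linear Λ D]

/-- A left adjoint of a linear functor is linear and preserves quotient maps. -/
theorem isQuot_leftAdjoint {L : C ⥤ D} {R : D ⥤ C} (adj : L ⊣ R) [L.Additive] [R.Additive]
    (hR : ∀ {A B : D} (a : Λ) (φ : A ⟶ B), R.map (a • φ) = a • R.map φ)
    {J : Ideal Λ} {A B : C} {f : A ⟶ B} (h : ARSys.IsQuot J f) : ARSys.IsQuot J (L.map f) := by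
  have hL : ∀ {A B : C} (a : Λ) (φ : A ⟶ B), L.map (a • φ) = a • L.map φ := fun {A B} a φ => by
    apply (adj.homEquiv _ _).injective
    rw [Adjunction.homEquiv_unit, Adjunction.homEquiv_unit, hR, Linear.comp_smul]
    have h1 := adj.unit.naturality φ
    have h2 := adj.unit.naturality (a • φ)
    refine h2.symm.trans (Eq.trans ?_ (congrArg (a • ·) h1))
    exact Linear.smul_comp _ _ _ a φ _
  refine ⟨fun a ha => ?_, fun Y φ hφ => ?_⟩
  · rw [← CategoryTheory.Functor.map_id, ← hL, h.1 a ha, L.map_zero]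
  obtain ⟨ψ, hψ, hu⟩ := h.2 _ (adj.homEquiv A Y φ) fun a ha => by
    rw [Adjunction.homEquiv_unit, ← Linear.comp_smul, ← hR, hφ a ha, R.map_zero, comp_zero]
  refine ⟨(adj.homEquiv B Y).symm ψ, ?_, fun χ hχ => ?_⟩
  · show _ ≫ _ = _
    rw [← Adjunction.homEquiv_naturality_left_symm, hψ, Equiv.symm_apply_apply]
  · rw [← hu (adj.homEquiv B Y χ) ?_, Equiv.symm_apply_apply]
    show _ ≫ _ = _
    rw [← Adjunction.homEquiv_naturality_left, hχ]

end LeftAdjoint

section Comparison

variable {C : Type (u + 1)} [Category.{u} C] {J : GrothendieckTopology C}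
  {D : Type (u + 1)} [Category.{u} D] {K : GrothendieckTopology D}
  [J.HasSheafCompose (forget₂ (ModuleCat.{u + 1} Λ) AddCommGrpCat.{u + 1})]
  [K.HasSheafCompose (forget₂ (ModuleCat.{u + 1} Λ) AddCommGrpCat.{u + 1})]
  [J.HasSheafCompose (coind Λ)] [K.HasSheafCompose (coind Λ)]
  (G : C ⥤ D) [G.IsContinuous J K]
  [(G.sheafPushforwardContinuous (ModuleCat.{u + 1} Λ) J K).IsRightAdjoint]
  [(G.sheafPushforwardContinuous AddCommGrpCat.{u + 1} J K).IsRightAdjoint]

/-- The counit on modules is invertible where it is on the underlying abelian sheaves. -/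
theorem isIso_counit_mod (F : Sheaf K (ModuleCat.{u + 1} Λ))
    (h : IsIso ((G.sheafAdjunctionContinuous AddCommGrpCat.{u + 1} J K).counit.app ((forgetSh Λ K).obj F))) :
    IsIso ((G.sheafAdjunctionContinuous (ModuleCat.{u + 1} Λ) J K).counit.app F) := by
  let aM := G.sheafAdjunctionContinuous (ModuleCat.{u + 1} Λ) J K
  let aA := G.sheafAdjunctionContinuous AddCommGrpCat.{u + 1} J K
  let RM := G.sheafPushforwardContinuous (ModuleCat.{u + 1} Λ) J K
  obtain ⟨e, he⟩ := exists_pullback_forget_iso Λ (K := K) G (RM.obj F)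
  have key : e.hom ≫ (forgetSh Λ K).map (aM.counit.app F) = aA.counit.app ((forgetSh Λ K).obj F) := by
    apply (aA.homEquiv _ _).injective
    rw [Adjunction.homEquiv_unit, Adjunction.homEquiv_unit, Functor.map_comp]
    refine (Category.assoc _ _ _).symm.trans ?_
    refine (congrArg (· ≫ _) he).trans ?_
    refine Eq.trans ?_ (aA.right_triangle_components ((forgetSh Λ K).obj F)).symm
    show (forgetSh Λ J).map (aM.unit.app (RM.obj F)) ≫ (forgetSh Λ J).map (RM.map (aM.counit.app F)) = _
    exact ((forgetSh Λ J).map_comp _ _).symm.trans ((congrArg (forgetSh Λ J).map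
      (aM.right_triangle_components F)).trans ((forgetSh Λ J).map_id _))
  haveI : IsIso ((forgetSh Λ K).map (aM.counit.app F)) := by
    haveI : IsIso (aA.counit.app ((forgetSh Λ K).obj F)) := h
    exact IsIso.of_isIso_fac_left key
  haveI : IsIso ((sheafToPresheaf K (ModuleCat.{u + 1} Λ)).map (aM.counit.app F)) := by
    haveI : ∀ V, IsIso ((aM.counit.app F).hom.app V) := fun V => by
      haveI : IsIso ((forget₂ (ModuleCat.{u + 1} Λ) AddCommGrpCat.{u + 1}).map ((aM.counit.app F).hom.app V)) :=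
        inferInstanceAs (IsIso (((sheafToPresheaf K AddCommGrpCat.{u + 1}).map
          ((forgetSh Λ K).map (aM.counit.app F))).app V))
      exact isIso_of_reflects_iso _ (forget₂ (ModuleCat.{u + 1} Λ) AddCommGrpCat.{u + 1})
    exact @NatIso.isIso_of_isIso_app _ _ _ _ _ _ _ this
  exact isIso_of_reflects_iso _ (sheafToPresheaf K (ModuleCat.{u + 1} Λ))

/-- Forgetting commutes with inverse image, naturally. -/
def pullForgetIso : forgetSh Λ J ⋙ G.sheafPullback AddCommGrpCat.{u + 1} J K ≅
    G.sheafPullback (ModuleCat.{u + 1} Λ) J K ⋙ forgetSh Λ K :=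
  let k : G.sheafPushforwardContinuous AddCommGrpCat.{u + 1} J K ⋙ sheafCompose J (coind Λ) ≅
      sheafCompose K (coind Λ) ⋙ G.sheafPushforwardContinuous (ModuleCat.{u + 1} Λ) J K :=
    NatIso.ofComponents (fun _ => Iso.refl _) (fun _ => rfl)
  Adjunction.leftAdjointUniq
    (((forgetShAdj Λ J).comp (G.sheafAdjunctionContinuous AddCommGrpCat.{u + 1} J K)).ofNatIsoRight k)
    ((G.sheafAdjunctionContinuous (ModuleCat.{u + 1} Λ) J K).comp (forgetShAdj Λ K))

end Comparison

section Closed

variable {Z X : Scheme.{u}} (i : Z ⟶ X) [IsClosedImmersion i] [ProEtS.PCont i]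

/-- Direct image on pro-étale sheaves of modules. -/
abbrev pushPMod : EtModW.ModP Λ Z ⥤ EtModW.ModP Λ X :=
  (ProEtS.bcP i).sheafPushforwardContinuous (ModuleCat.{u + 1} Λ) (Scheme.ProEt.topology X) (Scheme.ProEt.topology Z)

/-- The adjunction of inverse and direct image on modules. -/
abbrev pullPushMod : pullPMod i Λ ⊣ pushPMod Λ i :=
  (ProEtS.bcP i).sheafAdjunctionContinuous (ModuleCat.{u + 1} Λ) (Scheme.ProEt.topology X) (Scheme.ProEt.topology Z)

theorem bijective_unit_lift_mod (F : EtModW.ModP Λ X) {V : X.ProEt} (hV : IsLift i V) :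
    Function.Bijective (((pullPushMod Λ i).unit.app F).hom.app (op V)) := by
  obtain ⟨e, he⟩ := exists_pullback_forget_iso Λ (K := Scheme.ProEt.topology Z) (ProEtS.bcP i) F
  have h1 := Rec.bijective_unit_lift i ((forgetSh Λ (Scheme.ProEt.topology X)).obj F) hV
  have h2 : Function.Bijective (((ProEtS.pushP i).map e.hom).hom.app (op V)) :=
    ConcreteCategory.bijective_of_isIso
      (((sheafToPresheaf (Scheme.ProEt.topology Z) AddCommGrpCat.{u + 1}).map e.hom).app
        (op ((ProEtS.bcP i).obj V)))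
  have h3 := congrArg (fun φ => φ.hom.app (op V)) he
  have h4 := h2.comp h1
  have h5 : ⇑(((ProEtS.pushP i).map e.hom).hom.app (op V)).hom ∘ _ = ⇑(((pullPushMod Λ i).unit.app F).hom.app (op V)) :=
    funext fun x => congrArg (fun φ => φ x) h3
  exact h5 ▸ h4

theorem subsingleton_push_open_mod (B : EtModW.ModP Λ Z) {U : Scheme.{u}} (j : U ⟶ X)
    (hc : Set.range j = (Set.range i)ᶜ) {V : X.ProEt} (hV : Set.range V.hom ⊆ Set.range j) :
    Subsingleton (((pushPMod Λ i).obj B).obj.obj (op V)) := by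
  haveI : IsEmpty ((ProEtS.bcP i).obj V).left := ⟨fun p => by
    have h := hV ⟨pullback.fst V.hom i p, rfl⟩
    rw [hc] at h
    exact h ⟨pullback.snd V.hom i p, (Scheme.Hom.comp_apply _ _ _).symm.trans ((congrArg
      (fun m : pullback V.hom i ⟶ X => m p) pullback.condition.symm).trans (Scheme.Hom.comp_apply _ _ _))⟩⟩
  exact ProEtWC.subsingleton_empty
    ((sheafCompose (Scheme.ProEt.topology Z) (forget (ModuleCat.{u + 1} Λ))).obj B) _

variable (hret : IsRetrocompact (Set.range (fun z => i.base z))ᶜ)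

/-- The open complement. -/
abbrev complOpen : X.Opens := ⟨(Set.range i)ᶜ, i.isClosedEmbedding.isClosed_range.isOpen_compl⟩

include hret in
theorem quasiCompact_compl : QuasiCompact (complOpen i).ι :=
  ⟨fun V hVo hV => (complOpen i).ι.isOpenEmbedding.isInducing.isCompact_iff.2 (by
    rw [Set.image_preimage_eq_inter_range, Scheme.Opens.range_ι]
    exact Set.inter_comm _ V ▸ hret hV hVo)⟩

theorem range_complOpen : Set.range (complOpen i).ι = (Set.range i)ᶜ := Scheme.Opens.range_ι _

include hret in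
theorem epi_pushPMod_map {F Q : EtModW.ModP Λ Z} (p : F ⟶ Q) [Epi p] : Epi ((pushPMod Λ i).map p) := by
  haveI := quasiCompact_compl i hret
  haveI : Sheaf.IsLocallySurjective ((pushPMod Λ i).map p) := ⟨fun {W} t => by
    refine Rec.mem_of_lifts i (complOpen i).ι (range_complOpen i) _ (fun V g hV => ?_) fun V g hV => ?_
    · haveI := hV.isAffine
      haveI : IsAffine ((𝟭 Scheme.{u}).obj V.left) := hV.isAffine
      haveI : IsAffine ((ProEtS.bcP i).obj V).left := isAffine_of_isAffineHom (pullback.fst V.hom i)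
      exact surjective_of_epi p (ProEtWC.isWC_of_splits hV.splits) _
    · haveI := subsingleton_push_open_mod Λ i Q (complOpen i).ι (range_complOpen i) hV
      exact ⟨0, Subsingleton.elim (α := ((pushPMod Λ i).obj Q).obj.obj (op V)) _ _⟩⟩
  exact (Sheaf.isLocallySurjective_iff_epi' _ _).1 inferInstance

include hret in
/-- A quotient of a direct image is a direct image. -/
theorem isIso_unit_of_epi {F : EtModW.ModP Λ Z} {Y : EtModW.ModP Λ X} (φ : (pushPMod Λ i).obj F ⟶ Y) [Epi φ] :
    IsIso ((pullPushMod Λ i).unit.app Y) := by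
  haveI := quasiCompact_compl i hret
  let η := (pullPushMod Λ i).unit.app Y
  haveI : Sheaf.IsLocallySurjective η := ⟨fun {W} t => by
    refine Rec.mem_of_lifts i (complOpen i).ι (range_complOpen i) _ (fun V g hV => ?_) fun V g hV => ?_
    · exact (bijective_unit_lift_mod Λ i Y hV).2 _
    · haveI := subsingleton_push_open_mod Λ i ((pullPMod i Λ).obj Y) (complOpen i).ι (range_complOpen i) hV
      exact ⟨0, Subsingleton.elim (α := ((pushPMod Λ i).obj ((pullPMod i Λ).obj Y)).obj.obj (op V)) _ _⟩⟩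
  haveI : Sheaf.IsLocallySurjective φ := (Sheaf.isLocallySurjective_iff_epi' _ φ).2 inferInstance
  haveI : Sheaf.IsLocallyInjective η := ⟨fun {W} x y hxy => by
    refine Rec.mem_of_lifts i (complOpen i).ι (range_complOpen i) _ (fun V g hV => ?_) fun V g hV => ?_
    · refine (bijective_unit_lift_mod Λ i Y hV).1 ?_
      have e := congrArg (((pushPMod Λ i).obj ((pullPMod i Λ).obj Y)).obj.map g.op) hxy
      exact ((NatTrans.naturality_apply η.hom g.op x).trans e).trans (NatTrans.naturality_apply η.hom g.op y).symm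
    · have h0 : ∀ z : Y.obj.obj (op V), z = 0 := fun z => by
        have hsep := ((isSheaf_iff_isSheaf_of_type _ _).1
          ((sheafCompose (Scheme.ProEt.topology X) (forget (ModuleCat.{u + 1} Λ))).obj Y).property _
            (Presheaf.imageSieve_mem (Scheme.ProEt.topology X) φ.hom z)).isSeparatedFor
        refine hsep.ext fun V' f hf => ?_
        obtain ⟨s, hs⟩ := hf
        haveI := subsingleton_push_open_mod Λ i F (complOpen i).ι (range_complOpen i) (V := V') (by
          rintro _ ⟨v, rfl⟩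
          refine hV ⟨f.left v, ?_⟩
          exact (Scheme.Hom.comp_apply _ _ _).symm.trans (congrArg (fun m => m v) (MorphismProperty.Over.w f)))
        rw [Subsingleton.elim s 0, map_zero] at hs
        exact hs.symm.trans (map_zero (Y.obj.map f.op).hom).symm
      exact (h0 _).trans (h0 _).symm⟩
  exact (Sheaf.isLocallyBijective_iff_isIso η).1 ⟨inferInstance, inferInstance⟩

theorem isIso_counit_pushPMod (F : EtModW.ModP Λ Z) : IsIso ((pullPushMod Λ i).counit.app F) :=
  isIso_counit_mod Λ (ProEtS.bcP i) F (isIso_counit_pullP i _)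

include hret in
theorem isQuot_pushPMod {J : Ideal Λ} {F Q : EtModW.ModP Λ Z} {p : F ⟶ Q} (h : ARSys.IsQuot J p) :
    ARSys.IsQuot J ((pushPMod Λ i).map p) := by
  haveI : Epi p := ⟨fun {Y} a b hab => (h.2 Y (p ≫ a) fun c hc => by
    have hh : c • (p ≫ a) = p ≫ (c • 𝟙 Q) ≫ a := by simp
    rw [hh, h.1 c hc, zero_comp, comp_zero]).unique rfl hab.symm⟩
  haveI := epi_pushPMod_map Λ i hret p
  haveI : ∀ G, IsIso ((pullPushMod Λ i).counit.app G) := isIso_counit_pushPMod Λ i
  haveI : IsIso (pullPushMod Λ i).counit := NatIso.isIso_of_isIso_app _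
  let ff := (pullPushMod Λ i).fullyFaithfulROfIsIsoCounit
  have hR : ∀ {A B : EtModW.ModP Λ Z} (a : Λ) (φ : A ⟶ B),
      (pushPMod Λ i).map (a • φ) = a • (pushPMod Λ i).map φ := fun _ _ => rfl
  haveI : (pushPMod Λ i).Additive := {}
  refine ⟨fun a ha => by rw [← CategoryTheory.Functor.map_id, ← hR, h.1 a ha, Functor.map_zero], fun Y φ hφ => ?_⟩
  let φ' := Abelian.factorThruImage φ
  haveI := isIso_unit_of_epi Λ i hret φ'
  let t : F ⟶ (pullPMod i Λ).obj (Abelian.image φ) :=
    ff.preimage (φ' ≫ (pullPushMod Λ i).unit.app (Abelian.image φ))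
  have ht : ARSys.HomKilledBy J t := fun a ha => by
    apply ff.map_injective
    rw [hR, ff.map_preimage, Functor.map_zero, ← Linear.smul_comp,
      show a • φ' = 0 by
        rw [← cancel_mono (Abelian.image.ι φ), Linear.smul_comp, Abelian.image.fac, hφ a ha, zero_comp],
      zero_comp]
  obtain ⟨ψ₀, hψ₀, -⟩ := h.2 _ t ht
  refine ⟨(pushPMod Λ i).map ψ₀ ≫ inv ((pullPushMod Λ i).unit.app _) ≫ Abelian.image.ι φ, ?_, fun χ hχ => ?_⟩
  · have e : (pushPMod Λ i).map p ≫ (pushPMod Λ i).map ψ₀ = φ' ≫ (pullPushMod Λ i).unit.app (Abelian.image φ) := by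
      rw [← Functor.map_comp, hψ₀, ff.map_preimage]
    show (pushPMod Λ i).map p ≫ _ = φ
    rw [← Category.assoc, e, Category.assoc, IsIso.hom_inv_id_assoc, Abelian.image.fac]
  · rw [← cancel_epi ((pushPMod Λ i).map p), hχ, ← Category.assoc, ← Functor.map_comp, hψ₀, ff.map_preimage,
      Category.assoc, IsIso.hom_inv_id_assoc, Abelian.image.fac]

variable [ProEtS.EpsCont Z] [ProEtS.EpsCont X]

/-- `ε⁻¹` commutes with direct image along a closed immersion. -/
theorem nonempty_eps_push (E : EtModW.Mod Λ Z) :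
    Nonempty ((EtModW.epsPullMod Λ X).obj ((EtModW.push Λ i).obj E) ≅
      (pushPMod Λ i).obj ((EtModW.epsPullMod Λ Z).obj E)) := by
  let G := (pushPMod Λ i).obj ((EtModW.epsPullMod Λ Z).obj E)
  haveI hX : IsIso ((epsAdjMod X Λ).counit.app G) := by
    refine isIso_counit_mod Λ (ProEtS.eps X) G ?_
    obtain ⟨e, -⟩ := exists_pullback_forget_iso Λ (K := Scheme.ProEt.topology Z) (ProEtS.eps Z) E
    haveI := isIso_counit_pushP i ((forgetSh Λ Z.smallEtaleTopology).obj E)
    let c := (ProEtS.epsAdj X).counit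
    let e' : (ProEtS.pushP i).obj ((ProEtS.epsPull Z).obj ((forgetSh Λ Z.smallEtaleTopology).obj E)) ≅
        (forgetSh Λ (Scheme.ProEt.topology X)).obj G := (ProEtS.pushP i).mapIso e
    have n := c.naturality e'.hom
    exact IsIso.of_isIso_fac_left n
  haveI := isIso_epsAdjMod_unit Z Λ
  refine ⟨(EtModW.epsPullMod Λ X).mapIso ?_ ≪≫ asIso ((epsAdjMod X Λ).counit.app G)⟩
  exact (EtModW.push Λ i).mapIso (asIso ((epsAdjMod Z Λ).unit.app E)) ≪≫
    (fullyFaithfulSheafToPresheaf _ _).preimageIso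
      (Functor.isoWhiskerRight (NatIso.op (bcEpsIso i)).symm ((EtModW.epsPullMod Λ Z).obj E).obj)

end Closed

section Open

variable {U X : Scheme.{u}} (j : U ⟶ X) [IsOpenImmersion j] [QuasiCompact j] [WeaklyEtale j] [ProEtS.JPCont j]

/-- Extension by zero on pro-étale sheaves of modules. -/
abbrev extPMod : EtModW.ModP Λ U ⥤ EtModW.ModP Λ X :=
  (ProEtS.compP j).sheafPullback (ModuleCat.{u + 1} Λ) (Scheme.ProEt.topology U) (Scheme.ProEt.topology X)

theorem preservesLimitsOfShape_extPMod (K : Type u) [SmallCategory K] :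
    PreservesLimitsOfShape K (extPMod Λ j) := by
  haveI := Rec.preservesLimitsOfShape_extZero j K
  haveI : HasLimitsOfSize.{u, u} (ModuleCat.{u + 1} Λ) := ModuleCat.hasLimitsOfSize.{u, u, u + 1, u + 1}
  haveI : HasLimitsOfShape K (ModuleCat.{u + 1} Λ) := inferInstance
  haveI : PreservesLimitsOfSize.{u, u} (forget₂ (ModuleCat.{u + 1} Λ) AddCommGrpCat.{u + 1}) :=
    ModuleCat.forget₂AddCommGroup_preservesLimitsOfSize.{u, u, u + 1, u + 1}
  haveI : ∀ (Y : Scheme.{u}), PreservesLimitsOfShape K (forgetSh Λ (Scheme.ProEt.topology Y)) := fun Y => by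
    haveI : PreservesLimitsOfShape K (forgetSh Λ (Scheme.ProEt.topology Y) ⋙ sheafToPresheaf _ _) :=
      inferInstanceAs (PreservesLimitsOfShape K (sheafToPresheaf (Scheme.ProEt.topology Y) (ModuleCat.{u + 1} Λ) ⋙
        (Functor.whiskeringRight _ _ _).obj (forget₂ (ModuleCat.{u + 1} Λ) AddCommGrpCat.{u + 1})))
    exact preservesLimitsOfShape_of_reflects_of_preserves _ (sheafToPresheaf _ _)
  haveI : (forgetSh Λ (Scheme.ProEt.topology X)).ReflectsIsomorphisms := inferInstance
  haveI : ReflectsLimitsOfShape K (forgetSh Λ (Scheme.ProEt.topology X)) :=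
    reflectsLimitsOfShape_of_reflectsIsomorphisms
  haveI : PreservesLimitsOfShape K (extPMod Λ j ⋙ forgetSh Λ (Scheme.ProEt.topology X)) :=
    preservesLimitsOfShape_of_natIso (pullForgetIso Λ (K := Scheme.ProEt.topology X) (ProEtS.compP j))
  exact preservesLimitsOfShape_of_reflects_of_preserves _ (forgetSh Λ (Scheme.ProEt.topology X))

/-- `ε` commutes with composition with an étale morphism. -/
def compEpsIso (hje : Etale j) :
    MorphismProperty.Over.map (P := EtCoh.etaleMP.{u}) ⊤ (f := j) hje ⋙ ProEtS.eps X ≅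
      ProEtS.eps U ⋙ ProEtS.compP j :=
  NatIso.ofComponents (fun V => MorphismProperty.Over.isoMk (Iso.refl _))
    (fun f => by
      apply (Scheme.ProEt.forget X ⋙ Over.forget X).map_injective
      exact (Category.comp_id _).trans (Category.id_comp _).symm)

variable [ProEtS.EpsCont U] [ProEtS.EpsCont X]

/-- `ε⁻¹` commutes with extension by zero. -/
def extEpsIso (hje : Etale j)
    [(MorphismProperty.Over.map (P := EtCoh.etaleMP.{u}) ⊤ (f := j) hje).IsContinuous U.smallEtaleTopology X.smallEtaleTopology]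
    [((MorphismProperty.Over.map (P := EtCoh.etaleMP.{u}) ⊤ (f := j) hje).sheafPushforwardContinuous (ModuleCat.{u + 1} Λ) U.smallEtaleTopology X.smallEtaleTopology).IsRightAdjoint] :
    EtModW.epsPullMod Λ U ⋙ extPMod Λ j ≅
      (MorphismProperty.Over.map (P := EtCoh.etaleMP.{u}) ⊤ (f := j) hje).sheafPullback (ModuleCat.{u + 1} Λ)
        U.smallEtaleTopology X.smallEtaleTopology ⋙ EtModW.epsPullMod Λ X :=
  let M := MorphismProperty.Over.map (P := EtCoh.etaleMP.{u}) ⊤ (f := j) hje
  let a := (epsAdjMod U Λ).comp ((ProEtS.compP j).sheafAdjunctionContinuous (ModuleCat.{u + 1} Λ)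
    (Scheme.ProEt.topology U) (Scheme.ProEt.topology X))
  let b := (M.sheafAdjunctionContinuous (ModuleCat.{u + 1} Λ) U.smallEtaleTopology
    X.smallEtaleTopology).comp (epsAdjMod X Λ)
  let e : (ProEtS.eps X).sheafPushforwardContinuous (ModuleCat.{u + 1} Λ) X.smallEtaleTopology
        (Scheme.ProEt.topology X) ⋙ M.sheafPushforwardContinuous (ModuleCat.{u + 1} Λ)
          U.smallEtaleTopology X.smallEtaleTopology ≅
      (ProEtS.compP j).sheafPushforwardContinuous (ModuleCat.{u + 1} Λ) (Scheme.ProEt.topology U)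
        (Scheme.ProEt.topology X) ⋙ (ProEtS.eps U).sheafPushforwardContinuous (ModuleCat.{u + 1} Λ)
          U.smallEtaleTopology (Scheme.ProEt.topology U) :=
    NatIso.ofComponents (fun F => (fullyFaithfulSheafToPresheaf _ _).preimageIso
      (Functor.isoWhiskerRight (NatIso.op (compEpsIso j hje)).symm F.obj))
      (fun {F F'} φ => by
        ext W s
        exact (NatTrans.naturality_apply φ.hom _ s).symm)
  Adjunction.leftAdjointUniq a (b.ofNatIsoRight e)

theorem isQuot_extPMod {J : Ideal Λ} {F Q : EtModW.ModP Λ U} {p : F ⟶ Q} (h : ARSys.IsQuot J p) :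
    ARSys.IsQuot J ((extPMod Λ j).map p) := by
  let adj := (ProEtS.compP j).sheafAdjunctionContinuous (ModuleCat.{u + 1} Λ) (Scheme.ProEt.topology U)
    (Scheme.ProEt.topology X)
  haveI : ((ProEtS.compP j).sheafPushforwardContinuous (ModuleCat.{u + 1} Λ) (Scheme.ProEt.topology U)
    (Scheme.ProEt.topology X)).Additive := {}
  haveI : (extPMod Λ j).Additive := adj.left_adjoint_additive
  exact isQuot_leftAdjoint adj (fun _ _ => rfl) h

end Open

end Groth.Agent.ProEtFull
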