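import Groth.Agent.BigSiteLib.EtFppfPull
import Groth.Agent.BigSiteLib.Counit
import Groth.Agent.ProEtSLib.BigUnit
import Groth.Agent.ProEtSLib.Cont

/-!
# `ε⁻¹` from the étale to the pro-étale site through `π⁻¹` on the big site
-/

set_option autoImplicit false
set_option backward.isDefEq.respectTransparency false
set_option backward.isDefEq.respectTransparency.types false
set_option maxHeartbeats 800000
universe u

namespace Groth.Agent.ProEtFull

open CategoryTheory Limits AlgebraicGeometry Opposite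
open Groth.Agent.BigSiteLib

variable (S : Scheme.{u})

/-- Sheaves on the big pro-étale site. -/
abbrev AbBigP := Sheaf (Scheme.proetaleTopology.over S) AddCommGrpCat.{u + 1}

/-- Restriction from the big to the small pro-étale site. -/
noncomputable abbrev uPush : AbBigP S ⥤ ProEtS.AbP S :=
  (Scheme.ProEt.forget S).sheafPushforwardContinuous AddCommGrpCat.{u + 1} (Scheme.ProEt.topology S)
    (Scheme.proetaleTopology.over S)

/-- Pullback from the small to the big pro-étale site. -/
noncomputable abbrev uPull : ProEtS.AbP S ⥤ AbBigP S :=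
  (Scheme.ProEt.forget S).sheafPullback AddCommGrpCat.{u + 1} (Scheme.ProEt.topology S)
    (Scheme.proetaleTopology.over S)

noncomputable abbrev uAdj : uPull S ⊣ uPush S :=
  (Scheme.ProEt.forget S).sheafAdjunctionContinuous AddCommGrpCat.{u + 1} (Scheme.ProEt.topology S)
    (Scheme.proetaleTopology.over S)

theorem isIso_uAdj_unit (G : ProEtS.AbP S) : IsIso ((uAdj S).unit.app G) := by
  haveI : (uPush S).Additive := {}
  haveI : EssentiallySmall.{u + 1} (Over S) := inferInstance
  haveI : IsGrothendieckAbelian.{u + 1} (AbBigP S) :=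
    Sheaf.isGrothendieckAbelian_of_essentiallySmall _ _
  exact (ProEtSLib.unit_bigPullback S G).1

variable {S}

/-- `π⁻¹ F` is a sheaf on the big pro-étale site. -/
noncomputable def piBigP (F : EtCoh.Ab S) : AbBigP S :=
  ⟨(piSheaf F).obj, (Presheaf.isSheaf_iff_isSheaf_forget _ _ (forget AddCommGrpCat.{u + 1})).2
    ((isSheaf_iff_isSheaf_of_type _ _).2 (Presieve.isSheaf_of_le _
      (BigSite.J_mono Scheme.proetalePrecoverage_le_fpqcPrecoverage S)
      (types_isSheaf (⟨(piSheaf F).obj, isSheaf_fpqc_piSheaf F⟩ :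
        Sheaf (QuotSh.J Scheme.fpqcPrecoverage S) AddCommGrpCat.{u + 1}))))⟩

/-- `π⁻¹ F` restricted to the small pro-étale site. -/
noncomputable def piProEt (F : EtCoh.Ab S) : ProEtS.AbP S := (uPush S).obj (piBigP F)

/-- A big pro-étale sheaf as a big étale sheaf. -/
noncomputable def toEtaleP (H : AbBigP S) : BigSite.Ab Scheme.etalePrecoverage S :=
  ⟨H.obj, (Presheaf.isSheaf_iff_isSheaf_forget _ _ (forget AddCommGrpCat.{u + 1})).2
    ((isSheaf_iff_isSheaf_of_type _ _).2 (Presieve.isSheaf_of_le _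
      (BigSite.J_mono Scheme.etalePrecoverage_le_proetalePrecoverage S)
      (types_isSheaf (J := Scheme.proetaleTopology.over S) H)))⟩

variable [ProEtS.EpsCont S]

/-- The comparison map `F ⟶ ε_* π⁻¹ F`. -/
noncomputable def piUnit (F : EtCoh.Ab S) : F ⟶ (ProEtS.epsPush S).obj (piProEt F) :=
  ⟨((BigSite.piEtAdj Scheme.etalePrecoverage S).unit.app F).hom⟩

theorem isIso_piUnit (F : EtCoh.Ab S) : IsIso (piUnit F) := by
  haveI := isIso_piEtAdj_unit (S := S) F
  haveI : IsIso ((sheafToPresheaf S.smallEtaleTopology AddCommGrpCat.{u + 1}).map (piUnit F)) :=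
    inferInstanceAs (IsIso ((sheafToPresheaf S.smallEtaleTopology AddCommGrpCat.{u + 1}).map
      ((BigSite.piEtAdj Scheme.etalePrecoverage S).unit.app F)))
  exact isIso_of_reflects_iso (piUnit F) (sheafToPresheaf S.smallEtaleTopology AddCommGrpCat.{u + 1})

/-- The comparison map `ε⁻¹ F ⟶ π⁻¹ F`. -/
noncomputable def epsToPi (F : EtCoh.Ab S) : (ProEtS.epsPull S).obj F ⟶ piProEt F :=
  ((ProEtS.epsAdj S).homEquiv F (piProEt F)).symm (piUnit F)

theorem unit_epsToPi (F : EtCoh.Ab S) :
    (ProEtS.epsAdj S).unit.app F ≫ (ProEtS.epsPush S).map (epsToPi F) = piUnit F :=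
  ((ProEtS.epsAdj S).homEquiv_unit F (piProEt F) (epsToPi F)).symm.trans (Equiv.apply_symm_apply _ _)

theorem isIso_epsToPi (F : EtCoh.Ab S) : IsIso (epsToPi F) := by
  let G := (ProEtS.epsPull S).obj F
  let uu := (uAdj S).unit.app G
  haveI : IsIso uu := isIso_uAdj_unit S G
  let η := (ProEtS.epsAdj S).unit.app F
  let η' := (BigSite.piEtAdj Scheme.etalePrecoverage S).unit.app F
  let v' : F ⟶ (BigSite.resEt Scheme.etalePrecoverage S).obj (toEtaleP ((uPull S).obj G)) :=
    ⟨η.hom ≫ Functor.whiskerLeft (ProEtS.eps S).op uu.hom⟩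
  let β₀ := ((BigSite.piEtAdj Scheme.etalePrecoverage S).homEquiv F (toEtaleP ((uPull S).obj G))).symm v'
  have hβ : η'.hom ≫ Functor.whiskerLeft (EtFppf.a S).op β₀.hom =
      η.hom ≫ Functor.whiskerLeft (ProEtS.eps S).op uu.hom := by
    have := ((BigSite.piEtAdj Scheme.etalePrecoverage S).homEquiv_unit F _ β₀).symm.trans
      (Equiv.apply_symm_apply _ v')
    exact congrArg (fun t => t.hom) this
  let β₁ : piBigP F ⟶ (uPull S).obj G := ⟨β₀.hom⟩
  let αb : (uPull S).obj G ⟶ piBigP F := ((uAdj S).homEquiv G (piBigP F)).symm (epsToPi F)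
  have hαb : uu ≫ (uPush S).map αb = epsToPi F :=
    ((uAdj S).homEquiv_unit G (piBigP F) αb).symm.trans (Equiv.apply_symm_apply _ _)
  let β : piProEt F ⟶ G := (uPush S).map β₁ ≫ inv uu
  have hα : η.hom ≫ Functor.whiskerLeft (ProEtS.eps S).op (epsToPi F).hom = η'.hom :=
    congrArg (fun t => t.hom) (unit_epsToPi F)
  refine ⟨⟨β, ?_, ?_⟩⟩
  · apply ((ProEtS.epsAdj S).homEquiv F G).injective
    rw [Adjunction.homEquiv_unit, Adjunction.homEquiv_unit, CategoryTheory.Functor.map_id]
    refine Eq.trans ?_ (Category.comp_id _).symm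
    have h1 : η ≫ (ProEtS.epsPush S).map (epsToPi F ≫ (uPush S).map β₁) =
        η ≫ (ProEtS.epsPush S).map uu := by
      apply ObjectProperty.hom_ext
      show η.hom ≫ Functor.whiskerLeft (ProEtS.eps S).op ((epsToPi F).hom ≫
        Functor.whiskerLeft (Scheme.ProEt.forget S).op β₀.hom) =
          η.hom ≫ Functor.whiskerLeft (ProEtS.eps S).op uu.hom
      rw [Functor.whiskerLeft_comp, ← Category.assoc, hα]
      exact hβ
    show η ≫ (ProEtS.epsPush S).map (epsToPi F ≫ (uPush S).map β₁ ≫ inv uu) = η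
    rw [← Category.assoc (epsToPi F), Functor.map_comp _ _ (inv uu), ← Category.assoc η, h1, Category.assoc,
      ← Functor.map_comp, IsIso.hom_inv_id, CategoryTheory.Functor.map_id]
    exact Category.comp_id η
  · let γ : piSheaf F ⟶ piSheaf F := ⟨β₀.hom ≫ αb.hom⟩
    have hγ : γ = 𝟙 _ := by
      apply ((BigSite.piEtAdj Scheme.etalePrecoverage S).homEquiv F _).injective
      rw [Adjunction.homEquiv_unit, Adjunction.homEquiv_unit, CategoryTheory.Functor.map_id]
      refine Eq.trans ?_ (Category.comp_id _).symm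
      apply ObjectProperty.hom_ext
      show η'.hom ≫ Functor.whiskerLeft (EtFppf.a S).op (β₀.hom ≫ αb.hom) = η'.hom
      rw [Functor.whiskerLeft_comp, ← Category.assoc, hβ]
      have h2 : uu.hom ≫ Functor.whiskerLeft (Scheme.ProEt.forget S).op αb.hom = (epsToPi F).hom :=
        congrArg (fun t => t.hom) hαb
      show (η.hom ≫ Functor.whiskerLeft (ProEtS.eps S).op uu.hom) ≫
        Functor.whiskerLeft (ProEtS.eps S).op (Functor.whiskerLeft (Scheme.ProEt.forget S).op αb.hom) = η'.hom
      rw [Category.assoc, ← Functor.whiskerLeft_comp, h2, hα]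
    have h3 : β₁ ≫ αb = 𝟙 (piBigP F) := ObjectProperty.hom_ext _ (congrArg (fun t => t.hom) hγ)
    show ((uPush S).map β₁ ≫ inv uu) ≫ epsToPi F = 𝟙 (piProEt F)
    rw [← hαb, Category.assoc, IsIso.inv_hom_id_assoc, ← Functor.map_comp, h3, CategoryTheory.Functor.map_id]
    rfl

/-- `ε⁻¹ F ≅ π⁻¹ F`. -/
noncomputable def epsPullIso (F : EtCoh.Ab S) : (ProEtS.epsPull S).obj F ≅ piProEt F :=
  haveI := isIso_epsToPi F
  asIso (epsToPi F)

theorem isIso_epsAdj_unit (F : EtCoh.Ab S) : IsIso ((ProEtS.epsAdj S).unit.app F) := by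
  haveI := isIso_epsToPi F
  haveI := isIso_piUnit F
  haveI : IsIso ((ProEtS.epsAdj S).unit.app F ≫ (ProEtS.epsPush S).map (epsToPi F)) := by
    rw [unit_epsToPi]; infer_instance
  exact IsIso.of_isIso_comp_right _ ((ProEtS.epsPush S).map (epsToPi F))

/-- Sections of `ε⁻¹ F` over a pro-étale scheme `U`: global sections of the pullback. -/
noncomputable def epsPullSectIso (F : EtCoh.Ab S) (U : S.ProEt) :
    ((ProEtS.epsPull S).obj F).obj.obj (op U) ≅
      ((EtCoh.pull U.hom).obj F).obj.obj (op (EtCoh.top U.left)) :=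
  ((sheafToPresheaf _ _).mapIso (epsPullIso F)).app (op U) ≪≫ piSheafSectIso F ((Scheme.ProEt.forget S).obj U)

end Groth.Agent.ProEtFull
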