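import Groth.Agent.BigSiteLib.EtFppfPull
import Groth.Agent.EtLimLib.Deg0

/-!
# Sections of `π⁻¹ F` over a limit of schemes
-/

set_option autoImplicit false
set_option linter.style.haveILetI false
set_option backward.isDefEq.respectTransparency false
set_option backward.isDefEq.respectTransparency.types false
set_option maxHeartbeats 800000
universe u

namespace Groth.Agent.ProEtFull

open CategoryTheory Limits AlgebraicGeometry Opposite
open Groth.Agent.BigSiteLib Groth.Agent.EtLimLib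

variable {X : Scheme.{u}} (F : EtCoh.Ab X)

theorem piSheaf_map_eq {A B : Over X} {p q : A ⟶ B} (h : p.left = q.left)
    (s : (piSheaf F).obj.obj (op B)) : (piSheaf F).obj.map p.op s = (piSheaf F).obj.map q.op s := by
  rw [Over.OverMorphism.ext h]

theorem piSheaf_map_map {A B C : Over X} (a : A ⟶ B) (b : B ⟶ C) (c : A ⟶ C) (h : a.left ≫ b.left = c.left)
    (s : (piSheaf F).obj.obj (op C)) :
    (piSheaf F).obj.map a.op ((piSheaf F).obj.map b.op s) = (piSheaf F).obj.map c.op s := by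
  rw [map_map_apply]
  exact piSheaf_map_eq F h s

theorem piSheaf_sq {A B B' C : Over X} (a : A ⟶ B) (b : B ⟶ C) (a' : A ⟶ B') (b' : B' ⟶ C)
    (h : a.left ≫ b.left = a'.left ≫ b'.left) (s : (piSheaf F).obj.obj (op C)) :
    (piSheaf F).obj.map a.op ((piSheaf F).obj.map b.op s) = (piSheaf F).obj.map a'.op ((piSheaf F).obj.map b'.op s) :=
  (map_map_apply _ a b s).trans ((piSheaf_map_eq F (q := a' ≫ b') h s).trans (map_map_apply _ a' b' s).symm)

/-- An étale scheme over a stage as a scheme over `X`. -/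
noncomputable abbrev ov {T : Scheme.{u}} (g : T ⟶ X) (W : T.Etale) : Over X := Over.mk (W.hom ≫ g)

theorem zeroAt_of_agree {T : Scheme.{u}} (g : T ⟶ X) {W : T.Etale}
    (s : EtCoh.sect ((BigSite.resEtAlong Scheme.etalePrecoverage g).obj (piSheaf F)) W) {p : W.left}
    (h : p ∈ EtPtsLib.agree ((BigSite.resEtAlong Scheme.etalePrecoverage g).obj (piSheaf F)).obj s 0) :
    ZeroAt (X := ov g W) (piSheaf F) s p := by
  obtain ⟨V, k, v, e, hv⟩ := (mem_agree_iff _ _ _ _).1 h
  exact ⟨ov g V, Over.homMk k.left (by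
    show k.left ≫ W.hom ≫ g = V.hom ≫ g
    rw [← Category.assoc, MorphismProperty.Over.w k]),
    EtPtsLib.etale_left k, ⟨v, hv⟩, e.trans (map_zero _)⟩

theorem agree_of_zeroAt {T : Scheme.{u}} (g : T ⟶ X) {W : T.Etale}
    (s : EtCoh.sect ((BigSite.resEtAlong Scheme.etalePrecoverage g).obj (piSheaf F)) W) {p : W.left}
    (h : ZeroAt (X := ov g W) (piSheaf F) s p) :
    p ∈ EtPtsLib.agree ((BigSite.resEtAlong Scheme.etalePrecoverage g).obj (piSheaf F)).obj s 0 := by
  obtain ⟨V, k, hk, ⟨v, hv⟩, e⟩ := h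
  haveI : Etale W.hom := W.prop
  haveI : Etale k.left := hk
  let V' : T.Etale := Scheme.Etale.mk (k.left ≫ W.hom)
  let k' : V' ⟶ W := MorphismProperty.Over.homMk k.left rfl
  let j : ov g V' ⟶ V := Over.homMk (𝟙 V.left) (by
    show 𝟙 _ ≫ V.hom = (k.left ≫ W.hom) ≫ g
    rw [Category.id_comp, Category.assoc]
    exact (Over.w k).symm)
  refine (mem_agree_iff _ _ _ _).2 ⟨V', k', v, ?_, hv⟩
  refine Eq.trans ?_ (map_zero _).symm
  refine (piSheaf_map_map F j k (Over.homMk k.left (Category.assoc _ _ _).symm) (Category.id_comp _) s).symm.trans ?_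
  rw [e, map_zero]

variable {ι : Type u} [Preorder ι] [Nonempty ι] [IsDirected ι (· ≤ ·)] {S : Sys ι}
  (g : ∀ i, S.X i ⟶ X) (hg : ∀ ⦃i j : ι⦄ (h : i ≤ j), S.t h ≫ g i = g j)
  (gc : S.c.pt ⟶ X) (hgc : ∀ i, S.u i ≫ g i = gc)

/-- The restriction maps of `π⁻¹ F` along a base change. -/
noncomputable def piPushMap {A B : Scheme.{u}} (t : B ⟶ A) (a : A ⟶ X) (b : B ⟶ X) (w : t ≫ a = b) :
    (BigSite.resEtAlong Scheme.etalePrecoverage a).obj (piSheaf F) ⟶
      (EtCoh.push t).obj ((BigSite.resEtAlong Scheme.etalePrecoverage b).obj (piSheaf F)) :=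
  ObjectProperty.homMk
    { app := fun W => (piSheaf F).obj.map (Over.homMk (pullback.fst W.unop.hom t) (by
        show pullback.fst W.unop.hom t ≫ W.unop.hom ≫ a = pullback.snd W.unop.hom t ≫ b
        rw [← Category.assoc, pullback.condition, Category.assoc, w]) :
        ov b ((EtCoh.bc t).obj W.unop) ⟶ ov a W.unop).op
      naturality := fun W W' f => by
        ext s
        exact piSheaf_sq F _ _ _ _ (bc_map_fst t f.unop).symm s }

/-- The system of restrictions of `π⁻¹ F`. -/
noncomputable def piSys : SysSh S where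
  F i := (BigSite.resEtAlong Scheme.etalePrecoverage (g i)).obj (piSheaf F)
  φ i j h := piPushMap F (S.t h) (g i) (g j) (hg h)
  cocycle i j k h h' := by
    refine ObjectProperty.hom_ext _ (NatTrans.ext (funext fun W => ?_))
    ext s
    exact piSheaf_sq F _ _ _ _ (bcSp_fst (S.t h) (S.t h') (S.t (h.trans h')) (S.t_t h h') W.unop) s
  refl i W s := piSheaf_map_eq F rfl s

/-- Its cocone on the limit. -/
noncomputable def piCocone :
    CoconeSh (piSys F g hg) ((BigSite.resEtAlong Scheme.etalePrecoverage gc).obj (piSheaf F)) where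
  ψ i := piPushMap F (S.u i) (g i) gc (hgc i)
  comm i j h := by
    refine ObjectProperty.hom_ext _ (NatTrans.ext (funext fun W => ?_))
    ext s
    exact piSheaf_sq F _ _ _ _ (bcSp_fst (S.t h) (S.u j) (S.u i) (S.u_t h) W.unop) s

theorem isColim_piCocone : IsColim (piCocone F g hg gc hgc) := by
  constructor
  · intro i W s x hx
    refine ⟨i, le_refl i, agree_of_zeroAt F (g i) _ (zeroAt_pullback _ ?_)⟩
    refine (?_ : ZeroAt (X := ov (g i) W) (piSheaf F) s
      (pullback.fst W.hom (S.t (le_refl i)) (atPt (le_refl i) x)))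
    have e : pullback.fst W.hom (S.t (le_refl i)) (atPt (le_refl i) x) = pullback.fst W.hom (S.u i) x := by
      show (pullback.fst W.hom (S.t (le_refl i))) ((toAt S (le_refl i) W ≫ _) x) = _
      rw [← Scheme.Hom.comp_apply]
      congr 1
      simp [toAt]
    rw [e]
    exact zeroAt_descend (Over.homMk (pullback.fst W.hom (S.u i)) (by
      show pullback.fst W.hom (S.u i) ≫ W.hom ≫ g i = pullback.snd W.hom (S.u i) ≫ gc
      rw [← Category.assoc, pullback.condition, Category.assoc, hgc]) :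
      ov gc ((EtCoh.bc (S.u i)).obj W) ⟶ ov (g i) W) (zeroAt_of_agree F gc _ hx)
  · intro V t v
    let Y := ov gc V
    haveI : Presheaf.IsLocallySurjective (QuotSh.J Scheme.etalePrecoverage X) (lanToPi F) :=
      ((GrothendieckTopology.W_iff_isLocallyBijective _ _).1 (W_lanToPi F)).2
    have hR := Presheaf.imageSieve_mem (QuotSh.J Scheme.etalePrecoverage X) (lanToPi F) (U := op Y) t
    rw [GrothendieckTopology.mem_over_iff] at hR
    obtain ⟨𝒰, hle⟩ := Scheme.exists_cover_of_mem_grothendieckTopology hR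
    obtain ⟨v', hv'⟩ := 𝒰.covers v
    haveI : Etale (𝒰.f (𝒰.idx v)) := 𝒰.map_prop _
    haveI : Etale V.hom := V.prop
    let V' : S.c.pt.Etale := Scheme.Etale.mk (𝒰.f (𝒰.idx v) ≫ V.hom)
    let e : V' ⟶ V := MorphismProperty.Over.homMk (𝒰.f (𝒰.idx v)) rfl
    let e' : ov gc V' ⟶ Y := Over.homMk (𝒰.f (𝒰.idx v)) (Category.assoc _ _ _).symm
    obtain ⟨Z, q, r, hr, he⟩ := hle _ _ (Presieve.ofArrows.mk (𝒰.idx v) : 𝒰.presieve₀ (𝒰.f (𝒰.idx v)))
    obtain ⟨z, hz⟩ := hr
    obtain ⟨U₀, b₀, y, hy⟩ := exists_lan_rep F z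
    let k : ι := Classical.arbitrary ι
    let W₀ : (S.X k).Etale := (EtCoh.bc (g k)).obj U₀
    let qV : V'.left ⟶ U₀.left := r ≫ b₀.left
    have hq : qV ≫ U₀.hom = V'.hom ≫ gc := by
      show (r ≫ b₀.left) ≫ U₀.hom = (𝒰.f (𝒰.idx v) ≫ V.hom) ≫ gc
      have h1 : b₀.left ≫ U₀.hom = Z.hom := Over.w b₀
      have h2 : q.left ≫ V.hom ≫ gc = Z.hom := Over.w q
      have he' : 𝒰.f (𝒰.idx v) = r ≫ q.left := he
      rw [Category.assoc, h1, ← h2, he']
      simp only [Category.assoc]
    let gV : V' ⟶ (EtCoh.bc (S.u k)).obj W₀ := MorphismProperty.Over.homMk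
      (pullback.lift (pullback.lift qV (V'.hom ≫ S.u k)
        (hq.trans ((congrArg (fun f => V'.hom ≫ f) (hgc k).symm).trans (Category.assoc _ _ _).symm))) V'.hom
        (pullback.lift_snd _ _ _)) (pullback.lift_snd _ _ _)
    obtain ⟨l, h, U, -, m, hm, b, p, hp, hb⟩ := exists_refine S W₀ gV v'
    let a₀ : ov (g l) U ⟶ (EtFppf.a X).obj U₀ := Over.homMk (m ≫ pullback.fst U₀.hom (g k)) (by
      show (m ≫ pullback.fst U₀.hom (g k)) ≫ U₀.hom = U.hom ≫ g l
      rw [Category.assoc, pullback.condition, ← Category.assoc, show m ≫ pullback.snd U₀.hom (g k) = U.hom ≫ S.t h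
        from hm, Category.assoc, hg])
    refine ⟨l, U, (piSheaf F).obj.map a₀.op (etaApp F U₀ y), b ≫ e, p, ?_, ?_⟩
    · show (e.left) (b.left p) = v
      rw [hp]
      exact hv'
    refine (mem_agree_iff _ _ _ _).2 ⟨_, 𝟙 _, p, ?_, rfl⟩
    refine congrArg _ ?_
    let bo : ov gc ((EtCoh.bc (S.u l)).obj U) ⟶ ov gc V' := Over.homMk b.left (by
      show b.left ≫ V'.hom ≫ gc = _
      rw [← Category.assoc, MorphismProperty.Over.w b]
      rfl)
    let rZ : ov gc V' ⟶ Z := Over.homMk r (by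
      show r ≫ Z.hom = (𝒰.f (𝒰.idx v) ≫ V.hom) ≫ gc
      have he' : 𝒰.f (𝒰.idx v) = r ≫ q.left := he
      rw [← show q.left ≫ V.hom ≫ gc = Z.hom from Over.w q, he']
      simp only [Category.assoc])
    have hz' : (piSheaf F).obj.map q.op t = (piSheaf F).obj.map b₀.op (etaApp F U₀ y) := by
      rw [← hz, ← hy, NatTrans.naturality_apply]
      exact congrArg _ (ConcreteCategory.congr_hom (lanToPi_unit F U₀) y)
    show (piSheaf F).obj.map _ ((piSheaf F).obj.map a₀.op (etaApp F U₀ y)) = (piSheaf F).obj.map _ t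
    refine Eq.trans ?_ (piSheaf_map_map F bo e' _ rfl t)
    rw [show (piSheaf F).obj.map e'.op t = (piSheaf F).obj.map rZ.op ((piSheaf F).obj.map q.op t) from
      (piSheaf_map_map F rZ q e' he.symm t).symm, hz', map_map_apply, map_map_apply]
    refine (map_map_apply (piSheaf F).obj _ a₀ _).trans (piSheaf_map_eq F ?_ _)
    have hb' : b.left ≫ gV.left = (bcTo m hm).left := congrArg (fun f => f.left) hb
    show _ ≫ m ≫ pullback.fst U₀.hom (g k) = (b.left ≫ r) ≫ b₀.left
    rw [Category.assoc, show r ≫ b₀.left = qV from rfl,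
      show qV = gV.left ≫ pullback.fst W₀.hom (S.u k) ≫ pullback.fst U₀.hom (g k) by
        show qV = pullback.lift _ _ _ ≫ _ ≫ _
        rw [pullback.lift_fst_assoc, pullback.lift_fst],
      ← Category.assoc b.left, hb', ← Category.assoc, ← Category.assoc, bcTo_left_fst]
    rfl

include hg hgc

theorem exists_zero_stage (i : ι) (s : (piSheaf F).obj.obj (op (Over.mk (g i))))
    (hs : (piSheaf F).obj.map (Over.homMk (S.u i) (hgc i) : Over.mk gc ⟶ Over.mk (g i)).op s = 0) :
    ∃ (j : ι) (h : i ≤ j),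
      (piSheaf F).obj.map (Over.homMk (S.t h) (hg h) : Over.mk (g j) ⟶ Over.mk (g i)).op s = 0 := by
  let W := EtCoh.top (S.X i)
  let a : ov (g i) W ⟶ Over.mk (g i) := Over.homMk (𝟙 _) rfl
  haveI : CompactSpace W.left := S.qc (op i)
  haveI : QuasiSeparatedSpace W.left := S.qs (op i)
  obtain ⟨j, h, e⟩ := exists_res_eq_zero (isColim_piCocone F g hg gc hgc) W ((piSheaf F).obj.map a.op s) (by
    let d : ov gc ((EtCoh.bc (S.u i)).obj W) ⟶ Over.mk gc :=
      Over.homMk (pullback.snd W.hom (S.u i)) rfl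
    refine Eq.trans ?_ (by rw [hs, map_zero] : (piSheaf F).obj.map d.op
      ((piSheaf F).obj.map (Over.homMk (S.u i) (hgc i) : Over.mk gc ⟶ Over.mk (g i)).op s) = 0)
    refine (map_map_apply _ _ _ s).trans (Eq.trans (piSheaf_map_eq F ?_ s) (map_map_apply _ _ _ s).symm)
    exact pullback.condition)
  refine ⟨j, h, ?_⟩
  let d : Over.mk (g j) ⟶ ov (g j) (S.at' h W) :=
    Over.homMk (pullback.lift (S.t h) (𝟙 _) ((Category.comp_id _).trans (Category.id_comp _).symm))
      (by
        show pullback.lift _ _ _ ≫ pullback.snd W.hom (S.t h) ≫ g j = g j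
        rw [pullback.lift_snd_assoc]
        exact Category.id_comp _)
  refine Eq.trans ?_ ((congrArg ((piSheaf F).obj.map d.op) e).trans (map_zero _))
  show _ = (piSheaf F).obj.map d.op ((piSheaf F).obj.map _ ((piSheaf F).obj.map a.op s))
  rw [map_map_apply, map_map_apply]
  refine piSheaf_map_eq F ?_ s
  show S.t h = pullback.lift _ _ _ ≫ pullback.fst _ _ ≫ 𝟙 _
  rw [pullback.lift_fst_assoc, Category.comp_id]

theorem exists_stage_section (t : (piSheaf F).obj.obj (op (Over.mk gc))) :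
    ∃ (i : ι) (s : (piSheaf F).obj.obj (op (Over.mk (g i)))),
      (piSheaf F).obj.map (Over.homMk (S.u i) (hgc i) : Over.mk gc ⟶ Over.mk (g i)).op s = t := by
  let k : ι := Classical.arbitrary ι
  let W := EtCoh.top (S.X k)
  haveI : CompactSpace W.left := S.qc (op k)
  haveI : QuasiSeparatedSpace W.left := S.qs (op k)
  let d : ov gc ((EtCoh.bc (S.u k)).obj W) ⟶ Over.mk gc := Over.homMk (pullback.snd W.hom (S.u k)) rfl
  obtain ⟨j, h, s, e⟩ := exists_app_eq (isColim_piCocone F g hg gc hgc) W ((piSheaf F).obj.map d.op t)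
  let d' : Over.mk (g j) ⟶ ov (g j) (S.at' h W) :=
    Over.homMk (pullback.lift (S.t h) (𝟙 _) ((Category.comp_id _).trans (Category.id_comp _).symm))
      (by
        show pullback.lift _ _ _ ≫ pullback.snd W.hom (S.t h) ≫ g j = g j
        rw [pullback.lift_snd_assoc]
        exact Category.id_comp _)
  refine ⟨j, (piSheaf F).obj.map d'.op s, ?_⟩
  have hw : pullback.lift (S.t h) (𝟙 _) ((Category.comp_id _).trans (Category.id_comp _).symm) ≫
      (S.at' h W).hom = 𝟙 (S.X j) := pullback.lift_snd _ _ _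
  let q : Over.mk gc ⟶ ov gc ((EtCoh.bc (S.u j)).obj (S.at' h W)) :=
    Over.homMk (pullback.lift (S.u j ≫ pullback.lift (S.t h) (𝟙 _) ((Category.comp_id _).trans (Category.id_comp _).symm))
      (𝟙 _) ((Category.assoc _ _ _).trans ((congrArg (fun f => S.u j ≫ f) hw).trans
        ((Category.comp_id _).trans (Category.id_comp _).symm))))
      (by
        show pullback.lift _ _ _ ≫ pullback.snd (S.at' h W).hom (S.u j) ≫ gc = gc
        rw [pullback.lift_snd_assoc]
        exact Category.id_comp _)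
  refine Eq.trans ?_ ((congrArg ((piSheaf F).obj.map q.op) e).trans ?_)
  · refine (map_map_apply (piSheaf F).obj _ _ s).trans ((piSheaf_map_eq F ?_ s).trans (map_map_apply (piSheaf F).obj _ _ s).symm)
    show S.u j ≫ pullback.lift _ _ _ = pullback.lift _ _ _ ≫ pullback.fst _ _
    rw [pullback.lift_fst]
    rfl
  · refine (map_map_apply (piSheaf F).obj q _ _).trans ((map_map_apply (piSheaf F).obj _ d t).trans ?_)
    refine (piSheaf_map_eq F (q := 𝟙 _) ?_ t).trans (by rw [op_id, CategoryTheory.Functor.map_id]; rfl)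
    refine (Category.assoc _ _ _).trans ?_
    show pullback.lift _ _ _ ≫ (bcTo (S.pr h W) (S.pr_w h W)).left ≫ pullback.snd W.hom (S.u k) = 𝟙 _
    rw [show (bcTo (S.pr h W) (S.pr_w h W)).left ≫ pullback.snd W.hom (S.u k) =
      pullback.snd (S.at' h W).hom (S.u j) from MorphismProperty.Over.w (bcTo (S.pr h W) (S.pr_w h W)),
      pullback.lift_snd]
    rfl

end Groth.Agent.ProEtFull
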