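import Groth.Agent.ProEtFull.CechSys
import Groth.Agent.ProEtFull.PiLim
import Groth.Agent.ProEtFull.Basic
import Groth.Agent.EtFlasqueLib.Post
import Groth.Agent.EtLimLib.Refine
import Groth.Agent.EtLimLib.ConstSys

/-!
# `π⁻¹` of an injective étale sheaf has exact Čech complexes on limits of étale coverings
-/

set_option autoImplicit false
set_option linter.style.haveILetI false
set_option backward.isDefEq.respectTransparency false
set_option backward.isDefEq.respectTransparency.types false
set_option maxHeartbeats 1000000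
universe u

noncomputable section

namespace Groth.Agent.ProEtFull

open CategoryTheory Limits AlgebraicGeometry Opposite
open Groth.Agent.BigSiteLib Groth.Agent.EtLimLib Groth.Agent.ProEtFull.CechSys

variable {X : Scheme.{u}}

instance hasFiniteProducts_over_over (U : Over X) : HasFiniteProducts (Over U) := inferInstance

/-- Affine morphisms of `X`-schemes. -/
def affP (X : Scheme.{u}) : MorphismProperty (Over X) :=
  MorphismProperty.inverseImage @IsAffineHom (Over.forget X)

instance : (affP X).IsMultiplicative := by unfold affP; infer_instance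

instance : (affP X).IsStableUnderBaseChange :=
  ⟨fun sq h => MorphismProperty.of_isPullback (P := @IsAffineHom) (sq.map (Over.forget X)) h⟩

instance : (affP X).HasOfPostcompProperty (affP X) :=
  ⟨fun f g (hg : IsAffineHom g.left) (h : IsAffineHom (f.left ≫ g.left)) => by
    haveI := hg
    haveI := h
    exact IsAffineHom.of_comp f.left g.left⟩

/-- Étale morphisms of `X`-schemes. -/
def etP (X : Scheme.{u}) : MorphismProperty (Over X) :=
  MorphismProperty.inverseImage @Etale (Over.forget X)

instance : (etP X).IsMultiplicative := by unfold etP; infer_instance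

instance : (etP X).IsStableUnderBaseChange :=
  ⟨fun sq h => MorphismProperty.of_isPullback (P := @Etale) (sq.map (Over.forget X)) h⟩

instance : (etP X).HasOfPostcompProperty (etP X) :=
  ⟨fun f g (hg : Etale g.left) (h : Etale (f.left ≫ g.left)) =>
    MorphismProperty.HasOfPostcompProperty.of_postcomp (W := @Etale) (W' := @Etale) f.left g.left hg h⟩

variable (F : EtCoh.Ab X)

/-- Every étale covering between affine schemes étale over `T` has exact Čech complexes for `π⁻¹F`. -/
def GoodBase (T : Over X) : Prop :=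
  IsAffine T.left ∧ ∀ (W V : Over X) (q : W ⟶ T) (g : V ⟶ W), IsAffine W.left → IsAffine V.left →
    Etale q.left → Etale g.left → Surjective g.left → Exact1.{u + 1} (piSheaf F).obj g

variable {F}

theorem GoodBase.etale {T W : Over X} (h : GoodBase F T) (q : W ⟶ T) [IsAffine W.left] [Etale q.left] :
    GoodBase F W :=
  ⟨inferInstance, fun W' V q' g hW hV hq hg hs => h.2 W' V (q' ≫ q) g hW hV
    (by haveI := hq; exact inferInstanceAs (Etale (q'.left ≫ q.left))) hg hs⟩

variable (F) in
theorem goodBase_etale [Injective F] (T : Over X) [IsAffine T.left] [Etale T.hom] : GoodBase F T := by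
  refine ⟨inferInstance, fun W V q g _ _ hq hg hs p => ?_⟩
  haveI := hq
  haveI := hg
  haveI : Etale W.hom := by rw [← Over.w q]; infer_instance
  haveI : Etale V.hom := by rw [← Over.w g]; infer_instance
  haveI : HasPullbacks X.Etale := inferInstance
  haveI : ∀ U : X.Etale, HasFiniteProducts (Over U) := fun _ => inferInstance
  let wE : X.Etale := Scheme.Etale.mk W.hom
  let gE : Scheme.Etale.mk V.hom ⟶ wE := MorphismProperty.Over.homMk g.left (Over.w g)
  haveI : PreservesFiniteLimits (EtFppf.a X) :=
    inferInstanceAs (PreservesFiniteLimits (MorphismProperty.Over.forget @Etale ⊤ X))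
  haveI : PreservesLimitsOfShape WalkingCospan (EtFppf.a X) := inferInstance
  haveI : Injective ((sheafToPresheaf X.smallEtaleTopology AddCommGrpCat.{u + 1}).obj F) :=
    Injective.injective_of_adjoint (sheafificationAdjunction X.smallEtaleTopology AddCommGrpCat.{u + 1}) _
  haveI := isIso_piEtAdj_unit (S := X) F
  let e : ((sheafToPresheaf X.smallEtaleTopology AddCommGrpCat.{u + 1}).obj F) ≅ (EtFppf.a X).op ⋙ (piSheaf F).obj :=
    (sheafToPresheaf X.smallEtaleTopology AddCommGrpCat.{u + 1}).mapIso
      (asIso ((BigSite.piEtAdj Scheme.etalePrecoverage X).unit.app F))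
  have h0 : IsZero (EtCech.cechH (fam.{u + 1} gE)
      ((sheafToPresheaf X.smallEtaleTopology AddCommGrpCat.{u + 1}).obj F) (p + 1)) :=
    CechInjective.isZero_cechH_injective (fam.{u + 1} gE) _ p
  have h1 : IsZero (EtCech.cechH (fam.{u + 1} gE) ((EtFppf.a X).op ⋙ (piSheaf F).obj) (p + 1)) :=
    h0.of_iso ((EtCech.cechHFunctor (fam.{u + 1} gE) (p + 1)).mapIso e.symm)
  exact h1.of_iso ((HomologicalComplex.homologyFunctor _ _ (p + 1)).mapIso
    (EtFlasqueLib.famCxPostIso (EtFppf.a X) (fam.{u + 1} gE) (piSheaf F).obj)).symm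

/-- A system of affine `X`-schemes with a limit. -/
structure AffSys (α : Type u) [Preorder α] (X : Scheme.{u}) where
  D : αᵒᵖ ⥤ Over X
  c : Cone D
  hc : IsLimit c
  aff : ∀ a, IsAffine (D.obj a).left

variable {α : Type u} [Preorder α] [Nonempty α] [IsDirected α (· ≤ ·)]

/-- The underlying system of schemes. -/
def AffSys.sys (S : AffSys α X) : Sys α :=
  haveI : IsConnected α := IsFiltered.isConnected α
  haveI : IsConnected αᵒᵖ := inferInstance
  { Xs := S.D ⋙ Over.forget X
    aff := fun a b h => by
      haveI : IsAffine ((S.D ⋙ Over.forget X).obj a) := S.aff a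
      haveI : IsAffine ((S.D ⋙ Over.forget X).obj b) := S.aff b
      infer_instance
    qc := fun a => by
      haveI : IsAffine ((S.D ⋙ Over.forget X).obj a) := S.aff a
      infer_instance
    qs := fun a => by
      haveI : IsAffine ((S.D ⋙ Over.forget X).obj a) := S.aff a
      infer_instance
    c := (Over.forget X).mapCone S.c
    hc := isLimitOfPreserves _ S.hc }

theorem AffSys.affine_pt (S : AffSys α X) : IsAffine S.c.pt.left := by
  obtain ⟨k⟩ := ‹Nonempty α›
  haveI : IsAffine (S.sys.Xs.obj (op k)) := S.aff (op k)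
  haveI : IsAffineHom (S.sys.u k) := S.sys.isAffineHom_u k
  exact isAffine_of_isAffineHom (S.sys.u k)

/-- The tail of a system. -/
def AffSys.after (S : AffSys α X) (i : α) : AffSys {j : α // i ≤ j} X :=
  haveI : (monotone_after i).functor.Final := (Monotone.final_functor_iff _).2 fun j => by
    obtain ⟨m, hm, hm'⟩ := directed_of (α := α) (· ≤ ·) i j
    exact ⟨⟨m, hm⟩, hm'⟩
  { D := (monotone_after i).functor.op ⋙ S.D
    c := S.c.whisker (monotone_after i).functor.op
    hc := (Functor.Initial.isLimitWhiskerEquiv (monotone_after i).functor.op S.c).symm S.hc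
    aff := fun a => S.aff _ }

instance (i : α) : Nonempty {j : α // i ≤ j} := ⟨⟨i, le_refl i⟩⟩

instance (i : α) : IsDirected {j : α // i ≤ j} (· ≤ ·) := ⟨fun a b => by
  obtain ⟨m, hm, hm'⟩ := directed_of (α := α) (· ≤ ·) a.1 b.1
  exact ⟨⟨m, a.2.trans hm⟩, hm, hm'⟩⟩

/-- A limit of arrows between affine schemes has exact Čech complexes if every stage has. -/
theorem exact_covSys (S : CovSys (C := Over X) α) (hQ : ∀ a, IsAffine (S.Qs.obj a).left)
    (hP : ∀ a, IsAffine (S.Ps.obj a).left) (hE : ∀ a, Exact1.{u + 1} (piSheaf F).obj (S.g.app a)) :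
    Exact1.{u + 1} (piSheaf F).obj S.gInf := by
  have hD : ∀ (n : ℕ) (a : αᵒᵖ), IsAffine ((S.diag.{u + 1} n).obj a).left := fun n a => by
    haveI := hQ a
    haveI : IsAffineHom (S.g.app a).left := by
      haveI := hP a
      infer_instance
    have h : IsAffineHom ((((CechInjective.E (fam.{u + 1} (S.g.app a))).obj
        (op (SimplexCategory.mk n))).obj (fun _ => PUnit.unit)).hom).left :=
      dob_prop.{u + 1} (affP X) (S.g.app a) ‹IsAffineHom (S.g.app a).left› n
    haveI := h
    exact isAffine_of_isAffineHom ((((CechInjective.E (fam.{u + 1} (S.g.app a))).obj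
        (op (SimplexCategory.mk n))).obj (fun _ => PUnit.unit)).hom).left
  let A : ℕ → AffSys α X := fun n =>
    { D := S.diag.{u + 1} n, c := S.cone.{u + 1} n, hc := (S.isLimit_cone.{u + 1} n).some, aff := hD n }
  refine CovSys.exact.{u + 1} S hE (fun n x => ?_) (fun n a y hy => ?_)
  · obtain ⟨i, s, hs⟩ := exists_stage_section F (S := (A n).sys) (fun a => ((A n).D.obj (op a)).hom)
      (fun a b h => Over.w ((A n).D.map (homOfLE h).op)) (A n).c.pt.hom
      (fun a => Over.w ((A n).c.π.app (op a))) x
    exact ⟨op i, s, (piSheaf_map_eq F rfl s).trans hs⟩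
  · obtain ⟨j, h, hj⟩ := exists_zero_stage F (S := (A n).sys) (fun a => ((A n).D.obj (op a)).hom)
      (fun a b h => Over.w ((A n).D.map (homOfLE h).op)) (A n).c.pt.hom
      (fun a => Over.w ((A n).c.π.app (op a))) a.unop y ((piSheaf_map_eq F rfl y).trans hy)
    exact ⟨op j, (homOfLE h).op, (piSheaf_map_eq F rfl y).trans hj⟩

/-- An affine étale scheme over the limit comes from a stage. -/
theorem AffSys.exists_descent (S : AffSys α X) {W : Over X} [IsAffine W.left] (q : W ⟶ S.c.pt) [Etale q.left] :
    ∃ (j : α) (Wj : Over X) (qj : Wj ⟶ S.D.obj (op j)) (b : W ⟶ Wj),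
      IsAffine Wj.left ∧ Etale qj.left ∧ IsPullback q b (S.c.π.app (op j)) qj := by
  haveI := S.affine_pt
  obtain ⟨A, B, _, _, ε, _, _, a, b, hpb⟩ :=
    exists_model q.left ⊤ (isAffineOpen_top _) ⊤ (isAffineOpen_top _) le_top
  let a' : S.c.pt.left ⟶ A := S.c.pt.left.topIso.inv ≫ a
  let b' : W.left ⟶ B := W.left.topIso.inv ≫ b
  have hpb' : IsPullback q.left b' a' ε := by
    refine hpb.of_iso W.left.topIso S.c.pt.left.topIso (Iso.refl _) (Iso.refl _) ?_ ?_ ?_ ?_
    · exact Scheme.Hom.resLE_comp_ι q.left le_top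
    · simp only [b', Iso.refl_hom, Category.comp_id, Iso.hom_inv_id_assoc]
    · simp only [a', Iso.refl_hom, Category.comp_id, Iso.hom_inv_id_assoc]
    · simp
  let Sg := S.sys
  haveI : ∀ {a b : αᵒᵖ} (f : a ⟶ b), IsAffineHom (Sg.Xs.map f) := fun f => Sg.aff f
  haveI := Sg.qc
  haveI := Sg.qs
  let t : Sg.Xs ⟶ (Functor.const _).obj (Spec ℤ') :=
    { app := fun j => specULiftZIsTerminal.from _
      naturality := fun i j f => hom_specZ_ext _ _ }
  obtain ⟨j, g, hg, -⟩ := Scheme.exists_π_app_comp_eq_of_locallyOfFinitePresentation Sg.Xs t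
    (specULiftZIsTerminal.from A) Sg.c Sg.hc a' (NatTrans.ext (funext fun j => hom_specZ_ext _ _))
  obtain ⟨j⟩ := j
  let Tj : Scheme.{u} := (S.D.obj (op j)).left
  haveI : IsAffine Tj := S.aff (op j)
  let g' : Tj ⟶ A := g
  haveI : IsAffine (pullback g' ε) := inferInstance
  have hw : (q.left ≫ (S.c.π.app (op j)).left) ≫ g' = b' ≫ ε := by
    rw [Category.assoc, show (S.c.π.app (op j)).left ≫ g' = a' from hg, hpb'.w]
  let bj : W.left ⟶ pullback g' ε := pullback.lift (q.left ≫ (S.c.π.app (op j)).left) b' hw
  let Wj : Over X := Over.mk (pullback.fst g' ε ≫ (S.D.obj (op j)).hom)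
  let qj : Wj ⟶ S.D.obj (op j) := Over.homMk (pullback.fst g' ε) rfl
  let bW : W ⟶ Wj := Over.homMk bj (by
    show bj ≫ pullback.fst g' ε ≫ (S.D.obj (op j)).hom = W.hom
    rw [← Category.assoc, pullback.lift_fst, Category.assoc, Over.w (S.c.π.app (op j))]
    exact Over.w q)
  haveI : Etale qj.left := inferInstanceAs (Etale (pullback.fst g' ε))
  refine ⟨j, Wj, qj, bW, ‹IsAffine (pullback g' ε)›, inferInstance, ?_⟩
  refine IsPullback.of_map (Over.forget X) ?_ ?_
  · ext
    exact (pullback.lift_fst _ _ hw).symm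
  · have hbig : IsPullback (bj ≫ pullback.snd g' ε) q.left ε ((S.c.π.app (op j)).left ≫ g') := by
      rw [pullback.lift_snd, show (S.c.π.app (op j)).left ≫ g' = a' from hg]
      exact hpb'.flip
    exact (IsPullback.of_right hbig (pullback.lift_fst _ _ hw)
      (IsPullback.of_hasPullback g' ε).flip).flip

section Pull

variable (S : AffSys α X) {j : α} (hb : ∀ a, j ≤ a) {W Wj : Over X} (q : W ⟶ S.c.pt)
  (b : W ⟶ Wj) (qj : Wj ⟶ S.D.obj (op j)) [IsAffine Wj.left] (h : IsPullback q b (S.c.π.app (op j)) qj)

/-- The transition map to the first stage. -/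
abbrev AffSys.t (a : αᵒᵖ) : S.D.obj a ⟶ S.D.obj (op j) := S.D.map ((homOfLE (hb a.unop)).op : a ⟶ op j)

theorem AffSys.map_t {a a' : αᵒᵖ} (f : a ⟶ a') : S.D.map f ≫ S.t hb a' = S.t hb a := by
  rw [← S.D.map_comp]
  exact congrArg S.D.map (Subsingleton.elim _ _)

/-- The base change of the first stage along the system. -/
def AffSys.pullD : αᵒᵖ ⥤ Over X where
  obj a := pullback (S.t hb a) qj
  map {a a'} f := pullback.lift (pullback.fst _ _ ≫ S.D.map f) (pullback.snd _ _)
    (by rw [Category.assoc, S.map_t hb f]; exact pullback.condition)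
  map_id a := by
    apply pullback.hom_ext <;> simp
  map_comp f f' := by
    apply pullback.hom_ext
    · simp
    · simp

/-- The projection of the base change. -/
def AffSys.pullπ : S.pullD hb qj ⟶ S.D where
  app a := pullback.fst _ _
  naturality a a' f := pullback.lift_fst _ _ _

/-- The cone of the base change. -/
def AffSys.pullCone : Cone (S.pullD hb qj) where
  pt := W
  π :=
    { app := fun a => pullback.lift (q ≫ S.c.π.app a) b (by
        rw [Category.assoc, show S.c.π.app a ≫ S.t hb a = S.c.π.app (op j) from S.c.w _]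
        exact h.w)
      naturality := fun a a' f => by
        refine (Category.id_comp _).trans ?_
        apply pullback.hom_ext
        · simp [AffSys.pullD]
        · simp [AffSys.pullD] }

/-- The base change system: its limit is `W`. -/
def AffSys.pull : AffSys α X where
  D := S.pullD hb qj
  c := S.pullCone hb q b qj h
  hc :=
    { lift := fun s => h.lift
        (S.hc.lift (Cone.mk s.pt
          { app := fun a => s.π.app a ≫ pullback.fst _ _
            naturality := fun a a' f => by
              refine (Category.id_comp _).trans ?_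
              rw [← s.w f]
              simp [AffSys.pullD] }))
        (s.π.app (op j) ≫ pullback.snd _ _) (by
          rw [S.hc.fac, Category.assoc, ← pullback.condition, ← Category.assoc]
          show _ = (s.π.app (op j) ≫ pullback.fst _ _) ≫ S.D.map _
          rw [show ((homOfLE (hb j)).op : op j ⟶ op j) = 𝟙 _ from rfl, CategoryTheory.Functor.map_id,
            Category.comp_id])
      fac := fun s a => by
        have hc' : s.π.app a ≫ pullback.snd _ _ = s.π.app (op j) ≫ pullback.snd _ _ := by
          rw [← s.w (homOfLE (hb a.unop)).op, Category.assoc]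
          exact congrArg _ (pullback.lift_snd _ _ _).symm
        apply pullback.hom_ext
        · simp [AffSys.pullCone]
        · simp [AffSys.pullCone, hc']
      uniq := fun s m hm => by
        refine h.hom_ext ?_ ?_
        · rw [h.lift_fst]
          refine S.hc.hom_ext fun a => ?_
          rw [S.hc.fac]
          show _ = s.π.app a ≫ pullback.fst _ _
          rw [← hm a]
          simp [AffSys.pullCone]
        · rw [h.lift_snd, ← hm (op j)]
          simp [AffSys.pullCone] }
  aff a := by
    haveI := S.aff a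
    haveI := S.aff (op j)
    haveI : IsAffineHom qj.left := inferInstance
    have h' := (IsPullback.of_hasPullback (S.t hb a) qj).map (Over.forget X)
    haveI : IsAffineHom (pullback.fst (S.t hb a) qj).left :=
      MorphismProperty.of_isPullback (P := @IsAffineHom) h'.flip ‹IsAffineHom qj.left›
    exact isAffine_of_isAffineHom (pullback.fst (S.t hb a) qj).left

theorem AffSys.pull_fac (a : αᵒᵖ) :
    (S.pull hb q b qj h).c.π.app a ≫ (S.pullπ hb qj).app a = q ≫ S.c.π.app a :=
  pullback.lift_fst _ _ _

omit [IsAffine Wj.left] in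
theorem AffSys.etale_pullπ [Etale qj.left] (a : αᵒᵖ) : Etale ((S.pullπ hb qj).app a).left :=
  MorphismProperty.of_isPullback (P := @Etale) ((IsPullback.of_hasPullback (S.t hb a) qj).map (Over.forget X)).flip
    ‹Etale qj.left›

omit [IsAffine Wj.left] in
theorem AffSys.surjective_pullπ (a : αᵒᵖ)
    (hr : ∀ z, (S.t hb a).left z ∈ Set.range qj.left) : Surjective ((S.pullπ hb qj).app a).left := ⟨fun z => by
  obtain ⟨y, hy⟩ := hr z
  have sq := (IsPullback.of_hasPullback (S.t hb a) qj).map (Over.forget X)
  obtain ⟨p, hp, -⟩ := Scheme.Pullback.exists_preimage_pullback (f := (S.t hb a).left) (g := qj.left) z y hy.symm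
  refine ⟨sq.isoPullback.inv p, ?_⟩
  rw [← hp]
  exact congrArg (fun m => m p) sq.isoPullback_inv_fst⟩

end Pull

/-- A limit of good affine schemes is good. -/
theorem GoodBase.limit (S : AffSys α X) (hS : ∀ a, GoodBase F (S.D.obj a)) : GoodBase F S.c.pt := by
  refine ⟨S.affine_pt, fun W V q g hW hV hq hg hs => ?_⟩
  haveI := hW; haveI := hV; haveI := hq; haveI := hg; haveI := hs
  obtain ⟨j, Wj, qj, b, hWj, hqj, hpb⟩ := S.exists_descent q
  haveI := hWj; haveI := hqj
  let S₁ := S.after j
  let T₁ := S₁.pull (j := ⟨j, le_refl j⟩) (fun a => a.2) q b qj hpb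
  let π₁ := S₁.pullπ (j := ⟨j, le_refl j⟩) (fun a => a.2) qj
  haveI hπ₁ : ∀ a, Etale (π₁.app a).left := fun a => S₁.etale_pullπ _ _ a
  obtain ⟨k, Vk, gk, b₂, hVk, hgk, hpb₂⟩ := T₁.exists_descent (W := V) g
  haveI := hVk; haveI := hgk
  let S₂ := T₁.after k
  let T₂ := S₂.pull (j := ⟨k, le_refl k⟩) (fun a => a.2) g b₂ gk hpb₂
  let π₂ := S₂.pullπ (j := ⟨k, le_refl k⟩) (fun a => a.2) gk
  -- surjectivity at a later stage
  let O : (T₁.D.obj (op k)).left.Opens := ⟨Set.range gk.left, gk.left.isOpenMap.isOpen_range⟩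
  let Sg₂ := S₂.sys
  haveI : ∀ {a b} (f : a ⟶ b), IsAffineHom (Sg₂.Xs.map f) := fun f => Sg₂.aff f
  haveI := Sg₂.qc
  obtain ⟨m, f, hm⟩ := exists_map_eq_top Sg₂.Xs Sg₂.c Sg₂.hc (i := op ⟨k, le_refl k⟩) O (by
    refine TopologicalSpace.Opens.ext (Set.eq_univ_of_forall fun z => ?_)
    obtain ⟨v, rfl⟩ := g.left.surjective z
    exact ⟨b₂.left v, congrArg (fun (φ : V ⟶ T₁.D.obj (op k)) => φ.left v) hpb₂.w.symm⟩)
  obtain ⟨m⟩ := m
  let S₃ := S₂.after m
  let T₃ := T₂.after m
  let C : CovSys (C := Over X) {l // m ≤ l} :=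
    { Qs := S₃.D, Ps := T₃.D, g := Functor.whiskerLeft _ π₂, cQ := S₃.c, cP := T₃.c, hQ := S₃.hc, hP := T₃.hc,
      gInf := g, fac := fun a => ((S₂.pull_fac (j := ⟨k, le_refl k⟩) (fun a => a.2) g b₂ gk hpb₂) _).symm }
  refine exact_covSys (F := F) C S₃.aff T₃.aff fun a => ?_
  refine (hS _).2 _ _ (π₁.app _) (C.g.app a) (S₃.aff a) (T₃.aff a) (hπ₁ _)
    (S₂.etale_pullπ (j := ⟨k, le_refl k⟩) (fun a => a.2) gk _)
    (S₂.surjective_pullπ (j := ⟨k, le_refl k⟩) (fun a => a.2) gk _ fun z => ?_)
  have hz : (Sg₂.Xs.map f) ((S₂.D.map (homOfLE a.unop.2).op).left z) ∈ O := by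
    have := hm.ge (x := (S₂.D.map (homOfLE a.unop.2).op).left z) trivial
    exact this
  have e : S₂.D.map (homOfLE a.unop.2).op ≫ S₂.D.map f = S₂.t (j := ⟨k, le_refl k⟩) (fun a => a.2) _ := by
    rw [← S₂.D.map_comp]
    exact congrArg S₂.D.map (Subsingleton.elim _ _)
  rw [← e]
  exact hz

/-- A limit of étale coverings of a good affine scheme has exact Čech complexes. -/
theorem GoodBase.exact_cover {T : Over X} (hT : GoodBase F T) (S : AffSys α X) (π : S.D ⟶ (Functor.const _).obj T)
    [∀ a, Etale (π.app a).left] [∀ a, Surjective (π.app a).left] (g : S.c.pt ⟶ T)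
    (hg : ∀ a, S.c.π.app a ≫ π.app a = g) : Exact1.{u + 1} (piSheaf F).obj g := by
  haveI : IsConnected α := IsFiltered.isConnected α
  haveI : IsConnected αᵒᵖ := inferInstance
  haveI := hT.1
  let C : CovSys (C := Over X) α :=
    { Qs := (Functor.const _).obj T, Ps := S.D, g := π, cQ := constCone _ T, cP := S.c,
      hQ := isLimitConstCone _ T, hP := S.hc, gInf := g
      fac := fun a => (Category.comp_id g).trans (hg a).symm }
  exact exact_covSys (F := F) C (fun a => hT.1) S.aff fun a => hT.2 _ _ (𝟙 T) (π.app a) hT.1 (S.aff a)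
    (inferInstanceAs (Etale (𝟙 T.left))) inferInstance inferInstance

/-- The fibre powers of a limit of étale coverings of a good affine scheme are good. -/
theorem GoodBase.dob_cover {T : Over X} (hT : GoodBase F T) (S : AffSys α X) (π : S.D ⟶ (Functor.const _).obj T)
    [∀ a, Etale (π.app a).left] (g : S.c.pt ⟶ T) (hg : ∀ a, S.c.π.app a ≫ π.app a = g) (n : ℕ) :
    GoodBase F (dob.{u + 1} g n) := by
  haveI : IsConnected α := IsFiltered.isConnected α
  haveI : IsConnected αᵒᵖ := inferInstance
  haveI := hT.1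
  let C : CovSys (C := Over X) α :=
    { Qs := (Functor.const _).obj T, Ps := S.D, g := π, cQ := constCone _ T, cP := S.c,
      hQ := isLimitConstCone _ T, hP := S.hc, gInf := g
      fac := fun a => (Category.comp_id g).trans (hg a).symm }
  have haff : ∀ a, IsAffine ((C.diag.{u + 1} n).obj a).left := fun a => by
    haveI := S.aff a
    haveI : IsAffine (((Functor.const αᵒᵖ).obj T).obj a).left := hT.1
    haveI : IsAffineHom ((((CechInjective.E (fam.{u + 1} (π.app a))).obj
        (op (SimplexCategory.mk n))).obj (fun _ => PUnit.unit)).hom).left :=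
      dob_prop.{u + 1} (affP X) (π.app a) (inferInstanceAs (IsAffineHom (π.app a).left)) n
    exact isAffine_of_isAffineHom ((((CechInjective.E (fam.{u + 1} (π.app a))).obj
        (op (SimplexCategory.mk n))).obj (fun _ => PUnit.unit)).hom).left
  exact GoodBase.limit
    { D := C.diag.{u + 1} n, c := C.cone.{u + 1} n, hc := (C.isLimit_cone.{u + 1} n).some, aff := haff }
    fun a => by
      haveI := haff a
      haveI : Etale ((((CechInjective.E (fam.{u + 1} (π.app a))).obj
          (op (SimplexCategory.mk n))).obj (fun _ => PUnit.unit)).hom).left :=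
        dob_prop.{u + 1} (etP X) (π.app a) (inferInstanceAs (Etale (π.app a).left)) n
      exact hT.etale ((((CechInjective.E (fam.{u + 1} (π.app a))).obj
          (op (SimplexCategory.mk n))).obj (fun _ => PUnit.unit)).hom)

end Groth.Agent.ProEtFull
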