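import Groth.Agent.ProEtFull.CechGood

/-!
# Čech complexes of `π⁻¹` of an injective étale sheaf on limits of quasi-compact quasi-separated étale schemes
-/

set_option autoImplicit false
set_option linter.style.haveILetI false
set_option backward.isDefEq.respectTransparency false
set_option backward.isDefEq.respectTransparency.types false
set_option maxHeartbeats 1000000
universe w v u

noncomputable section

namespace Groth.Agent.ProEtFull.CechSys

open CategoryTheory Limits Opposite
open Groth.Agent.CechInjective Groth.Agent.EtFlasqueLib Simplicial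

variable {C : Type u} [Category.{v} C] [LocallySmall.{w} C] [∀ U : C, HasFiniteProducts (Over U)]
  {W V W' V' : C} {g' : V' ⟶ W'} {g : V ⟶ W}

/-- Fibre powers commute with base change. -/
theorem isPullback_dmap (σ : Sq g' g) (h : IsPullback σ.β g' g σ.α) (n : ℕ) :
    IsPullback (dmap.{w} σ n) (idp.{w} g' n).base (idp.{w} g n).base σ.α := by
  have hb : ∀ {T : C} (z : T ⟶ dob.{w} g' n),
      z ≫ (idp.{w} g' n).base = (Pt.mk' (fun _ => PUnit.unit) z : Pt (fam.{w} g') n T).base := fun {T} z => by
    refine (base_mk' (fam.{w} g') z (idp.{w} g' n)).symm.trans ?_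
    rw [show (idp.{w} g' n).hom = 𝟙 _ from Pt.hom_mk' _ _, Category.comp_id]
  have hb' : ∀ {T : C} (z : T ⟶ dob.{w} g n),
      z ≫ (idp.{w} g n).base = (Pt.mk' (fun _ => PUnit.unit) z : Pt (fam.{w} g) n T).base := fun {T} z => by
    refine (base_mk' (fam.{w} g) z (idp.{w} g n)).symm.trans ?_
    rw [show (idp.{w} g n).hom = 𝟙 _ from Pt.hom_mk' _ _, Category.comp_id]
  have hw : dmap.{w} σ n ≫ (idp.{w} g n).base = (idp.{w} g' n).base ≫ σ.α := by
    rw [hb', ← img_base σ (idp.{w} g' n)]
    refine congrArg Pt.base ?_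
    rw [img_eq, show (idp.{w} g' n).hom = 𝟙 _ from Pt.hom_mk' _ _, Category.id_comp]
  have hl : ∀ (s : PullbackCone (idp.{w} g n).base σ.α),
      ∃! m : s.pt ⟶ dob.{w} g' n, m ≫ dmap.{w} σ n = s.fst ∧ m ≫ (idp.{w} g' n).base = s.snd := by
    intro s
    let q : Pt (fam.{w} g) n s.pt := Pt.mk' (fun _ => PUnit.unit) s.fst
    have hq : q.base = s.snd ≫ σ.α := (hb' s.fst).symm.trans s.condition
    let ck := fun k => h.lift (q.comp k).2 s.snd ((Pt.comp_w q k).trans hq)
    let p : Pt (fam.{w} g') n s.pt :=
      Pt.lift s.snd (fun k => ⟨PUnit.unit, ck k⟩) fun k => h.lift_snd _ _ _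
    have hp : img σ p = q := by
      refine pt_ext' ?_ fun k => ?_
      · rw [img_base, Pt.base_lift, hq]
      · rw [img_comp2, eq_of_heq (Sigma.ext_iff.1 (Pt.comp_lift s.snd _ _ k)).2]
        exact h.lift_fst _ _ _
    have hp' : (Pt.mk' (fun _ => PUnit.unit) p.hom : Pt (fam.{w} g') n s.pt) = p := mk'_hom p
    refine ⟨p.hom, ⟨?_, ?_⟩, fun m hm => ?_⟩
    · have := hom_congr hp
      rw [img_eq, Pt.hom_mk', Pt.hom_mk'] at this
      exact this
    · rw [hb, hp', Pt.base_lift]
    · let r : Pt (fam.{w} g') n s.pt := Pt.mk' (fun _ => PUnit.unit) m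
      have hr : img σ r = q := by rw [img_eq, Pt.hom_mk', hm.1]
      have hrb : r.base = s.snd := (hb m).symm.trans hm.2
      have : r = p := by
        refine pt_ext' (hrb.trans (Pt.base_lift _ _ _).symm) fun k => h.hom_ext ?_ ?_
        · rw [← img_comp2, ← img_comp2, hr, hp]
        · exact ((Pt.comp_w r k).trans hrb).trans ((Pt.comp_w p k).trans (Pt.base_lift _ _ _)).symm
      exact (Pt.hom_mk' _ m).symm.trans (hom_congr this)
  refine ⟨⟨hw⟩, ⟨PullbackCone.IsLimit.mk _ (fun s => (hl s).choose) (fun s => (hl s).choose_spec.1.1)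
    (fun s => (hl s).choose_spec.1.2) fun s m h1 h2 => (hl s).choose_spec.2 m ⟨h1, h2⟩⟩⟩

end Groth.Agent.ProEtFull.CechSys

namespace Groth.Agent.ProEtFull

open CategoryTheory Limits AlgebraicGeometry Opposite
open Groth.Agent.BigSiteLib Groth.Agent.EtLimLib Groth.Agent.ProEtFull.CechSys

variable {X : Scheme.{u}}

/-- Quasi-compact quasi-separated morphisms of `X`-schemes. -/
def qcqsP (X : Scheme.{u}) : MorphismProperty (Over X) :=
  MorphismProperty.inverseImage (@QuasiCompact ⊓ @QuasiSeparated) (Over.forget X)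

instance : (qcqsP X).IsMultiplicative where
  id_mem W := ⟨inferInstanceAs (QuasiCompact (𝟙 W.left)), inferInstanceAs (QuasiSeparated (𝟙 W.left))⟩
  comp_mem f g hf hg := by
    haveI : QuasiCompact f.left := hf.1
    haveI : QuasiSeparated f.left := hf.2
    haveI : QuasiCompact g.left := hg.1
    haveI : QuasiSeparated g.left := hg.2
    exact ⟨inferInstanceAs (QuasiCompact (f.left ≫ g.left)), inferInstanceAs (QuasiSeparated (f.left ≫ g.left))⟩

instance : (qcqsP X).IsStableUnderBaseChange :=
  ⟨fun sq h => ⟨MorphismProperty.of_isPullback (P := @QuasiCompact) (sq.map (Over.forget X)) h.1,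
    MorphismProperty.of_isPullback (P := @QuasiSeparated) (sq.map (Over.forget X)) h.2⟩⟩

instance : (qcqsP X).HasOfPostcompProperty (qcqsP X) :=
  ⟨fun f g hg h => by
    haveI : QuasiSeparated g.left := hg.2
    haveI : QuasiCompact (f.left ≫ g.left) := h.1
    haveI : QuasiSeparated (f.left ≫ g.left) := h.2
    exact ⟨QuasiCompact.of_comp f.left g.left, QuasiSeparated.of_comp f.left g.left⟩⟩

/-- Any morphism of étale `X`-schemes has exact Čech complexes for `π⁻¹` of an injective sheaf. -/
theorem exact1_etale (I : EtCoh.Ab X) [Injective I] {W V : Over X} [Etale W.hom] [Etale V.hom] (g : V ⟶ W) :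
    Exact1.{u + 1} (piSheaf I).obj g := fun p => by
  haveI : HasPullbacks X.Etale := inferInstance
  haveI : ∀ U : X.Etale, HasFiniteProducts (Over U) := fun _ => inferInstance
  let wE : X.Etale := Scheme.Etale.mk W.hom
  let gE : Scheme.Etale.mk V.hom ⟶ wE := MorphismProperty.Over.homMk g.left (Over.w g)
  haveI : PreservesFiniteLimits (EtFppf.a X) :=
    inferInstanceAs (PreservesFiniteLimits (MorphismProperty.Over.forget @Etale ⊤ X))
  haveI : PreservesLimitsOfShape WalkingCospan (EtFppf.a X) := inferInstance
  haveI : Injective ((sheafToPresheaf X.smallEtaleTopology AddCommGrpCat.{u + 1}).obj I) :=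
    Injective.injective_of_adjoint (sheafificationAdjunction X.smallEtaleTopology AddCommGrpCat.{u + 1}) _
  haveI := isIso_piEtAdj_unit (S := X) I
  let e : ((sheafToPresheaf X.smallEtaleTopology AddCommGrpCat.{u + 1}).obj I) ≅ (EtFppf.a X).op ⋙ (piSheaf I).obj :=
    (sheafToPresheaf X.smallEtaleTopology AddCommGrpCat.{u + 1}).mapIso
      (asIso ((BigSite.piEtAdj Scheme.etalePrecoverage X).unit.app I))
  have h0 : IsZero (EtCech.cechH (fam.{u + 1} gE)
      ((sheafToPresheaf X.smallEtaleTopology AddCommGrpCat.{u + 1}).obj I) (p + 1)) :=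
    CechInjective.isZero_cechH_injective (fam.{u + 1} gE) _ p
  have h1 : IsZero (EtCech.cechH (fam.{u + 1} gE) ((EtFppf.a X).op ⋙ (piSheaf I).obj) (p + 1)) :=
    h0.of_iso ((EtCech.cechHFunctor (fam.{u + 1} gE) (p + 1)).mapIso e.symm)
  exact h1.of_iso ((HomologicalComplex.homologyFunctor _ _ (p + 1)).mapIso
    (EtFlasqueLib.famCxPostIso (EtFppf.a X) (fam.{u + 1} gE) (piSheaf I).obj)).symm

/-- A presentation of `T` as a limit of quasi-compact quasi-separated étale schemes over `X` with affine
transition morphisms. -/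
structure QSys (T : Over X) where
  α : Type u
  [pre : Preorder α]
  [dir : IsDirected α (· ≤ ·)]
  [ne : Nonempty α]
  D : αᵒᵖ ⥤ Over X
  π : (Functor.const αᵒᵖ).obj T ⟶ D
  hc : IsLimit (Cone.mk T π)
  aff : ∀ ⦃a b : αᵒᵖ⦄ (h : a ⟶ b), IsAffineHom (D.map h).left
  qc : ∀ a, CompactSpace ↥(D.obj a).left
  qs : ∀ a, QuasiSeparatedSpace ↥(D.obj a).left
  et : ∀ a, Etale (D.obj a).hom

attribute [instance] QSys.pre QSys.dir QSys.ne

namespace QSys

variable {T : Over X} (S : QSys T)

/-- The underlying system of schemes. -/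
def sys : Sys S.α :=
  haveI : IsConnected S.α := IsFiltered.isConnected S.α
  haveI : IsConnected S.αᵒᵖ := inferInstance
  { Xs := S.D ⋙ Over.forget X, aff := S.aff, qc := S.qc, qs := S.qs
    c := (Over.forget X).mapCone (Cone.mk T S.π)
    hc := isLimitOfPreserves _ S.hc }

theorem exists_section (F : EtCoh.Ab X) (x : (piSheaf F).obj.obj (op T)) :
    ∃ (i : S.αᵒᵖ) (s : (piSheaf F).obj.obj (op (S.D.obj i))), (piSheaf F).obj.map (S.π.app i).op s = x := by
  obtain ⟨i, s, hs⟩ := exists_stage_section F (S := S.sys) (fun a => (S.D.obj (op a)).hom)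
    (fun a b h => Over.w (S.D.map (homOfLE h).op)) T.hom (fun a => Over.w (S.π.app (op a))) x
  exact ⟨op i, s, (piSheaf_map_eq F rfl s).trans hs⟩

theorem exists_zero (F : EtCoh.Ab X) (a : S.αᵒᵖ) (y : (piSheaf F).obj.obj (op (S.D.obj a)))
    (hy : (piSheaf F).obj.map (S.π.app a).op y = 0) :
    ∃ (b : S.αᵒᵖ) (f : b ⟶ a), (piSheaf F).obj.map (S.D.map f).op y = 0 := by
  obtain ⟨j, h, hj⟩ := exists_zero_stage F (S := S.sys) (fun a => (S.D.obj (op a)).hom)
    (fun a b h => Over.w (S.D.map (homOfLE h).op)) T.hom (fun a => Over.w (S.π.app (op a))) a.unop y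
    ((piSheaf_map_eq F rfl y).trans hy)
  exact ⟨op j, (homOfLE h).op, (piSheaf_map_eq F rfl y).trans hj⟩

/-- The stages after `k`. -/
def after (k : S.α) : QSys T :=
  haveI : (monotone_after k).functor.Final := (Monotone.final_functor_iff _).2 fun j => by
    obtain ⟨m, hm, hm'⟩ := directed_of (α := S.α) (· ≤ ·) k j
    exact ⟨⟨m, hm⟩, hm'⟩
  { α := {j : S.α // k ≤ j}
    D := (monotone_after k).functor.op ⋙ S.D
    π := ((Cone.mk T S.π).whisker (monotone_after k).functor.op).π
    hc := (Functor.Initial.isLimitWhiskerEquiv (monotone_after k).functor.op _).symm S.hc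
    aff := fun a b h => S.aff _
    qc := fun a => S.qc _, qs := fun a => S.qs _, et := fun a => S.et _ }

section Cover

variable {j : S.α} (hb : ∀ a, j ≤ a) {O : Scheme.{u}} (p : O ⟶ (S.D.obj (op j)).left)

/-- The map to the first stage. -/
abbrev t (a : S.αᵒᵖ) : S.D.obj a ⟶ S.D.obj (op j) := S.D.map ((homOfLE (hb a.unop)).op : a ⟶ op j)

theorem map_t {a b : S.αᵒᵖ} (f : a ⟶ b) : (S.D.map f).left ≫ (S.t hb b).left = (S.t hb a).left := by
  rw [← Over.comp_left, ← S.D.map_comp]
  exact congrArg (fun m => (S.D.map m).left) (Subsingleton.elim _ _)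

theorem π_t (a : S.αᵒᵖ) : (S.π.app a).left ≫ (S.t hb a).left = (S.π.app (op j)).left := by
  rw [← Over.comp_left]
  exact congrArg (fun m => m.left) ((Cone.mk T S.π).w _)

/-- The covering system. -/
def covD : S.αᵒᵖ ⥤ Over X where
  obj a := Over.mk (pullback.fst (S.t hb a).left p ≫ (S.D.obj a).hom)
  map {a b} f := Over.homMk (pullback.lift (pullback.fst _ _ ≫ (S.D.map f).left) (pullback.snd _ _)
    (by rw [Category.assoc, S.map_t hb f]; exact pullback.condition)) (by
      show pullback.lift _ _ _ ≫ pullback.fst _ _ ≫ _ = pullback.fst _ _ ≫ _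
      rw [pullback.lift_fst_assoc, Category.assoc, Over.w (S.D.map f)])
  map_id a := by
    apply Over.OverMorphism.ext
    apply pullback.hom_ext <;> simp
  map_comp f f' := by
    apply Over.OverMorphism.ext
    apply pullback.hom_ext <;> simp

/-- The covering arrows at the stages. -/
def covπ : S.covD hb p ⟶ S.D where
  app a := Over.homMk (pullback.fst (S.t hb a).left p) rfl
  naturality a b f := Over.OverMorphism.ext (pullback.lift_fst _ _ _)

/-- The covering of `T`. -/
def covT : Over X := Over.mk (pullback.fst (S.π.app (op j)).left p ≫ T.hom)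

/-- The covering arrow. -/
def covG : S.covT p ⟶ T := Over.homMk (pullback.fst (S.π.app (op j)).left p) rfl

/-- The cone on the covering system. -/
def covCone : Cone (S.covD hb p) where
  pt := S.covT p
  π :=
    { app := fun a => Over.homMk (pullback.lift (pullback.fst _ _ ≫ (S.π.app a).left) (pullback.snd _ _)
        (by rw [Category.assoc, S.π_t hb]; exact pullback.condition)) (by
          show pullback.lift _ _ _ ≫ pullback.fst _ _ ≫ _ = pullback.fst _ _ ≫ _
          rw [pullback.lift_fst_assoc, Category.assoc, Over.w (S.π.app a)]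
          rfl)
      naturality := fun a b f => by
        refine (Category.id_comp _).trans ?_
        apply Over.OverMorphism.ext
        apply pullback.hom_ext
        · simp [covD, covT]
          exact congrArg (fun m => pullback.fst (S.π.app (op j)).left p ≫ m)
            (congrArg (fun m => m.left) ((Cone.mk T S.π).w f).symm)
        · simp [covD, covT] }

theorem covπ_fac (a : S.αᵒᵖ) : S.covG p ≫ S.π.app a = (S.covCone hb p).π.app a ≫ (S.covπ hb p).app a :=
  Over.OverMorphism.ext (pullback.lift_fst _ _ _).symm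

theorem isPullback_covD {a b : S.αᵒᵖ} (f : a ⟶ b) :
    IsPullback ((S.covD hb p).map f) ((S.covπ hb p).app a) ((S.covπ hb p).app b) (S.D.map f) := by
  refine IsPullback.of_map (Over.forget X) ((S.covπ hb p).naturality f) ?_
  refine IsPullback.of_right (h₁₂ := pullback.snd (S.t hb b).left p) (v₁₃ := p) (h₂₂ := (S.t hb b).left) ?_ ?_
    (IsPullback.of_hasPullback (S.t hb b).left p).flip
  · show IsPullback (pullback.lift _ _ _ ≫ pullback.snd _ _) (pullback.fst _ _) p ((S.D.map f).left ≫ _)
    rw [pullback.lift_snd, S.map_t hb f]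
    exact (IsPullback.of_hasPullback (S.t hb a).left p).flip
  · exact pullback.lift_fst _ _ _

theorem isLimit_covCone : Nonempty (IsLimit (S.covCone hb p)) := by
  haveI : IsConnected S.α := IsFiltered.isConnected S.α
  haveI : IsConnected S.αᵒᵖ := inferInstance
  let hS : IsLimit ((Over.forget X).mapCone (Cone.mk T S.π)) := isLimitOfPreserves _ S.hc
  refine ⟨isLimitOfReflects (Over.forget X)
    { lift := fun s => pullback.lift
        (hS.lift (Cone.mk s.pt
          { app := fun a => s.π.app a ≫ pullback.fst (S.t hb a).left p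
            naturality := fun a b f => by
              refine (Category.id_comp _).trans ?_
              refine ((congrArg (· ≫ pullback.fst (S.t hb b).left p) (s.w f).symm).trans (Category.assoc _ _ _)).trans ?_
              refine Eq.trans ?_ (Category.assoc _ _ _).symm
              exact congrArg (s.π.app a ≫ ·) (pullback.lift_fst _ _ _) }))
        (s.π.app (op j) ≫ pullback.snd _ _) ?_
      fac := fun s a => ?_
      uniq := fun s m hm => ?_ }⟩
  · rw [show (S.π.app (op j)).left = ((Over.forget X).mapCone (Cone.mk T S.π)).π.app (op j) from rfl, hS.fac,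
      Category.assoc, ← pullback.condition, ← Category.assoc]
    show _ = (s.π.app (op j) ≫ pullback.fst _ _) ≫ (S.D.map _).left
    rw [show ((homOfLE (hb j)).op : op j ⟶ op j) = 𝟙 _ from rfl, CategoryTheory.Functor.map_id]
    exact (Category.comp_id _).symm
  · have hc' : s.π.app a ≫ pullback.snd _ _ = s.π.app (op j) ≫ pullback.snd _ _ := by
      refine Eq.trans ?_ (congrArg (· ≫ pullback.snd _ _) (s.w (homOfLE (hb a.unop)).op))
      refine Eq.trans ?_ (Category.assoc _ _ _).symm
      exact congrArg (s.π.app a ≫ ·) (pullback.lift_snd _ _ _).symm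
    show pullback.lift _ _ _ ≫ pullback.lift _ _ _ = _
    apply pullback.hom_ext
    · rw [Category.assoc, pullback.lift_fst, pullback.lift_fst_assoc]
      exact hS.fac _ a
    · rw [Category.assoc, pullback.lift_snd, pullback.lift_snd]
      exact hc'.symm
  · apply pullback.hom_ext
    · rw [pullback.lift_fst]
      refine hS.hom_ext fun a => ?_
      rw [hS.fac]
      show (m ≫ _) ≫ (S.π.app a).left = s.π.app a ≫ pullback.fst _ _
      rw [← hm a]
      show _ = (m ≫ pullback.lift _ _ _) ≫ _
      rw [Category.assoc, Category.assoc, pullback.lift_fst]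
    · rw [pullback.lift_snd, ← hm (op j)]
      show _ = (m ≫ pullback.lift _ _ _) ≫ _
      rw [Category.assoc, pullback.lift_snd]

/-- The covering as a system of arrows. -/
def covSys : CovSys (C := Over X) S.α where
  Qs := S.D
  Ps := S.covD hb p
  g := S.covπ hb p
  cQ := Cone.mk T S.π
  cP := S.covCone hb p
  hQ := S.hc
  hP := (S.isLimit_covCone hb p).some
  gInf := S.covG p
  fac := S.covπ_fac hb p

variable [Etale p] [QuasiCompact p] [QuasiSeparated p]

theorem etale_covπ (a : S.αᵒᵖ) : Etale ((S.covπ hb p).app a).left :=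
  inferInstanceAs (Etale (pullback.fst (S.t hb a).left p))

/-- The fibre powers of the covering are limits of quasi-compact quasi-separated étale schemes. -/
def dobSys (n : ℕ) : QSys (dob.{u + 1} (S.covG p) n) where
  α := S.α
  D := (S.covSys hb p).diag.{u + 1} n
  π := ((S.covSys hb p).cone.{u + 1} n).π
  hc := ((S.covSys hb p).isLimit_cone.{u + 1} n).some
  aff a b f := by
    have h := (isPullback_dmap.{u + 1} ((S.covSys hb p).σt f) (S.isPullback_covD hb p f) n).map (Over.forget X)
    exact MorphismProperty.of_isPullback (P := @IsAffineHom) h.flip (S.aff f)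
  qc a := by
    haveI := S.qc a
    have h := dob_prop.{u + 1} (qcqsP X) ((S.covπ hb p).app a)
      ⟨inferInstanceAs (QuasiCompact (pullback.fst (S.t hb a).left p)),
        inferInstanceAs (QuasiSeparated (pullback.fst (S.t hb a).left p))⟩ n
    haveI := h.1
    let q := ((((CechInjective.E (fam.{u + 1} ((S.covπ hb p).app a))).obj
        (op (SimplexCategory.mk n))).obj (fun _ => PUnit.unit)).hom).left
    haveI : QuasiCompact q := h.1
    exact QuasiCompact.compactSpace_of_compactSpace q
  qs a := by
    haveI := S.qs a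
    have h := dob_prop.{u + 1} (qcqsP X) ((S.covπ hb p).app a)
      ⟨inferInstanceAs (QuasiCompact (pullback.fst (S.t hb a).left p)),
        inferInstanceAs (QuasiSeparated (pullback.fst (S.t hb a).left p))⟩ n
    haveI := h.2
    let q := ((((CechInjective.E (fam.{u + 1} ((S.covπ hb p).app a))).obj
        (op (SimplexCategory.mk n))).obj (fun _ => PUnit.unit)).hom).left
    haveI : QuasiSeparated q := h.2
    exact quasiSeparatedSpace_of_quasiSeparated q
  et a := by
    haveI := S.et a
    haveI : Etale (((CechInjective.E (fam.{u + 1} ((S.covπ hb p).app a))).obj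
        (op (SimplexCategory.mk n))).obj (fun _ => PUnit.unit)).hom.left :=
      dob_prop.{u + 1} (etP X) ((S.covπ hb p).app a) (S.etale_covπ hb p a) n
    exact (Over.w (((CechInjective.E (fam.{u + 1} ((S.covπ hb p).app a))).obj
        (op (SimplexCategory.mk n))).obj (fun _ => PUnit.unit)).hom) ▸ inferInstance

include hb in
/-- The covering has exact Čech complexes for injective étale sheaves. -/
theorem exact_cov (I : EtCoh.Ab X) [Injective I] : Exact1.{u + 1} (piSheaf I).obj (S.covG p) := by
  refine CovSys.exact.{u + 1} (S.covSys hb p) (fun a => ?_)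
    (fun n x => (S.dobSys hb p n).exists_section I x) fun n a y hy => (S.dobSys hb p n).exists_zero I a y hy
  haveI := S.et a
  haveI := S.etale_covπ hb p a
  haveI : Etale ((S.covD hb p).obj a).hom :=
    inferInstanceAs (Etale (pullback.fst (S.t hb a).left p ≫ (S.D.obj a).hom))
  haveI : Etale ((S.covSys hb p).Qs.obj a).hom := S.et a
  haveI : Etale ((S.covSys hb p).Ps.obj a).hom := ‹Etale ((S.covD hb p).obj a).hom›
  exact exact1_etale I _

include hb in
/-- The covering by affine schemes is good for every injective sheaf. -/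
theorem goodBase_cov [IsAffine O] (I : EtCoh.Ab X) [Injective I] : GoodBase I (S.covT p) := by
  have haff : ∀ a, IsAffine ((S.covD hb p).obj a).left := fun a => by
    haveI : IsAffineHom (S.t hb a).left := S.aff _
    haveI : IsAffineHom (pullback.snd (S.t hb a).left p) := inferInstance
    exact isAffine_of_isAffineHom (pullback.snd (S.t hb a).left p)
  refine GoodBase.limit
    { D := S.covD hb p, c := S.covCone hb p, hc := (S.isLimit_covCone hb p).some, aff := haff } fun a => ?_
  haveI := haff a
  haveI := S.et a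
  haveI : Etale ((S.covD hb p).obj a).hom :=
    inferInstanceAs (Etale (pullback.fst (S.t hb a).left p ≫ (S.D.obj a).hom))
  exact goodBase_etale I _

end Cover

end QSys

end Groth.Agent.ProEtFull
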