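import Groth.Agent.EtFlasqueLib.Eval
import Mathlib.CategoryTheory.Limits.Constructions.Over.Basic
import Mathlib.CategoryTheory.MorphismProperty.Comma
import Mathlib.CategoryTheory.Limits.MorphismProperty

/-!
# Čech cohomology of a single arrow, and limits of arrows
-/

set_option autoImplicit false
set_option linter.style.haveILetI false
set_option backward.isDefEq.respectTransparency false
set_option backward.isDefEq.respectTransparency.types false
set_option maxHeartbeats 800000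

universe w v u t

open CategoryTheory CategoryTheory.Limits Opposite Simplicial

noncomputable section

namespace Groth.Agent.ProEtFull.CechSys

open CechInjective EtFlasqueLib

variable {C : Type u} [Category.{v} C] [LocallySmall.{w} C] [∀ U : C, HasFiniteProducts (Over U)]
  {W V : C}

/-- The family with the single member `g`. -/
abbrev fam (g : V ⟶ W) : PUnit.{w + 1} → Over W := fun _ => Over.mk g

/-- The Čech cohomology of the presheaf along `g` vanishes in positive degrees. -/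
def Exact1 (P : Cᵒᵖ ⥤ AddCommGrpCat.{w}) (g : V ⟶ W) : Prop :=
  ∀ p : ℕ, IsZero (EtCech.cechH (fam.{w} g) P (p + 1))

/-- The fibre power of `g`. -/
abbrev dob (g : V ⟶ W) (n : ℕ) : C :=
  (((E (fam.{w} g)).obj (op ⦋n⦌)).obj (fun _ => PUnit.unit)).left

/-- The tautological point. -/
abbrev idp (g : V ⟶ W) (n : ℕ) : Pt (fam.{w} g) n (dob.{w} g n) := idPt (fam.{w} g) (fun _ => PUnit.unit)

variable {P : Cᵒᵖ ⥤ AddCommGrpCat.{w}}

/-- The value of a cochain. -/
def val (g : V ⟶ W) {n : ℕ} (c : Coch (fam.{w} g) P n) : P.obj (op (dob.{w} g n)) := ev (fam.{w} g) c (idp g n)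

theorem ev_eq (g : V ⟶ W) {n : ℕ} (c : Coch (fam.{w} g) P n) {T : C} (p : Pt (fam.{w} g) n T) :
    ev (fam.{w} g) c p = P.map p.hom.op (val g c) := by
  rw [val, ev_comp]
  refine congrArg (ev (fam.{w} g) c) ?_
  rw [show (idp g n).hom = 𝟙 _ from Pt.hom_mk' _ _, Category.comp_id]
  exact Sigma.ext rfl (heq_of_eq (Equiv.apply_symm_apply _ _).symm)

theorem coch_ext' (g : V ⟶ W) {n : ℕ} {c c' : Coch (fam.{w} g) P n} (h : val g c = val g c') : c = c' :=
  coch_ext (fam.{w} g) fun p => by rw [ev_eq, ev_eq, h]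

/-- The cochain with a given value. -/
def ofVal (g : V ⟶ W) {n : ℕ} (x : P.obj (op (dob.{w} g n))) : Coch (fam.{w} g) P n :=
  mkCoch (fam.{w} g) fun _ => x

theorem val_ofVal (g : V ⟶ W) {n : ℕ} (x : P.obj (op (dob.{w} g n))) : val g (ofVal g x) = x := by
  rw [val, ofVal, ev_mkCoch, show (idp g n).hom = 𝟙 _ from Pt.hom_mk' _ _, op_id]
  exact ConcreteCategory.congr_hom (P.map_id _) x

theorem val_zero (g : V ⟶ W) (n : ℕ) : val g (0 : Coch (fam.{w} g) P n) = 0 := ev_zero _ _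

/-- A commutative square. -/
structure Sq {W' V' : C} (g' : V' ⟶ W') (g : V ⟶ W) where
  α : W' ⟶ W
  β : V' ⟶ V
  w : g' ≫ α = β ≫ g

variable {W' V' : C} {g' : V' ⟶ W'} {g : V ⟶ W}

/-- The image of a point along a square. -/
def img (σ : Sq g' g) {n : ℕ} {T : C} (p : Pt (fam.{w} g') n T) : Pt (fam.{w} g) n T :=
  Pt.lift (p.base ≫ σ.α) (fun k => ⟨PUnit.unit, (p.comp k).2 ≫ σ.β⟩) fun k => by
    show ((p.comp k).2 ≫ σ.β) ≫ g = p.base ≫ σ.α
    rw [Category.assoc, ← σ.w, ← Category.assoc]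
    exact congrArg (· ≫ σ.α) (Pt.comp_w p k)

theorem img_base (σ : Sq g' g) {n : ℕ} {T : C} (p : Pt (fam.{w} g') n T) : (img σ p).base = p.base ≫ σ.α :=
  Pt.base_lift _ _ _

theorem img_comp (σ : Sq g' g) {n : ℕ} {T : C} (p : Pt (fam.{w} g') n T) (k : Fin (n + 1)) :
    (img σ p).comp k = ⟨PUnit.unit, (p.comp k).2 ≫ σ.β⟩ :=
  Pt.comp_lift _ _ _ k

theorem pt_ext' {n : ℕ} {T : C} {p q : Pt (fam.{w} g) n T} (hb : p.base = q.base)
    (hc : ∀ k, (p.comp k).2 = (q.comp k).2) : p = q :=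
  Pt.ext hb fun k => Sigma.ext rfl (heq_of_eq (hc k))

theorem img_comp2 (σ : Sq g' g) {n : ℕ} {T : C} (p : Pt (fam.{w} g') n T) (k : Fin (n + 1)) :
    ((img σ p).comp k).2 = (p.comp k).2 ≫ σ.β :=
  eq_of_heq (Sigma.ext_iff.1 (img_comp σ p k)).2

theorem mk'_comp2 {n : ℕ} {T T' : C} (z : T' ⟶ T) (p : Pt (fam.{w} g) n T) (k : Fin (n + 1)) :
    ((Pt.mk' p.1 (z ≫ p.hom) : Pt (fam.{w} g) n T').comp k).2 = z ≫ (p.comp k).2 :=
  eq_of_heq (Sigma.ext_iff.1 (comp_mk' (fam.{w} g) z p k)).2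

theorem mk'_hom {n : ℕ} {T : C} (p : Pt (fam.{w} g) n T) : Pt.mk' p.1 p.hom = p :=
  Sigma.ext rfl (heq_of_eq (Equiv.apply_symm_apply _ _))

theorem hom_congr {n : ℕ} {T : C} {p q : Pt (fam.{w} g) n T} (h : p = q) :
    (p.hom : T ⟶ dob.{w} g n) = q.hom := by rw [h]

/-- The map of fibre powers induced by a square. -/
def dmap (σ : Sq g' g) (n : ℕ) : dob.{w} g' n ⟶ dob.{w} g n := (img σ (idp g' n)).hom

theorem img_eq (σ : Sq g' g) {n : ℕ} {T : C} (p : Pt (fam.{w} g') n T) :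
    img σ p = Pt.mk' (fun _ => PUnit.unit) (p.hom ≫ dmap σ n) := by
  show img σ p = Pt.mk' (img σ (idp g' n)).1 (p.hom ≫ (img σ (idp g' n)).hom)
  have hp : (Pt.mk' (idp g' n).1 (p.hom ≫ (idp g' n).hom) : Pt (fam.{w} g') n T) = p := by
    rw [show (idp g' n).hom = 𝟙 _ from Pt.hom_mk' _ _, Category.comp_id]
    exact mk'_hom p
  refine pt_ext' ?_ fun k => ?_
  · rw [base_mk', img_base, img_base, ← Category.assoc, ← base_mk' (fam.{w} g') p.hom (idp g' n), hp]
  · rw [mk'_comp2, img_comp2, img_comp2, ← Category.assoc, ← mk'_comp2 p.hom (idp g' n), hp]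

theorem img_ptMap (σ : Sq g' g) {m n : ℕ} (θ : ⦋m⦌ ⟶ ⦋n⦌) {T : C} (p : Pt (fam.{w} g') n T) :
    img σ (ptMap (fam.{w} g') θ T p) = ptMap (fam.{w} g) θ T (img σ p) := by
  refine pt_ext' ?_ fun k => ?_
  · rw [img_base, ptMap_base, ptMap_base, img_base]
  · have h₁ := Sigma.ext_iff.1 (ptMap_comp (fam.{w} g) θ T (img σ p) k)
    have h₂ := Sigma.ext_iff.1 (ptMap_comp (fam.{w} g') θ T p k)
    rw [img_comp2, eq_of_heq h₁.2, img_comp2, eq_of_heq h₂.2]

/-- Pullback of cochains along a square. -/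
def pb (σ : Sq g' g) {n : ℕ} (c : Coch (fam.{w} g) P n) : Coch (fam.{w} g') P n :=
  ofVal g' (P.map (dmap σ n).op (val g c))

theorem val_pb (σ : Sq g' g) {n : ℕ} (c : Coch (fam.{w} g) P n) :
    val g' (pb σ c) = P.map (dmap σ n).op (val g c) := val_ofVal _ _

theorem ev_pb (σ : Sq g' g) {n : ℕ} (c : Coch (fam.{w} g) P n) {T : C} (p : Pt (fam.{w} g') n T) :
    ev (fam.{w} g') (pb σ c) p = ev (fam.{w} g) c (img σ p) := by
  rw [ev_eq, val_pb, ev_eq, img_eq, Pt.hom_mk', op_comp, Functor.map_comp, ConcreteCategory.comp_apply]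

theorem pb_d (σ : Sq g' g) (n : ℕ) (c : Coch (fam.{w} g) P n) :
    pb σ ((EtCech.cechComplex (fam.{w} g) P).d n (n + 1) c : Coch (fam.{w} g) P (n + 1)) =
      (EtCech.cechComplex (fam.{w} g') P).d n (n + 1) (pb σ c) := by
  refine coch_ext (fam.{w} g') fun p => ?_
  rw [ev_pb, ev_d, ev_d]
  exact Finset.sum_congr rfl fun k _ => by rw [ev_pb, img_ptMap]

theorem dmap_comp {W'' V'' : C} {g'' : V'' ⟶ W''} (σ₁ : Sq g'' g') (σ₂ : Sq g' g) (σ : Sq g'' g)
    (hα : σ₁.α ≫ σ₂.α = σ.α) (hβ : σ₁.β ≫ σ₂.β = σ.β) (n : ℕ) :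
    dmap.{w} σ₁ n ≫ dmap σ₂ n = dmap σ n := by
  have h : img σ₂ (img σ₁ (idp.{w} g'' n)) = img σ (idp g'' n) := by
    refine pt_ext' ?_ fun k => ?_
    · rw [img_base, img_base, img_base, Category.assoc, hα]
    · rw [img_comp2, img_comp2, img_comp2, Category.assoc, hβ]
  rw [img_eq σ₂] at h
  exact (Pt.hom_mk' _ _).symm.trans (hom_congr h)

theorem dmap_id (σ : Sq g g) (hα : σ.α = 𝟙 _) (hβ : σ.β = 𝟙 _) (n : ℕ) : dmap.{w} σ n = 𝟙 _ := by
  have h : img σ (idp.{w} g n) = idp g n := by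
    refine pt_ext' ?_ fun k => ?_
    · rw [img_base, hα, Category.comp_id]
    · rw [img_comp2, hβ]
      exact Category.comp_id _
  exact (hom_congr h).trans (Pt.hom_mk' _ _)

/-- A system of arrows with a limit. -/
structure CovSys (α : Type t) [Preorder α] where
  Qs : αᵒᵖ ⥤ C
  Ps : αᵒᵖ ⥤ C
  g : Ps ⟶ Qs
  cQ : Cone Qs
  cP : Cone Ps
  hQ : IsLimit cQ
  hP : IsLimit cP
  gInf : cP.pt ⟶ cQ.pt
  fac : ∀ a, gInf ≫ cQ.π.app a = cP.π.app a ≫ g.app a

variable {α : Type t} [Preorder α] (S : CovSys (C := C) α)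

/-- The square from the limit. -/
abbrev CovSys.σu (a : αᵒᵖ) : Sq S.gInf (S.g.app a) := ⟨S.cQ.π.app a, S.cP.π.app a, S.fac a⟩

/-- A transition square. -/
abbrev CovSys.σt {a b : αᵒᵖ} (f : b ⟶ a) : Sq (S.g.app b) (S.g.app a) :=
  ⟨S.Qs.map f, S.Ps.map f, (S.g.naturality f).symm⟩

/-- The diagram of fibre powers. -/
def CovSys.diag (n : ℕ) : αᵒᵖ ⥤ C where
  obj a := dob.{w} (S.g.app a) n
  map f := dmap (S.σt f) n
  map_id a := dmap_id _ (S.Qs.map_id a) (S.Ps.map_id a) n
  map_comp f f' := (dmap_comp _ _ _ (S.Qs.map_comp f f').symm (S.Ps.map_comp f f').symm n).symm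

/-- The cone of fibre powers. -/
def CovSys.cone (n : ℕ) : Cone (S.diag n) where
  pt := dob.{w} S.gInf n
  π :=
    { app := fun a => dmap (S.σu a) n
      naturality := fun a b f => by
        refine (Category.id_comp _).trans ?_
        exact (dmap_comp (S.σu a) (S.σt f) (S.σu b) (S.cQ.w f) (S.cP.w f) n).symm }

theorem CovSys.base_dmap {a b : αᵒᵖ} (f : a ⟶ b) (n : ℕ) {T : C} (z : T ⟶ dob.{w} (S.g.app a) n) :
    (Pt.mk' (fun _ => PUnit.unit) (z ≫ dmap (S.σt f) n) : Pt (fam.{w} (S.g.app b)) n T) =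
      img (S.σt f) (Pt.mk' (fun _ => PUnit.unit) z) := by
  rw [img_eq, Pt.hom_mk']

theorem CovSys.isLimit_cone (n : ℕ) : Nonempty (IsLimit (S.cone n)) := by
  have hlift : ∀ s : Cone (S.diag n), ∃! m : s.pt ⟶ dob.{w} S.gInf n, ∀ a, m ≫ dmap (S.σu a) n = s.π.app a := by
    intro s
    let p : ∀ a, Pt (fam.{w} (S.g.app a)) n s.pt := fun a => Pt.mk' (fun _ => PUnit.unit) (s.π.app a)
    have hp : ∀ {a b : αᵒᵖ} (f : a ⟶ b), img (S.σt f) (p a) = p b := fun {a b} f => by
      rw [← S.base_dmap f n]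
      exact congrArg (Pt.mk' (fun _ => PUnit.unit)) ((s.π.naturality f).symm.trans (Category.id_comp _))
    let b₀ := S.hQ.lift (Cone.mk s.pt { app := fun a => (p a).base
                                        naturality := fun a b f => by
                                          refine (Category.id_comp _).trans ?_
                                          rw [← hp f, img_base] })
    let c₀ := fun k => S.hP.lift (Cone.mk s.pt { app := fun a => ((p a).comp k).2
                                                 naturality := fun a b f => by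
                                                   refine (Category.id_comp _).trans ?_
                                                   rw [← hp f, img_comp2] })
    let q : Pt (fam.{w} S.gInf) n s.pt := Pt.lift b₀ (fun k => ⟨PUnit.unit, c₀ k⟩) fun k => S.hQ.hom_ext fun a => by
      show (c₀ k ≫ S.gInf) ≫ _ = b₀ ≫ _
      rw [Category.assoc, S.fac, ← Category.assoc, S.hP.fac, S.hQ.fac]
      exact Pt.comp_w (p a) k
    have hq : ∀ a, img (S.σu a) q = p a := fun a => by
      refine pt_ext' ?_ fun k => ?_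
      · rw [img_base, Pt.base_lift]
        exact S.hQ.fac _ a
      · rw [img_comp2, eq_of_heq (Sigma.ext_iff.1 (Pt.comp_lift b₀ _ _ k)).2]
        exact S.hP.fac _ a
    refine ⟨q.hom, fun a => ?_, fun m hm => ?_⟩
    · have := hom_congr (hq a)
      rw [img_eq, Pt.hom_mk', Pt.hom_mk'] at this
      exact this
    · let r : Pt (fam.{w} S.gInf) n s.pt := Pt.mk' (fun _ => PUnit.unit) m
      have hr : ∀ a, img (S.σu a) r = p a := fun a => by
        rw [img_eq, Pt.hom_mk', hm]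
      have : r = q := by
        refine pt_ext' (S.hQ.hom_ext fun a => ?_) fun k => S.hP.hom_ext fun a => ?_
        · exact (img_base (S.σu a) r).symm.trans ((congrArg Pt.base ((hr a).trans (hq a).symm)).trans (img_base _ q))
        · have hc : ∀ {z z' : Pt (fam.{w} (S.g.app a)) n s.pt}, z = z' →
              ((z.comp k).2 : s.pt ⟶ S.Ps.obj a) = (z'.comp k).2 := fun h => by rw [h]
          exact (img_comp2 (S.σu a) r k).symm.trans ((hc ((hr a).trans (hq a).symm)).trans (img_comp2 _ q k))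
      exact (Pt.hom_mk' _ m).symm.trans (hom_congr this)
  choose m hm hu using hlift
  exact ⟨{ lift := m, fac := hm, uniq := hu }⟩

theorem CovSys.exact (hE : ∀ a, Exact1.{w} P (S.g.app a))
    (hs : ∀ (n : ℕ) (x : P.obj (op (S.cone.{w} n).pt)), ∃ a y, P.map ((S.cone n).π.app a).op y = x)
    (hz : ∀ (n : ℕ) (a : αᵒᵖ) (y : P.obj (op ((S.diag.{w} n).obj a))), P.map ((S.cone n).π.app a).op y = 0 →
      ∃ (b : αᵒᵖ) (f : b ⟶ a), P.map ((S.diag n).map f).op y = 0) :
    Exact1.{w} P S.gInf := by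
  intro p
  rw [← HomologicalComplex.exactAt_iff_isZero_homology,
    HomologicalComplex.exactAt_iff' _ p (p + 1) (p + 2) (by simp) (by simp), ShortComplex.ab_exact_iff]
  intro (c : Coch (fam.{w} S.gInf) P (p + 1)) hc
  obtain ⟨a, y, hy⟩ := hs (p + 1) (val _ c)
  let x : Coch (fam.{w} (S.g.app a)) P (p + 1) := ofVal _ y
  have hx : pb (S.σu a) x = c := coch_ext' _ (by rw [val_pb, val_ofVal]; exact hy)
  let dx : Coch (fam.{w} (S.g.app a)) P (p + 2) := (EtCech.cechComplex (fam.{w} (S.g.app a)) P).d (p + 1) (p + 2) x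
  obtain ⟨b, f, hb⟩ := hz (p + 2) a (val _ dx) (by
    show P.map (dmap (S.σu a) (p + 2)).op _ = 0
    rw [← val_pb, pb_d, hx]
    exact (congrArg (val S.gInf) hc).trans (val_zero _ _))
  have hcb : ((EtCech.cechComplex (fam.{w} (S.g.app b)) P).d (p + 1) (p + 2) (pb (S.σt f) x) :
      Coch (fam.{w} (S.g.app b)) P (p + 2)) = 0 := coch_ext' _ (by
    rw [← pb_d, val_pb, val_zero]
    exact hb)
  obtain ⟨z, hz'⟩ := exists_cochain_of_cocycle (fam.{w} (S.g.app b)) (hE b p) _ hcb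
  refine ⟨pb (S.σu b) z, ?_⟩
  refine (pb_d (S.σu b) p z).symm.trans ?_
  rw [hz', ← hx]
  exact coch_ext' _ (by
    rw [val_pb, val_pb, val_pb, ← ConcreteCategory.comp_apply, ← Functor.map_comp, ← op_comp,
      dmap_comp (S.σu b) (S.σt f) (S.σu a) (S.cQ.w f) (S.cP.w f)])

/-- A fibre power of an arrow in a multiplicative class stable under base change is in the class. -/
theorem dob_prop [HasPullbacks C] (Q : MorphismProperty C) [Q.IsMultiplicative] [Q.IsStableUnderBaseChange]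
    [Q.HasOfPostcompProperty Q] (g : V ⟶ W) (hg : Q g) (n : ℕ) :
    Q (((E (fam.{w} g)).obj (op ⦋n⦌)).obj (fun _ => PUnit.unit)).hom := by
  let o : Fin (n + 1) → Q.Over ⊤ W := fun _ => MorphismProperty.Over.mk ⊤ g hg
  let F := MorphismProperty.Over.forget Q ⊤ W
  let e : F.obj (∏ᶜ o) ≅ ∏ᶜ fun k => F.obj (o k) := PreservesProduct.iso F o
  have h := (∏ᶜ o).prop
  have hw : e.hom.left ≫ (∏ᶜ fun k => F.obj (o k)).hom = (F.obj (∏ᶜ o)).hom := Over.w e.hom
  haveI : IsIso e.hom.left := inferInstanceAs (IsIso ((Over.forget W).map e.hom))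
  refine (MorphismProperty.cancel_left_of_respectsIso Q e.hom.left _).1 ?_
  change Q (e.hom.left ≫ (∏ᶜ fun k => F.obj (o k)).hom)
  exact hw.symm ▸ h

end Groth.Agent.ProEtFull.CechSys
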