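import Groth.Agent.ProEtFull.LiftObj
import Groth.Agent.ProEtWC.Covers
import Groth.Agent.WLocalLib.WContrConstr
import Groth.Agent.ProEtLib2.IndEtaleWeakly

/-!
# Closed immersions and the pro-étale site

Base change along a closed immersion is cover dense and locally full, so direct image is fully faithful.
-/

set_option autoImplicit false
set_option linter.style.haveILetI false
set_option backward.isDefEq.respectTransparency false
set_option backward.isDefEq.respectTransparency.types false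
set_option maxHeartbeats 1000000
universe u

noncomputable section

namespace Groth.Agent.ProEtFull

open CategoryTheory Limits AlgebraicGeometry Opposite

/-- Objects are covered by w-contractible affines refining any family of affine neighbourhoods. -/
theorem exists_wc_cover {Z : Scheme.{u}} (U : Z.ProEt) (O : U.left → U.left.Opens) (hO : ∀ x, IsAffineOpen (O x))
    (hx : ∀ x, x ∈ O x) :
    ∃ (B : U.left → Type u) (_ : ∀ x, CommRing (B x)) (f : ∀ x, Spec (CommRingCat.of (B x)) ⟶ (O x : Scheme.{u}))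
      (_ : ∀ x, WeaklyEtale (f x ≫ (O x).ι ≫ U.hom)),
      (∀ x, EtPBC.IsWContractible (B x)) ∧
        Sieve.ofArrows (fun x => (Scheme.ProEt.mk (f x ≫ (O x).ι ≫ U.hom) : Z.ProEt))
          (fun x => (MorphismProperty.Over.homMk (f x ≫ (O x).ι) (Category.assoc _ _ _) :
            Scheme.ProEt.mk (f x ≫ (O x).ι ≫ U.hom) ⟶ U)) ∈ Scheme.ProEt.topology Z U := by
  haveI : WeaklyEtale U.hom := U.prop
  have hcov : ∀ x : U.left, ∃ (B : Type u) (_ : CommRing B) (f : Spec (CommRingCat.of B) ⟶ (O x : Scheme.{u})),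
      WeaklyEtale f ∧ Surjective f ∧ EtPBC.IsWContractible B := fun x => by
    obtain ⟨B, _, _, hff, hind, hB⟩ := WLocalLib.exists_wContractible_cover ↥Γ(U.left, O x)
    haveI := hff
    haveI := ProEtLib2.weaklyEtale_of_isIndEtale hind
    haveI := WLocalLib.weaklyEtale_spec (A := ↥Γ(U.left, O x)) (B := B)
    haveI : Surjective (Spec.map (CommRingCat.ofHom (algebraMap ↥Γ(U.left, O x) B))) :=
      ⟨PrimeSpectrum.comap_surjective_of_faithfullyFlat⟩
    exact ⟨B, inferInstance, Spec.map (CommRingCat.ofHom (algebraMap ↥Γ(U.left, O x) B)) ≫ (hO x).isoSpec.inv,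
      inferInstance, inferInstance, hB⟩
  choose B hR f hf hs hB using hcov
  haveI := hf
  refine ⟨B, hR, f, fun x => inferInstance, hB, ?_⟩
  have hmem := ProEtWC.ofArrows_opens_mem (U := U) O (Set.eq_univ_of_forall fun x => Set.mem_iUnion.2 ⟨x, hx x⟩)
  refine (Scheme.ProEt.topology Z).transitive hmem _ ?_
  rintro T g ⟨W, a, b, ⟨x⟩, rfl⟩
  rw [Sieve.pullback_comp]
  refine GrothendieckTopology.pullback_stable _ a ?_
  haveI := hs x
  haveI : IsAffine (ProEtWC.opObj U (O x)).left := hO x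
  let g : (Scheme.ProEt.mk (f x ≫ (O x).ι ≫ U.hom) : Z.ProEt) ⟶ ProEtWC.opObj U (O x) :=
    MorphismProperty.Over.homMk (f x)
  haveI : Surjective g.left := hs x
  haveI : IsAffine (Scheme.ProEt.mk (f x ≫ (O x).ι ≫ U.hom) : Z.ProEt).left := inferInstanceAs (IsAffine (Spec _))
  refine GrothendieckTopology.superset_covering _ ?_ (ProEtWC.singleton_mem g)
  rw [Sieve.generate_le_iff]
  rintro W h ⟨⟩
  exact Sieve.ofArrows_mk _ (fun x => (MorphismProperty.Over.homMk (f x ≫ (O x).ι) (Category.assoc _ _ _) :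
    Scheme.ProEt.mk (f x ≫ (O x).ι ≫ U.hom) ⟶ U)) x

theorem exists_affine_nhd {U : Scheme.{u}} {x : U} {W : U.Opens} (hx : x ∈ W) :
    ∃ O : U.Opens, IsAffineOpen O ∧ x ∈ O ∧ O ≤ W := by
  obtain ⟨_, ⟨O, hO, rfl⟩, hxO, hle⟩ := U.isBasis_affineOpens.exists_subset_of_mem_open (show x ∈ (W : Set U) from hx) W.2
  exact ⟨O, hO, hxO, hle⟩

variable {Z X : Scheme.{u}} (i : Z ⟶ X) [IsClosedImmersion i]

theorem bcP_map_fst {L U : X.ProEt} (g : L ⟶ U) :
    ((ProEtS.bcP i).map g).left ≫ pullback.fst U.hom i = pullback.fst L.hom i ≫ g.left := by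
  dsimp [ProEtS.bcP]
  exact pullback.lift_fst _ _ _

theorem bcP_map_snd {L U : X.ProEt} (g : L ⟶ U) :
    ((ProEtS.bcP i).map g).left ≫ pullback.snd U.hom i = pullback.snd L.hom i :=
  MorphismProperty.Over.w ((ProEtS.bcP i).map g)

/-- A lifted object restricts to the given one. -/
def liftIso {B : Type u} [CommRing B] {w : Spec (CommRingCat.of B) ⟶ Z} [WeaklyEtale w] {V : X.ProEt}
    {q : Spec (CommRingCat.of B) ⟶ V.left} (sq : IsPullback q w V.hom i) :
    (Scheme.ProEt.mk w : Z.ProEt) ≅ (ProEtS.bcP i).obj V :=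
  MorphismProperty.Over.isoMk sq.isoPullback sq.isoPullback_hom_snd

theorem isCoverDense_bcP : (ProEtS.bcP i).IsCoverDense (Scheme.ProEt.topology Z) := by
  refine ⟨fun W => ?_⟩
  have hx : ∀ x : W.left, ∃ (O : W.left.Opens) (Xa : X.Opens), IsAffineOpen O ∧ IsAffineOpen Xa ∧ x ∈ O ∧
      O ≤ W.hom ⁻¹ᵁ (i ⁻¹ᵁ Xa) := fun x => by
    obtain ⟨Xa, hXa, hyX, -⟩ := exists_affine_nhd (U := X) (x := i (W.hom x)) (W := ⊤) trivial
    obtain ⟨O, hO, hxO, hle⟩ := exists_affine_nhd (W := W.hom ⁻¹ᵁ (i ⁻¹ᵁ Xa)) (x := x) hyX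
    exact ⟨O, Xa, hO, hXa, hxO, hle⟩
  choose O Xa hO hXa hxO hle using hx
  obtain ⟨B, _, f, hf, hB, hmem⟩ := exists_wc_cover W O hO hxO
  refine GrothendieckTopology.superset_covering _ ?_ hmem
  rw [Sieve.ofArrows, Sieve.generate_le_iff]
  rintro T g ⟨x⟩
  haveI := hf x
  obtain ⟨V, q, -, -, sq, -, -⟩ := exists_lift_obj i (Xa x) (hXa x) (B x) (hB x) (f x ≫ (O x).ι ≫ W.hom)
    (fun t => hle x (f x t).2)
  exact ⟨⟨V, (liftIso i sq).hom, (liftIso i sq).inv ≫ _, Iso.hom_inv_id_assoc _ _⟩⟩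

theorem isLocallyFull_bcP : (ProEtS.bcP i).IsLocallyFull (Scheme.ProEt.topology Z) := by
  refine ⟨fun {U V} φ => ?_⟩
  let P := (ProEtS.bcP i).obj U
  let a : P.left ⟶ U.left := pullback.fst U.hom i
  let b : P.left ⟶ V.left := φ.left ≫ pullback.fst V.hom i
  have ha : a ≫ U.hom = P.hom ≫ i := pullback.condition
  have hb : b ≫ V.hom = P.hom ≫ i := by
    show (φ.left ≫ pullback.fst V.hom i) ≫ V.hom = _
    rw [Category.assoc, pullback.condition, ← Category.assoc]
    exact congrArg (· ≫ i) (MorphismProperty.Over.w φ)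
  have hx : ∀ x : P.left, ∃ (O : P.left.Opens) (Xa : X.Opens) (Oa : U.left.Opens) (Ob : V.left.Opens),
      IsAffineOpen O ∧ IsAffineOpen Xa ∧ IsAffineOpen Oa ∧ IsAffineOpen Ob ∧ x ∈ O ∧
      O ≤ a ⁻¹ᵁ Oa ∧ O ≤ b ⁻¹ᵁ Ob ∧ Oa ≤ U.hom ⁻¹ᵁ Xa ∧ Ob ≤ V.hom ⁻¹ᵁ Xa := fun x => by
    obtain ⟨Xa, hXa, hyX, -⟩ := exists_affine_nhd (U := X) (x := i (P.hom x)) (W := ⊤) trivial
    have h1 : U.hom (a x) = i (P.hom x) :=
      (Scheme.Hom.comp_apply a U.hom x).symm.trans
        ((congrArg (fun m => m x) ha).trans (Scheme.Hom.comp_apply P.hom i x))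
    have h2 : V.hom (b x) = i (P.hom x) :=
      (Scheme.Hom.comp_apply b V.hom x).symm.trans
        ((congrArg (fun m => m x) hb).trans (Scheme.Hom.comp_apply P.hom i x))
    obtain ⟨Oa, hOa, hxa, hla⟩ := exists_affine_nhd (W := U.hom ⁻¹ᵁ Xa) (x := a x) (show U.hom (a x) ∈ Xa from h1 ▸ hyX)
    obtain ⟨Ob, hOb, hxb, hlb⟩ := exists_affine_nhd (W := V.hom ⁻¹ᵁ Xa) (x := b x) (show V.hom (b x) ∈ Xa from h2 ▸ hyX)
    obtain ⟨O, hO, hxO, hle⟩ := exists_affine_nhd (W := a ⁻¹ᵁ Oa ⊓ b ⁻¹ᵁ Ob) (x := x) ⟨hxa, hxb⟩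
    exact ⟨O, Xa, Oa, Ob, hO, hXa, hOa, hOb, hxO, hle.trans inf_le_left, hle.trans inf_le_right, hla, hlb⟩
  choose O Xa Oa Ob hO hXa hOa hOb hxO hla hlb hXla hXlb using hx
  obtain ⟨B, _, f, hf, hB, hmem⟩ := exists_wc_cover P O hO hxO
  refine GrothendieckTopology.superset_covering _ ?_ hmem
  rw [Sieve.ofArrows, Sieve.generate_le_iff]
  rintro T g ⟨x⟩
  haveI := hf x
  have hw : ∀ t, (f x ≫ (O x).ι ≫ P.hom) t ∈ i ⁻¹ᵁ Xa x := fun t => by
    have h1 : U.hom (a ((O x).ι (f x t))) = i (P.hom ((O x).ι (f x t))) :=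
      (Scheme.Hom.comp_apply a U.hom _).symm.trans
        ((congrArg (fun m => m ((O x).ι (f x t))) ha).trans (Scheme.Hom.comp_apply P.hom i _))
    show i (P.hom ((O x).ι (f x t))) ∈ Xa x
    exact h1 ▸ hXla x (hla x (f x t).2)
  obtain ⟨L, q, -, -, sq, -, hlift⟩ := exists_lift_obj i (Xa x) (hXa x) (B x) (hB x) (f x ≫ (O x).ι ≫ P.hom) hw
  obtain ⟨gU, hgU⟩ := hlift U (Oa x) (hOa x) (hXla x) (f x ≫ a.resLE (Oa x) (O x) (hla x)) (by simp [ha])
  obtain ⟨gV, hgV⟩ := hlift V (Ob x) (hOb x) (hXlb x) (f x ≫ b.resLE (Ob x) (O x) (hlb x)) (by simp [hb])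
  rw [Category.assoc, Scheme.Hom.resLE_comp_ι] at hgU hgV
  let e := liftIso i sq
  have hU : e.hom ≫ (ProEtS.bcP i).map gU =
      (MorphismProperty.Over.homMk (f x ≫ (O x).ι) (Category.assoc _ _ _) :
        Scheme.ProEt.mk (f x ≫ (O x).ι ≫ P.hom) ⟶ P) := by
    apply MorphismProperty.Over.Hom.ext
    show sq.isoPullback.hom ≫ ((ProEtS.bcP i).map gU).left = f x ≫ (O x).ι
    refine pullback.hom_ext ?_ ?_
    · refine (Category.assoc _ _ _).trans ((congrArg (sq.isoPullback.hom ≫ ·) (bcP_map_fst i gU)).trans ?_)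
      exact ((Category.assoc _ _ _).symm.trans (congrArg (· ≫ gU.left) sq.isoPullback_hom_fst)).trans
        (hgU.trans (Category.assoc _ _ _).symm)
    · refine (Category.assoc _ _ _).trans ((congrArg (sq.isoPullback.hom ≫ ·) (bcP_map_snd i gU)).trans ?_)
      exact sq.isoPullback_hom_snd.trans (Category.assoc _ _ _).symm
  have hV : (ProEtS.bcP i).map gV = (ProEtS.bcP i).map gU ≫ φ := by
    refine (cancel_epi e.hom).1 (Eq.trans ?_ ((congrArg (· ≫ φ) hU).symm.trans (Category.assoc _ _ _)))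
    apply MorphismProperty.Over.Hom.ext
    show sq.isoPullback.hom ≫ ((ProEtS.bcP i).map gV).left = (f x ≫ (O x).ι) ≫ φ.left
    refine pullback.hom_ext ?_ ?_
    · refine (Category.assoc _ _ _).trans ((congrArg (sq.isoPullback.hom ≫ ·) (bcP_map_fst i gV)).trans ?_)
      refine ((Category.assoc _ _ _).symm.trans (congrArg (· ≫ gV.left) sq.isoPullback_hom_fst)).trans (hgV.trans ?_)
      exact (Category.assoc _ _ _).symm.trans (Category.assoc _ _ _).symm
    · refine (Category.assoc _ _ _).trans ((congrArg (sq.isoPullback.hom ≫ ·) (bcP_map_snd i gV)).trans ?_)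
      refine sq.isoPullback_hom_snd.trans ?_
      refine Eq.trans ?_ (Category.assoc _ _ _).symm
      refine (Category.assoc _ _ _).symm.trans (congrArg ((f x ≫ (O x).ι) ≫ ·) ?_)
      exact (MorphismProperty.Over.w φ).symm
  exact ⟨L, gU, e.hom, ⟨gV, hV⟩, hU.symm⟩

/-- Direct image along a closed immersion is fully faithful. -/
theorem isIso_counit_pullP [ProEtS.PCont i] (F : ProEtS.AbP Z) : IsIso ((ProEtS.pullPushAdjP i).counit.app F) := by
  haveI := isCoverDense_bcP i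
  haveI := isLocallyFull_bcP i
  haveI : (ProEtS.pushP i).Full := inferInstance
  haveI : (ProEtS.pushP i).Faithful := inferInstance
  infer_instance

end Groth.Agent.ProEtFull
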