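import Groth.Agent.EtSixLib.Forget

/-!
# Pullback of sheaves of modules commutes with forgetting the scalars
-/

set_option autoImplicit false
set_option backward.isDefEq.respectTransparency false
set_option backward.isDefEq.respectTransparency.types false
set_option maxHeartbeats 800000
universe u

namespace Groth.Agent.ProEtFull

open CategoryTheory Limits Opposite
open Groth.Agent.EtSixLib (coind forgetCoindAdj)

variable (Λ : Type (u + 1)) [CommRing Λ]
  {C : Type (u + 1)} [Category.{u} C] {J : GrothendieckTopology C}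
  {D : Type (u + 1)} [Category.{u} D] {K : GrothendieckTopology D}
  [J.HasSheafCompose (forget₂ (ModuleCat.{u + 1} Λ) AddCommGrpCat.{u + 1})]
  [K.HasSheafCompose (forget₂ (ModuleCat.{u + 1} Λ) AddCommGrpCat.{u + 1})]
  [J.HasSheafCompose (coind Λ)] [K.HasSheafCompose (coind Λ)]
  (G : C ⥤ D) [G.IsContinuous J K]
  [(G.sheafPushforwardContinuous (ModuleCat.{u + 1} Λ) J K).IsRightAdjoint]
  [(G.sheafPushforwardContinuous AddCommGrpCat.{u + 1} J K).IsRightAdjoint]

/-- The underlying abelian sheaf. -/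
noncomputable abbrev forgetSh {E : Type (u + 1)} [Category.{u} E] (J' : GrothendieckTopology E)
    [J'.HasSheafCompose (forget₂ (ModuleCat.{u + 1} Λ) AddCommGrpCat.{u + 1})] :
    Sheaf J' (ModuleCat.{u + 1} Λ) ⥤ Sheaf J' AddCommGrpCat.{u + 1} :=
  sheafCompose J' (forget₂ (ModuleCat.{u + 1} Λ) AddCommGrpCat.{u + 1})

/-- Forgetting sheaves of modules is left adjoint to coinduction. -/
noncomputable def forgetShAdj {E : Type (u + 1)} [Category.{u} E] (J' : GrothendieckTopology E)
    [J'.HasSheafCompose (forget₂ (ModuleCat.{u + 1} Λ) AddCommGrpCat.{u + 1})] [J'.HasSheafCompose (coind Λ)] :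
    forgetSh Λ J' ⊣ sheafCompose J' (coind Λ) :=
  Adjunction.mk'
    { homEquiv := fun F A =>
        { toFun := fun φ => ⟨((forgetCoindAdj Λ).whiskerRight Eᵒᵖ).homEquiv F.obj A.obj φ.hom⟩
          invFun := fun ψ => ⟨(((forgetCoindAdj Λ).whiskerRight Eᵒᵖ).homEquiv F.obj A.obj).symm ψ.hom⟩
          left_inv := fun φ => ObjectProperty.hom_ext _ (Equiv.symm_apply_apply _ _)
          right_inv := fun ψ => ObjectProperty.hom_ext _ (Equiv.apply_symm_apply _ _) }
      unit := { app := fun F => ⟨((forgetCoindAdj Λ).whiskerRight Eᵒᵖ).unit.app F.obj⟩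
                naturality := fun _ _ f => ObjectProperty.hom_ext _
                  (((forgetCoindAdj Λ).whiskerRight Eᵒᵖ).unit.naturality f.hom) }
      counit := { app := fun A => ⟨((forgetCoindAdj Λ).whiskerRight Eᵒᵖ).counit.app A.obj⟩
                  naturality := fun _ _ f => ObjectProperty.hom_ext _
                    (((forgetCoindAdj Λ).whiskerRight Eᵒᵖ).counit.naturality f.hom) }
      homEquiv_unit := fun {F A φ} => ObjectProperty.hom_ext _
        (((forgetCoindAdj Λ).whiskerRight Eᵒᵖ).homEquiv_unit F.obj A.obj φ.hom)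
      homEquiv_counit := fun {F A ψ} => ObjectProperty.hom_ext _
        (((forgetCoindAdj Λ).whiskerRight Eᵒᵖ).homEquiv_counit F.obj A.obj ψ.hom) }

theorem forgetShAdj_unit_app {E : Type (u + 1)} [Category.{u} E] (J' : GrothendieckTopology E)
    [J'.HasSheafCompose (forget₂ (ModuleCat.{u + 1} Λ) AddCommGrpCat.{u + 1})] [J'.HasSheafCompose (coind Λ)]
    (F : Sheaf J' (ModuleCat.{u + 1} Λ)) (V : Eᵒᵖ) :
    ((forgetShAdj Λ J').unit.app F).hom.app V = (forgetCoindAdj Λ).unit.app (F.obj.obj V) :=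
  rfl

/-- `U ∘ L_M ≅ L_A ∘ U`, with its compatibility with the units. -/
theorem exists_pullback_forget_iso (F : Sheaf J (ModuleCat.{u + 1} Λ)) :
    ∃ e : (G.sheafPullback AddCommGrpCat.{u + 1} J K).obj ((forgetSh Λ J).obj F) ≅
        (forgetSh Λ K).obj ((G.sheafPullback (ModuleCat.{u + 1} Λ) J K).obj F),
      (G.sheafAdjunctionContinuous AddCommGrpCat.{u + 1} J K).unit.app ((forgetSh Λ J).obj F) ≫
          (G.sheafPushforwardContinuous AddCommGrpCat.{u + 1} J K).map e.hom =
        (forgetSh Λ J).map ((G.sheafAdjunctionContinuous (ModuleCat.{u + 1} Λ) J K).unit.app F) := by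
  let aM := G.sheafAdjunctionContinuous (ModuleCat.{u + 1} Λ) J K
  let aA := G.sheafAdjunctionContinuous AddCommGrpCat.{u + 1} J K
  let k : G.sheafPushforwardContinuous AddCommGrpCat.{u + 1} J K ⋙ sheafCompose J (coind Λ) ≅
      sheafCompose K (coind Λ) ⋙ G.sheafPushforwardContinuous (ModuleCat.{u + 1} Λ) J K :=
    NatIso.ofComponents (fun _ => Iso.refl _) (fun _ => rfl)
  let adj₁ := aM.comp (forgetShAdj Λ K)
  let adj₂ := ((forgetShAdj Λ J).comp aA).ofNatIsoRight k
  refine ⟨(Adjunction.leftAdjointUniq adj₂ adj₁).app F, ?_⟩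
  apply ((forgetShAdj Λ J).homEquiv _ _).injective
  rw [Adjunction.homEquiv_unit, Adjunction.homEquiv_unit]
  have h := Adjunction.unit_leftAdjointUniq_hom_app adj₂ adj₁ F
  have hN := (forgetShAdj Λ J).unit.naturality (aM.unit.app F)
  have hU : (forgetShAdj Λ J).unit.app
        ((G.sheafPushforwardContinuous (ModuleCat.{u + 1} Λ) J K).obj ((G.sheafPullback (ModuleCat.{u + 1} Λ) J K).obj F)) =
      (G.sheafPushforwardContinuous (ModuleCat.{u + 1} Λ) J K).map
        ((forgetShAdj Λ K).unit.app ((G.sheafPullback (ModuleCat.{u + 1} Λ) J K).obj F)) := by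
    apply ObjectProperty.hom_ext
    rfl
  refine Eq.trans ?_ hN
  show (forgetShAdj Λ J).unit.app F ≫ _ = aM.unit.app F ≫ (forgetShAdj Λ J).unit.app _
  rw [hU]
  refine Eq.trans ?_ (h.trans ?_)
  · apply ObjectProperty.hom_ext
    simp [adj₂, k]
    rfl
  · simp [adj₁]

theorem isIso_unit_mod
    (h : ∀ A : Sheaf J AddCommGrpCat.{u + 1}, IsIso ((G.sheafAdjunctionContinuous AddCommGrpCat.{u + 1} J K).unit.app A))
    (F : Sheaf J (ModuleCat.{u + 1} Λ)) :
    IsIso ((G.sheafAdjunctionContinuous (ModuleCat.{u + 1} Λ) J K).unit.app F) := by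
  obtain ⟨e, he⟩ := exists_pullback_forget_iso Λ (K := K) G F
  haveI := h ((forgetSh Λ J).obj F)
  haveI : IsIso ((forgetSh Λ J).map ((G.sheafAdjunctionContinuous (ModuleCat.{u + 1} Λ) J K).unit.app F)) := by
    rw [← he]; infer_instance
  haveI : IsIso ((sheafToPresheaf J AddCommGrpCat.{u + 1}).map
      ((forgetSh Λ J).map ((G.sheafAdjunctionContinuous (ModuleCat.{u + 1} Λ) J K).unit.app F))) := inferInstance
  haveI : IsIso ((sheafToPresheaf J (ModuleCat.{u + 1} Λ)).map
      ((G.sheafAdjunctionContinuous (ModuleCat.{u + 1} Λ) J K).unit.app F)) := by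
    haveI : ∀ V, IsIso (((G.sheafAdjunctionContinuous (ModuleCat.{u + 1} Λ) J K).unit.app F).hom.app V) := fun V => by
      haveI : IsIso ((forget₂ (ModuleCat.{u + 1} Λ) AddCommGrpCat.{u + 1}).map
          (((G.sheafAdjunctionContinuous (ModuleCat.{u + 1} Λ) J K).unit.app F).hom.app V)) :=
        inferInstanceAs (IsIso (((sheafToPresheaf J AddCommGrpCat.{u + 1}).map
          ((forgetSh Λ J).map ((G.sheafAdjunctionContinuous (ModuleCat.{u + 1} Λ) J K).unit.app F))).app V))
      exact isIso_of_reflects_iso _ (forget₂ (ModuleCat.{u + 1} Λ) AddCommGrpCat.{u + 1})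
    exact @NatIso.isIso_of_isIso_app _ _ _ _ _ _ _ this
  exact isIso_of_reflects_iso _ (sheafToPresheaf J (ModuleCat.{u + 1} Λ))

end Groth.Agent.ProEtFull
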