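import Groth.Agent.ProEtFull.Lift
import Groth.Agent.ProEtFull.ModComm
import Groth.Prelude.Def_EtModW
import Groth.Prelude.Def_WeakSerre

/-!
# `ε⁻¹` is exact and fully faithful, with essential image closed under extensions
-/

set_option autoImplicit false
set_option linter.style.haveILetI false
set_option backward.isDefEq.respectTransparency false
set_option backward.isDefEq.respectTransparency.types false
set_option maxHeartbeats 1000000
universe u v

namespace Groth.Agent.ProEtFull

open CategoryTheory Limits AlgebraicGeometry Opposite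

set_option backward.defeqAttrib.useBackward true in
theorem preservesFiniteLimits_lan_mod {C : Type (u + 1)} [Category.{u} C] {D : Type (u + 1)} [Category.{u} D]
    (Λ : Type (u + 1)) [CommRing Λ] (F : C ⥤ D) [RepresentablyFlat F]
    [∀ H : Cᵒᵖ ⥤ ModuleCat.{u + 1} Λ, F.op.HasLeftKanExtension H] :
    PreservesFiniteLimits (F.op.lan : _ ⥤ Dᵒᵖ ⥤ ModuleCat.{u + 1} Λ) := by
  apply preservesFiniteLimits_of_preservesFiniteLimitsOfSize.{u + 1}
  intro J _ _
  apply preservesLimitsOfShape_of_evaluation (F.op.lan : (Cᵒᵖ ⥤ ModuleCat.{u + 1} Λ) ⥤ Dᵒᵖ ⥤ ModuleCat.{u + 1} Λ) J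
  intro K
  haveI : IsFiltered (CostructuredArrow F.op K) :=
    IsFiltered.of_equivalence (structuredArrowOpEquivalence F (unop K))
  haveI : IsFiltered (AsSmall.{u + 1} (CostructuredArrow F.op K)) := IsFiltered.of_equivalence AsSmall.equiv
  haveI : PreservesColimitsOfShape (CostructuredArrow F.op K) (forget (ModuleCat.{u + 1} Λ)) :=
    preservesColimitsOfShape_of_equiv (AsSmall.equiv (C := CostructuredArrow F.op K)).symm _
  exact preservesLimitsOfShape_of_natIso (BigSiteLib.lanEvalIsoColim (E := ModuleCat.{u + 1} Λ) F.op K).symm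

variable (X : Scheme.{u}) [ProEtS.EpsCont X]

theorem representablyFlat_eps : RepresentablyFlat (ProEtS.eps X) :=
  haveI := ProEtSLib.preservesFiniteLimits_eps X
  flat_of_preservesFiniteLimits _

theorem preservesFiniteLimits_epsPull : PreservesFiniteLimits (ProEtS.epsPull X) := by
  haveI := representablyFlat_eps X
  haveI : PreservesFiniteLimits ((ProEtS.eps X).op.lan : _ ⥤ X.ProEtᵒᵖ ⥤ AddCommGrpCat.{u + 1}) :=
    BigSiteLib.preservesFiniteLimits_lan_ab _
  exact Functor.sheafPullbackConstruction.preservesFiniteLimits (ProEtS.eps X) AddCommGrpCat.{u + 1} _ _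

variable (Λ : Type (u + 1)) [CommRing Λ]

theorem preservesFiniteLimits_epsPullMod : PreservesFiniteLimits (EtModW.epsPullMod Λ X) := by
  haveI := representablyFlat_eps X
  haveI : PreservesFiniteLimits ((ProEtS.eps X).op.lan : _ ⥤ X.ProEtᵒᵖ ⥤ ModuleCat.{u + 1} Λ) :=
    preservesFiniteLimits_lan_mod Λ _
  exact Functor.sheafPullbackConstruction.preservesFiniteLimits (ProEtS.eps X) (ModuleCat.{u + 1} Λ) _ _

/-- `ε⁻¹ ⊣ ε_*` on sheaves of modules. -/
noncomputable abbrev epsAdjMod :
    EtModW.epsPullMod Λ X ⊣ (ProEtS.eps X).sheafPushforwardContinuous (ModuleCat.{u + 1} Λ)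
      X.smallEtaleTopology (Scheme.ProEt.topology X) :=
  (ProEtS.eps X).sheafAdjunctionContinuous (ModuleCat.{u + 1} Λ) X.smallEtaleTopology (Scheme.ProEt.topology X)

theorem isIso_epsAdjMod_unit : IsIso (epsAdjMod X Λ).unit := by
  haveI : ∀ F, IsIso ((epsAdjMod X Λ).unit.app F) :=
    isIso_unit_mod Λ (ProEtS.eps X) fun A => isIso_epsAdj_unit A
  exact NatIso.isIso_of_isIso_app _

/-- `ε⁻¹` on sheaves of modules is fully faithful. -/
noncomputable def fullyFaithfulEpsPullMod : (EtModW.epsPullMod Λ X).FullyFaithful :=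
  haveI := isIso_epsAdjMod_unit X Λ
  (epsAdjMod X Λ).fullyFaithfulLOfIsIsoUnit

/-- `ε⁻¹` on abelian sheaves is fully faithful. -/
noncomputable def fullyFaithfulEpsPull : (ProEtS.epsPull X).FullyFaithful :=
  haveI : ∀ F, IsIso ((ProEtS.epsAdj X).unit.app F) := fun F => isIso_epsAdj_unit F
  haveI : IsIso (ProEtS.epsAdj X).unit := NatIso.isIso_of_isIso_app _
  (ProEtS.epsAdj X).fullyFaithfulLOfIsIsoUnit

/-- Étale locally liftable sections give local surjectivity after restriction to the étale site. -/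
theorem imageSieve_mem_of_lift {A : Type*} [Category A] {FA : A → A → Type*} {CA : A → Type*}
    [∀ P Q, FunLike (FA P Q) (CA P) (CA Q)] [ConcreteCategory A FA] {P Q : X.ProEtᵒᵖ ⥤ A} (g : P ⟶ Q)
    (H : ∀ (V : X.ProEt) [IsAffine V.left] (s : ToType (Q.obj (op V))),
      ∃ (W : Scheme.{u}) (p : W ⟶ V.left) (_ : Etale p), Surjective p ∧
        ∃ t : ToType (P.obj (op (po V p))), g.app (op (po V p)) t =
          Q.map (MorphismProperty.Over.homMk p : po V p ⟶ V).op s)
    {U : X.Etale} (s : ToType (Q.obj (op ((ProEtS.eps X).obj U)))) :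
    Presheaf.imageSieve (Functor.whiskerLeft (ProEtS.eps X).op g) s ∈ X.smallEtaleTopology U := by
  haveI : Etale U.hom := U.prop
  let 𝒰 := U.left.affineCover
  let Uk : 𝒰.I₀ → X.Etale := fun k => Scheme.Etale.mk (𝒰.f k ≫ U.hom)
  let ik : ∀ k, Uk k ⟶ U := fun k => MorphismProperty.Over.homMk (𝒰.f k) rfl
  haveI : ∀ k, IsAffine ((ProEtS.eps X).obj (Uk k)).left := fun k => inferInstanceAs (IsAffine (𝒰.X k))
  choose W p hp hsurj t ht using fun k =>
    H ((ProEtS.eps X).obj (Uk k)) (Q.map ((ProEtS.eps X).map (ik k)).op s)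
  haveI : ∀ k, Etale (p k) := hp
  let Wk : 𝒰.I₀ → X.Etale := fun k => Scheme.Etale.mk (p k ≫ 𝒰.f k ≫ U.hom)
  let φ : ∀ k, Wk k ⟶ U := fun k => MorphismProperty.Over.homMk (p k ≫ 𝒰.f k) (Category.assoc _ _ _)
  refine GrothendieckTopology.superset_covering _ ?_ (show Sieve.ofArrows Wk φ ∈ X.smallEtaleTopology U from ?_)
  · rw [Sieve.ofArrows, Sieve.generate_le_iff]
    rintro Z f ⟨k⟩
    refine ⟨t k, (ht k).trans ?_⟩
    rw [← ConcreteCategory.comp_apply, ← Functor.map_comp, ← op_comp]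
    rfl
  · rw [Scheme.ofArrows_mem_smallEtaleTopology_iff]
    refine Set.eq_univ_of_forall fun x => Set.mem_iUnion.2 ?_
    obtain ⟨y, hy⟩ := 𝒰.covers x
    obtain ⟨z, hz⟩ := (hsurj (𝒰.idx x)).1 y
    exact ⟨𝒰.idx x, z, by
      show (p (𝒰.idx x) ≫ 𝒰.f (𝒰.idx x)) z = x
      rw [Scheme.Hom.comp_apply, hz]
      exact hy⟩

theorem epi_epsPush_map (S : ShortComplex (ProEtS.AbP X)) (hS : S.ShortExact) (A : EtCoh.Ab X)
    (eA : (ProEtS.epsPull X).obj A ≅ S.X₁) : Epi ((ProEtS.epsPush X).map S.g) :=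
  (Sheaf.isLocallySurjective_iff_epi' _ _).1
    ⟨fun s => imageSieve_mem_of_lift X S.g.hom (fun V _ s => exists_etale_lift S hS A eA V s) s⟩

/-- The forgetful functor on sheaves of modules preserves finite limits. -/
theorem preservesFiniteLimits_forgetSh {C : Type (u + 1)} [Category.{u} C] (J : GrothendieckTopology C)
    [J.HasSheafCompose (forget₂ (ModuleCat.{u + 1} Λ) AddCommGrpCat.{u + 1})] :
    PreservesFiniteLimits (forgetSh Λ J) := by
  haveI : PreservesFiniteLimits (forgetSh Λ J ⋙ sheafToPresheaf J AddCommGrpCat.{u + 1}) :=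
    inferInstanceAs (PreservesFiniteLimits (sheafToPresheaf J (ModuleCat.{u + 1} Λ) ⋙
      (Functor.whiskeringRight Cᵒᵖ _ _).obj (forget₂ (ModuleCat.{u + 1} Λ) AddCommGrpCat.{u + 1})))
  exact preservesFiniteLimits_of_reflects_of_preserves (forgetSh Λ J) (sheafToPresheaf J AddCommGrpCat.{u + 1})

theorem epi_epsPushMod_map (S : ShortComplex (EtModW.ModP Λ X)) (hS : S.ShortExact) (A : EtModW.Mod Λ X)
    (eA : (EtModW.epsPullMod Λ X).obj A ≅ S.X₁) :
    Epi (((ProEtS.eps X).sheafPushforwardContinuous (ModuleCat.{u + 1} Λ)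
      X.smallEtaleTopology (Scheme.ProEt.topology X)).map S.g) := by
  haveI := preservesFiniteLimits_forgetSh Λ (Scheme.ProEt.topology X)
  let U := forgetSh Λ (Scheme.ProEt.topology X)
  haveI : U.PreservesZeroMorphisms := ⟨fun _ _ => rfl⟩
  let S' := S.map U
  haveI : Mono S'.f := by
    haveI := hS.mono_f
    exact inferInstanceAs (Mono (U.map S.f))
  haveI : Epi S'.g := by
    haveI := hS.epi_g
    haveI : Sheaf.IsLocallySurjective S.g := (Sheaf.isLocallySurjective_iff_epi' _ S.g).2 inferInstance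
    exact (Sheaf.isLocallySurjective_iff_epi' _ _).1
      ⟨fun {V} z => GrothendieckTopology.superset_covering _ (fun W f hf => hf)
        (Presheaf.imageSieve_mem (Scheme.ProEt.topology X) S.g.hom z)⟩
  have hex : S'.Exact := by
    haveI := hS.mono_f
    exact ShortComplex.exact_of_f_is_kernel _ (KernelFork.mapIsLimit _ hS.fIsKernel U)
  obtain ⟨e, -⟩ := exists_pullback_forget_iso Λ (K := Scheme.ProEt.topology X) (ProEtS.eps X) A
  refine (Sheaf.isLocallySurjective_iff_epi' _ _).1 ⟨fun s => ?_⟩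
  exact imageSieve_mem_of_lift X S'.g.hom (fun V _ s => exists_etale_lift S' ⟨hex⟩ _
    (e ≪≫ U.mapIso eA) V s) s

/-- A left exact adjunction with invertible unit: an extension of two objects in the image is in the image as
soon as the right adjoint sends it to an epimorphism. -/
theorem exists_preimage_extension {C : Type*} [Category C] [Abelian C] {D : Type*} [Category D] [Abelian D]
    {L : C ⥤ D} {R : D ⥤ C} (adj : L ⊣ R) [IsIso adj.unit] [PreservesFiniteLimits L] [R.Additive]
    {T : ShortComplex D} (hT : T.ShortExact) {A B : C} (eA : L.obj A ≅ T.X₁) (eB : L.obj B ≅ T.X₃)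
    (hepi : Epi (R.map T.g)) :
    (T.map R).ShortExact ∧ Nonempty (A ≅ R.obj T.X₁) ∧ Nonempty (B ≅ R.obj T.X₃) ∧
      Nonempty (L.obj (R.obj T.X₂) ≅ T.X₂) := by
  haveI : PreservesLimitsOfSize.{0, 0} R := adj.rightAdjoint_preservesLimits
  haveI : L.IsLeftAdjoint := adj.isLeftAdjoint
  haveI : L.Additive := adj.left_adjoint_additive
  haveI : PreservesFiniteColimits L := inferInstance
  haveI := hT.mono_f
  haveI : Mono (T.map R).f := inferInstanceAs (Mono (R.map T.f))
  haveI : Epi (T.map R).g := hepi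
  have hRT : (T.map R).ShortExact :=
    ⟨ShortComplex.exact_of_f_is_kernel _ (KernelFork.mapIsLimit _ hT.fIsKernel R)⟩
  have hcounit : ∀ {Y : D} {P : C} (e : L.obj P ≅ Y), IsIso (adj.counit.app Y) := fun {Y P} e => by
    haveI : IsIso (adj.counit.app (L.obj P)) := by
      haveI : IsIso (L.map (adj.unit.app P) ≫ adj.counit.app (L.obj P)) := by
        rw [show L.map (adj.unit.app P) ≫ adj.counit.app (L.obj P) = 𝟙 (L.obj P) from
          adj.left_triangle_components P]
        exact IsIso.id _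
      exact IsIso.of_isIso_comp_left (L.map (adj.unit.app P)) _
    rw [NatTrans.isIso_app_iff_of_iso (adj.counit) e.symm]
    infer_instance
  refine ⟨hRT, ⟨asIso (adj.unit.app A) ≪≫ R.mapIso eA⟩, ⟨asIso (adj.unit.app B) ≪≫ R.mapIso eB⟩, ?_⟩
  haveI := hcounit eA
  haveI := hcounit eB
  let φ : (T.map R).map L ⟶ T :=
    { τ₁ := adj.counit.app T.X₁, τ₂ := adj.counit.app T.X₂, τ₃ := adj.counit.app T.X₃
      comm₁₂ := (adj.counit.naturality T.f).symm
      comm₂₃ := (adj.counit.naturality T.g).symm }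
  haveI : IsIso φ.τ₁ := inferInstanceAs (IsIso (adj.counit.app T.X₁))
  haveI : IsIso φ.τ₃ := inferInstanceAs (IsIso (adj.counit.app T.X₃))
  haveI := ShortComplex.isIso₂_of_shortExact_of_isIso₁₃ φ (hRT.map_of_exact L) hT
  exact ⟨asIso φ.τ₂⟩

end Groth.Agent.ProEtFull
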