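import Groth.Agent.ProEtFull.HigherVanish
import Groth.Agent.ExtAdj.Basic

/-!
# Étale and pro-étale cohomology agree on étale sheaves
-/

set_option autoImplicit false
set_option linter.style.haveILetI false
set_option backward.isDefEq.respectTransparency false
set_option backward.isDefEq.respectTransparency.types false
set_option maxHeartbeats 1000000
universe u

noncomputable section

namespace Groth.Agent.ProEtFull

open CategoryTheory Limits AlgebraicGeometry Opposite Abelian

variable {X : Scheme.{u}} [ProEtS.EpsCont X]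

/-- `ε⁻¹` of a constant sheaf is constant. -/
def constIso : constantSheaf X.smallEtaleTopology AddCommGrpCat.{u + 1} ⋙ ProEtS.epsPull X ≅
    constantSheaf (Scheme.ProEt.topology X) AddCommGrpCat.{u + 1} :=
  let T : IsTerminal (EtCoh.top X) := MorphismProperty.Over.mkIdTerminal _ X
  let T' : IsTerminal ((ProEtS.eps X).obj (EtCoh.top X)) := MorphismProperty.Over.mkIdTerminal _ X
  let i : ProEtS.epsPush X ⋙ (sheafSections X.smallEtaleTopology AddCommGrpCat.{u + 1}).obj (op (EtCoh.top X)) ≅
      (sheafSections (Scheme.ProEt.topology X) AddCommGrpCat.{u + 1}).obj (op ((ProEtS.eps X).obj (EtCoh.top X))) :=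
    NatIso.ofComponents (fun G => Iso.refl _) (fun φ => (Category.comp_id _).trans (Category.id_comp _).symm)
  Adjunction.leftAdjointUniq
    (((constantSheafAdj X.smallEtaleTopology AddCommGrpCat.{u + 1} T).comp (ProEtS.epsAdj X)).ofNatIsoRight i)
    (constantSheafAdj (Scheme.ProEt.topology X) AddCommGrpCat.{u + 1} T')

theorem nonempty_H_equiv (F : EtCoh.Ab X) (n : ℕ) :
    Nonempty (EtCoh.H X F n ≃+ ProEtS.HP X ((ProEtS.epsPull X).obj F) n) := by
  haveI := preservesFiniteLimits_epsPull X
  haveI : PreservesFiniteColimits (ProEtS.epsPull X) :=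
    (ProEtS.epsAdj X).leftAdjoint_preservesColimits.{0, 0}.preservesFiniteColimits
  haveI : (ProEtS.epsPull X).Additive := (ProEtS.epsAdj X).left_adjoint_additive
  let c : EtCoh.Ab X :=
    (constantSheaf X.smallEtaleTopology AddCommGrpCat.{u + 1}).obj (AddCommGrpCat.of (ULift ℤ))
  let G := (ProEtS.epsPull X).obj F
  haveI := isIso_epsAdj_unit F
  let e₁ := ((extFunctorObj c n).mapIso (asIso ((ProEtS.epsAdj X).unit.app F))).addCommGroupIsoToAddEquiv
  let e₂ : Ext c ((ProEtS.epsPush X).obj G) n ≃+ Ext ((ProEtS.epsPull X).obj c) G n :=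
    AddEquiv.ofBijective (AddMonoidHom.ofMapSub (ExtAdj.transpose (ProEtS.epsAdj X) c G n)
      fun a b => ExtAdj.transpose_sub (ProEtS.epsAdj X) c G n a b)
      (ExtAdj.transpose_bijective (ProEtS.epsAdj X) c G (isAcyclicFor_epsPull F) n)
  let e₃ := ((extFunctor n).mapIso (constIso.symm.app (AddCommGrpCat.of (ULift.{u + 1} ℤ))).op).app G
  exact ⟨(e₁.trans e₂).trans e₃.addCommGroupIsoToAddEquiv⟩

theorem subsingleton_HP_of_injective (I : EtCoh.Ab X) [Injective I] (n : ℕ) :
    Subsingleton (ProEtS.HP X ((ProEtS.epsPull X).obj I) (n + 1)) := by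
  obtain ⟨e⟩ := nonempty_H_equiv I (n + 1)
  haveI : Subsingleton (EtCoh.H X I (n + 1)) := Ext.subsingleton_of_injective _ _ n
  exact e.symm.toEquiv.subsingleton

end Groth.Agent.ProEtFull
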