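import Groth.Agent.ProEtWC.Core
import Groth.Agent.ProEtWC.Lan
import Groth.Prelude.Def_ProEtS

/-!
# Extension by zero vanishes near a disjoint closed subscheme
-/

set_option autoImplicit false
set_option linter.style.haveILetI false
set_option backward.isDefEq.respectTransparency false
set_option backward.isDefEq.respectTransparency.types false
set_option maxHeartbeats 800000
universe u

noncomputable section

namespace Groth.Agent.ProEtFull

open CategoryTheory Limits AlgebraicGeometry Opposite

variable {U X Z : Scheme.{u}} (j : U ⟶ X) [WeaklyEtale j] [ProEtS.JPCont j]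

/-- The presheaf extension by zero has no sections on objects not mapping to `U`. -/
theorem isZero_lan_of_isEmpty (P : U.ProEtᵒᵖ ⥤ AddCommGrpCat.{u + 1}) (W : X.ProEt)
    (h : ∀ V : U.ProEt, IsEmpty (W ⟶ (ProEtS.compP j).obj V)) :
    IsZero (((ProEtS.compP j).op.lan.obj P).obj (op W)) := by
  have hc := Functor.isPointwiseLeftKanExtensionLeftKanExtensionUnit (ProEtS.compP j).op P (op W)
  rw [IsZero.iff_id_eq_zero]
  exact hc.hom_ext fun g => ((h g.left.unop).false g.hom.unop).elim

theorem subsingleton_extZeroP (i : Z ⟶ X) (hUZ : Disjoint (Set.range j.base) (Set.range i.base))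
    (V : X.ProEt) [IsAffine V.left]
    (hV : ∀ v : ↥V.left, ∃ z : ↥V.left, V.hom.base z ∈ Set.range i.base ∧ v ⤳ z)
    (F : ProEtS.AbP U) : Subsingleton (ProEtS.sectP ((ProEtS.extZeroP j).obj F) V) := by
  let e := (Functor.sheafPullbackConstruction.sheafPullbackIso (ProEtS.compP j) AddCommGrpCat.{u + 1}
    (Scheme.ProEt.topology U) (Scheme.ProEt.topology X)).app F
  let P := (ProEtS.compP j).op.lan.obj F.obj
  let G := (presheafToSheaf (Scheme.ProEt.topology X) AddCommGrpCat.{u + 1}).obj P
  suffices H : ∀ s : G.obj.obj (op V), s = 0 by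
    let eV := (((sheafToPresheaf _ _).mapIso e).app (op V)).addCommGroupIsoToAddEquiv
    exact subsingleton_of_forall_eq 0 fun x => eV.injective ((H (eV x)).trans (map_zero eV).symm)
  intro s
  obtain ⟨n, W, g, hW, hs⟩ := ProEtWC.exists_refine
    (Presheaf.imageSieve_mem (Scheme.ProEt.topology X) (toSheafify (Scheme.ProEt.topology X) P) s)
  let K : Type u := ULift.{u} {k : Fin n // ∀ T : U.ProEt, IsEmpty (W k ⟶ (ProEtS.compP j).obj T)}
  have hcov : Sieve.ofArrows (fun k : K => W k.down.1) (fun k : K => g k.down.1) ∈ Scheme.ProEt.topology X V := by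
    refine Groth.Agent.S7284.covering_of_finite_affine (inferInstance : IsAffine V.left)
      (fun k : K => (hW k.down.1).1) _ fun v => ?_
    obtain ⟨z, hz, hvz⟩ := hV v
    obtain ⟨k, w, rfl⟩ := hs z
    have hk : ∀ T : U.ProEt, IsEmpty (W k ⟶ (ProEtS.compP j).obj T) := fun T => ⟨fun m => by
      refine Set.disjoint_left.1 hUZ ?_ hz
      have e₁ : (g k).left ≫ V.hom = (W k).hom := Over.w (g k).hom
      have e₂ : m.left ≫ T.hom ≫ j = (W k).hom := Over.w m.hom
      refine ⟨(m.left ≫ T.hom) w, ?_⟩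
      show ((m.left ≫ T.hom) ≫ j) w = ((g k).left ≫ V.hom) w
      rw [e₁, Category.assoc, e₂]
      rfl⟩
    haveI : WeaklyEtale (g k).left := ProEtWC.weaklyEtale_left (g k)
    haveI : Flat (g k).left := inferInstance
    obtain ⟨w', -, hw'⟩ := Flat.generalizingMap (g k).left hvz
    exact ⟨⟨⟨k, hk⟩⟩, w', hw'⟩
  refine (((isSheaf_iff_isSheaf_of_type _ _).1
    ((sheafCompose (Scheme.ProEt.topology X) (forget AddCommGrpCat.{u + 1})).obj G).property).isSeparated _ hcov).ext ?_
  rintro T f ⟨T', a, b, ⟨k⟩, rfl⟩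
  show G.obj.map (a ≫ g k.down.1).op s = G.obj.map (a ≫ g k.down.1).op 0
  rw [op_comp, Functor.map_comp_apply, map_zero]
  obtain ⟨x, hx⟩ := (hW k.down.1).2
  have h0 : x = 0 :=
    haveI := AddCommGrpCat.subsingleton_of_isZero (isZero_lan_of_isEmpty j F.obj (W k.down.1) k.down.2)
    Subsingleton.elim _ _
  rw [h0, map_zero] at hx
  rw [← hx]
  exact map_zero _

end Groth.Agent.ProEtFull
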