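import Groth.Agent.ProEtWC.Covers
import Groth.Agent.EtLimLib.Cofiltered

/-!
# The weakly contractible cover of an affine scheme as a limit of étale affine schemes
-/

set_option autoImplicit false
set_option linter.style.haveILetI false
set_option backward.isDefEq.respectTransparency false
set_option backward.isDefEq.respectTransparency.types false
set_option maxHeartbeats 800000
universe u

namespace Groth.Agent.ProEtFull

open CategoryTheory Limits AlgebraicGeometry Opposite

/-- An affine scheme has a w-contractible cover which is a limit of étale affine schemes. -/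
theorem exists_ind_cover (V : Scheme.{u}) [IsAffine V] :
    ∃ (α : Type u) (_ : Preorder α) (_ : IsDirected α (· ≤ ·)) (_ : Nonempty α)
      (D : αᵒᵖ ⥤ Over V) (c : Cone D) (_ : IsLimit c),
      (∀ a, IsAffine (D.obj a).left ∧ Etale (D.obj a).hom) ∧ IsAffine c.pt.left ∧ Surjective c.pt.hom ∧
        WeaklyEtale c.pt.hom ∧ EtPBC.IsWContractible ↥(Γ(c.pt.left, ⊤)) := by
  let A := Γ(V, ⊤)
  obtain ⟨B, _, _, hff, hind, hB⟩ := WLocalLib.exists_wContractible_cover ↥A
  haveI := hff
  haveI hwe : Algebra.WeaklyEtale ↥A B := ProEtLib2.weaklyEtale_of_isIndEtale hind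
  obtain ⟨J, _, _, G, c, hc, hG, ⟨e⟩⟩ := hind
  obtain ⟨α, _, _, _, F, _⟩ := IsFiltered.exists_directed.{u} J
  let G' := F ⋙ G
  let c' := c.whisker F
  have hc' : IsColimit c' := (Functor.Final.isColimitWhiskerEquiv F c).symm hc
  haveI : IsConnected α := IsFiltered.isConnected α
  have h1 : IsColimit ((Under.forget _).mapCocone c') := isColimitOfPreserves _ hc'
  -- Spec of the diagram
  let D₀ : αᵒᵖ ⥤ Over V :=
    { obj := fun a => Over.mk (Spec.map (G'.obj a.unop).hom ≫ V.isoSpec.inv)
      map := fun {a b} f => Over.homMk (Spec.map (G'.map f.unop).right) (by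
        show Spec.map _ ≫ Spec.map _ ≫ V.isoSpec.inv = Spec.map _ ≫ V.isoSpec.inv
        rw [← Category.assoc, ← Spec.map_comp]
        congr 2
        exact Under.w (G'.map f.unop))
      map_id := fun a => Over.OverMorphism.ext (by
        show Spec.map (G'.map (𝟙 a.unop)).right = 𝟙 _
        rw [CategoryTheory.Functor.map_id]
        exact Spec.map_id _)
      map_comp := fun {a b d} f g => Over.OverMorphism.ext (by
        show Spec.map (G'.map (g.unop ≫ f.unop)).right = Spec.map _ ≫ Spec.map _
        rw [Functor.map_comp, ← Spec.map_comp]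
        rfl) }
  let c₀ : Cone D₀ :=
    { pt := Over.mk (Spec.map c'.pt.hom ≫ V.isoSpec.inv)
      π := { app := fun a => Over.homMk (Spec.map (c'.ι.app a.unop).right) (by
              show Spec.map _ ≫ Spec.map _ ≫ V.isoSpec.inv = Spec.map _ ≫ V.isoSpec.inv
              rw [← Category.assoc, ← Spec.map_comp]
              congr 2
              exact Under.w (c'.ι.app a.unop))
             naturality := fun a b f => Over.OverMorphism.ext (by
              show 𝟙 _ ≫ Spec.map _ = Spec.map (c'.ι.app a.unop).right ≫ Spec.map (G'.map f.unop).right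
              rw [Category.id_comp, ← Spec.map_comp]
              congr 1
              exact congrArg (fun m => m.right) (c'.w f.unop).symm) } }
  have h2 : IsLimit ((Over.forget V).mapCone c₀) :=
    isLimitOfPreserves Scheme.Spec h1.op
  haveI : IsConnected αᵒᵖ := inferInstance
  refine ⟨α, inferInstance, inferInstance, inferInstance, D₀, c₀, isLimitOfReflects (Over.forget V) h2,
    fun a => ⟨inferInstanceAs (IsAffine (Spec _)), ?_⟩, inferInstanceAs (IsAffine (Spec _)), ?_, ?_, ?_⟩
  · haveI : Etale (Spec.map (G'.obj a.unop).hom) := by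
      rw [HasRingHomProperty.Spec_iff (P := @Etale)]
      exact hG (F.obj a.unop)
    exact inferInstanceAs (Etale (Spec.map _ ≫ _))
  all_goals
    have he : c'.pt.hom = CommRingCat.ofHom (algebraMap ↥A B) ≫ e.inv.right := (Under.w e.inv).symm
    haveI : IsIso (Spec.map e.inv.right) := by
      haveI : IsIso e.inv.right := inferInstanceAs (IsIso ((Under.forget _).map e.inv))
      infer_instance
  · haveI : Surjective (Spec.map (CommRingCat.ofHom (algebraMap ↥A B))) :=
      ⟨PrimeSpectrum.comap_surjective_of_faithfullyFlat⟩
    show Surjective (Spec.map c'.pt.hom ≫ V.isoSpec.inv)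
    rw [he, Spec.map_comp]
    infer_instance
  · haveI : WeaklyEtale (Spec.map (CommRingCat.ofHom (algebraMap ↥A B))) :=
      { flat := (HasRingHomProperty.Spec_iff (P := @Flat)).2 (RingHom.flat_algebraMap_iff.2 hwe.flat)
        flat_diagonal := by
          rw [diagonal_SpecMap, MorphismProperty.cancel_right_of_respectsIso @Flat,
            HasRingHomProperty.Spec_iff (P := @Flat)]
          exact hwe.flat_lmul' }
    show WeaklyEtale (Spec.map c'.pt.hom ≫ V.isoSpec.inv)
    rw [he, Spec.map_comp]
    infer_instance
  · haveI : IsIso e.inv.right := inferInstanceAs (IsIso ((Under.forget _).map e.inv))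
    exact ProEtWC.isWContractible_of_ringEquiv
      ((asIso e.inv.right).commRingCatIsoToRingEquiv.trans
        (Scheme.ΓSpecIso c'.pt.right).symm.commRingCatIsoToRingEquiv) hB

end Groth.Agent.ProEtFull
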