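import Groth.Agent.ProEtFull.Basic
import Groth.Agent.ProEtFull.PiLim
import Groth.Agent.ProEtFull.IndSys

/-!
# Sections of an extension by a pulled back sheaf lift étale locally
-/

set_option autoImplicit false
set_option linter.style.haveILetI false
set_option backward.isDefEq.respectTransparency false
set_option backward.isDefEq.respectTransparency.types false
set_option maxHeartbeats 1000000
universe u

namespace Groth.Agent.ProEtFull

open CategoryTheory Limits AlgebraicGeometry Opposite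
open Groth.Agent.BigSiteLib Groth.Agent.EtLimLib

variable {X : Scheme.{u}}

/-- The system obtained by base change of a diagram over `V` along `p : T ⟶ V`. -/
noncomputable def bcSys {α : Type u} [Preorder α] {V T : Scheme.{u}} [IsAffine V] [IsAffine T]
    (D : αᵒᵖ ⥤ Over V) (hD : ∀ a, IsAffine (D.obj a).left) (c : Cone D) (hc : IsLimit c)
    [IsConnected αᵒᵖ] (p : T ⟶ V) : Sys α where
  Xs := D ⋙ Over.pullback p ⋙ Over.forget T
  aff a b f := by
    haveI := hD a
    haveI := hD b
    haveI : IsAffine ((D ⋙ Over.pullback p ⋙ Over.forget T).obj a) :=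
      inferInstanceAs (IsAffine (pullback (D.obj a).hom p))
    haveI : IsAffine ((D ⋙ Over.pullback p ⋙ Over.forget T).obj b) :=
      inferInstanceAs (IsAffine (pullback (D.obj b).hom p))
    infer_instance
  qc a := by
    haveI := hD a
    haveI : IsAffine ((D ⋙ Over.pullback p ⋙ Over.forget T).obj a) :=
      inferInstanceAs (IsAffine (pullback (D.obj a).hom p))
    infer_instance
  qs a := by
    haveI := hD a
    haveI : IsAffine ((D ⋙ Over.pullback p ⋙ Over.forget T).obj a) :=
      inferInstanceAs (IsAffine (pullback (D.obj a).hom p))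
    infer_instance
  c := (Over.forget T).mapCone ((Over.pullback p).mapCone c)
  hc :=
    haveI : PreservesLimitsOfSize.{u, u} (Over.pullback p) := (Over.mapPullbackAdj p).rightAdjoint_preservesLimits
    isLimitOfPreserves (Over.forget T) (isLimitOfPreserves (Over.pullback p) hc)

theorem bcSys_t_fst {α : Type u} [Preorder α] {V T : Scheme.{u}} [IsAffine V] [IsAffine T]
    (D : αᵒᵖ ⥤ Over V) (hD : ∀ a, IsAffine (D.obj a).left) (c : Cone D) (hc : IsLimit c)
    [IsConnected αᵒᵖ] (p : T ⟶ V) {i j : α} (h : i ≤ j) :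
    (bcSys D hD c hc p).t h ≫ pullback.fst (D.obj (op i)).hom p =
      pullback.fst (D.obj (op j)).hom p ≫ (D.map (homOfLE h).op).left :=
  pullback.lift_fst _ _ _

theorem bcSys_t_snd {α : Type u} [Preorder α] {V T : Scheme.{u}} [IsAffine V] [IsAffine T]
    (D : αᵒᵖ ⥤ Over V) (hD : ∀ a, IsAffine (D.obj a).left) (c : Cone D) (hc : IsLimit c)
    [IsConnected αᵒᵖ] (p : T ⟶ V) {i j : α} (h : i ≤ j) :
    (bcSys D hD c hc p).t h ≫ pullback.snd (D.obj (op i)).hom p = pullback.snd (D.obj (op j)).hom p :=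
  pullback.lift_snd _ _ _

theorem bcSys_u_fst {α : Type u} [Preorder α] {V T : Scheme.{u}} [IsAffine V] [IsAffine T]
    (D : αᵒᵖ ⥤ Over V) (hD : ∀ a, IsAffine (D.obj a).left) (c : Cone D) (hc : IsLimit c)
    [IsConnected αᵒᵖ] (p : T ⟶ V) (i : α) :
    (bcSys D hD c hc p).u i ≫ pullback.fst (D.obj (op i)).hom p =
      pullback.fst c.pt.hom p ≫ (c.π.app (op i)).left :=
  pullback.lift_fst _ _ _

theorem bcSys_u_snd {α : Type u} [Preorder α] {V T : Scheme.{u}} [IsAffine V] [IsAffine T]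
    (D : αᵒᵖ ⥤ Over V) (hD : ∀ a, IsAffine (D.obj a).left) (c : Cone D) (hc : IsLimit c)
    [IsConnected αᵒᵖ] (p : T ⟶ V) (i : α) :
    (bcSys D hD c hc p).u i ≫ pullback.snd (D.obj (op i)).hom p = pullback.snd c.pt.hom p :=
  pullback.lift_snd _ _ _

/-- A pro-étale object over `V`. -/
noncomputable abbrev po (V : X.ProEt) {Z : Scheme.{u}} (z : Z ⟶ V.left) [WeaklyEtale z] : X.ProEt :=
  Scheme.ProEt.mk (z ≫ V.hom)

noncomputable abbrev poHom (V : X.ProEt) {Z Z' : Scheme.{u}} (z : Z ⟶ V.left) [WeaklyEtale z]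
    (z' : Z' ⟶ V.left) [WeaklyEtale z'] (f : Z ⟶ Z') (h : f ≫ z' = z) : po V z ⟶ po V z' :=
  MorphismProperty.Over.homMk f (by
    show f ≫ z' ≫ V.hom = z ≫ V.hom
    rw [← Category.assoc, h])

theorem proet_hom_ext {A B : X.ProEt} {f g : A ⟶ B} (h : f.left = g.left) : f = g :=
  (Scheme.ProEt.forget X ⋙ Over.forget X).map_injective h

section Sect

variable (S : ShortComplex (ProEtS.AbP X))

theorem app_f_g (U : X.ProEt) (a : S.X₁.obj.obj (op U)) : S.g.hom.app (op U) (S.f.hom.app (op U) a) = 0 := by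
  have := congrArg (fun m : S.X₁ ⟶ S.X₃ => (m.hom.app (op U)).hom a) S.zero
  exact this

variable {S} (hS : S.ShortExact)
include hS

theorem app_f_injective (U : X.ProEt) : Function.Injective (S.f.hom.app (op U)) := by
  haveI := hS.mono_f
  haveI : Mono ((sheafToPresheaf _ AddCommGrpCat.{u + 1}).map S.f) := inferInstance
  exact (AddCommGrpCat.mono_iff_injective _).1 ((NatTrans.mono_iff_mono_app _).1 this (op U))

theorem exists_app_f_eq (U : X.ProEt) (y : S.X₂.obj.obj (op U)) (hy : S.g.hom.app (op U) y = 0) :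
    ∃ a, S.f.hom.app (op U) a = y := by
  haveI := hS.mono_f
  let Γ' := sheafToPresheaf (Scheme.ProEt.topology X) AddCommGrpCat.{u + 1} ⋙
    (evaluation X.ProEtᵒᵖ AddCommGrpCat.{u + 1}).obj (op U)
  haveI : Γ'.PreservesZeroMorphisms := ⟨fun _ _ => rfl⟩
  have hl : IsLimit (KernelFork.ofι S.f S.zero) := hS.fIsKernel
  have hl' := KernelFork.mapIsLimit _ hl Γ'
  have hex : (S.map Γ').Exact := ShortComplex.exact_of_f_is_kernel _ hl'
  exact (ShortComplex.ab_exact_iff _).1 hex y hy

end Sect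

variable [ProEtS.EpsCont X]

/-- Sections of `C` over an affine pro-étale object lift, étale locally on it, along an epimorphism
whose kernel is pulled back from the étale site. -/
theorem exists_etale_lift (S : ShortComplex (ProEtS.AbP X)) (hS : S.ShortExact) (A : EtCoh.Ab X)
    (eA : (ProEtS.epsPull X).obj A ≅ S.X₁) (V : X.ProEt) [IsAffine V.left] (s : S.X₃.obj.obj (op V)) :
    ∃ (W : Scheme.{u}) (p : W ⟶ V.left) (_ : Etale p), Surjective p ∧
      ∃ t, S.g.hom.app (op (po V p)) t =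
        S.X₃.obj.map (MorphismProperty.Over.homMk p : po V p ⟶ V).op s := by
  obtain ⟨α, _, _, _, D, c, hc, hD, hcaff, hcsurj, hcwe, hW⟩ := exists_ind_cover V.left
  haveI := hcaff
  haveI := hcsurj
  haveI := hcwe
  haveI : IsConnected α := IsFiltered.isConnected α
  haveI : IsConnected αᵒᵖ := inferInstance
  haveI : ∀ a, Etale (D.obj a).hom := fun a => (hD a).2
  haveI : ∀ a, IsAffine (D.obj a).left := fun a => (hD a).1
  let H : X.ProEt := po V c.pt.hom
  haveI : IsAffine H.left := hcaff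
  -- a lift over the w-contractible cover
  obtain ⟨e, he⟩ : ∃ e, S.g.hom.app (op H) e =
      S.X₃.obj.map (MorphismProperty.Over.homMk c.pt.hom : H ⟶ V).op s := by
    haveI := hS.epi_g
    haveI : Sheaf.IsLocallySurjective S.g := (Sheaf.isLocallySurjective_iff_epi' _ S.g).2 inferInstance
    let φ := (sheafCompose (Scheme.ProEt.topology X) (forget AddCommGrpCat.{u + 1})).map S.g
    haveI : Sheaf.IsLocallySurjective φ :=
      ⟨fun {U} z => GrothendieckTopology.superset_covering _ (fun W f hf => hf)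
        (Presheaf.imageSieve_mem (Scheme.ProEt.topology X) S.g.hom z)⟩
    exact ProEtWC.isWC_of_isWContractible (U := H) hW _ _ φ
      ((Sheaf.isLocallySurjective_iff_epi' _ φ).1 inferInstance) _
  -- the kernel through π⁻¹ A
  let ιA : piProEt A ⟶ S.X₂ := (epsPullIso A).inv ≫ eA.hom ≫ S.f
  let ia := fun (U : X.ProEt) (a : (piSheaf A).obj.obj (op ((Scheme.ProEt.forget X).obj U))) => ιA.hom.app (op U) a
  have ia_map : ∀ {U U' : X.ProEt} (f : U' ⟶ U) a,
      S.X₂.obj.map f.op (ia U a) = ia U' ((piSheaf A).obj.map ((Scheme.ProEt.forget X).map f).op a) :=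
    fun f a => (NatTrans.naturality_apply ιA.hom f.op a).symm
  have ia_inj : ∀ U, Function.Injective (ia U) := fun U a b hab => by
    have h1 := app_f_injective hS U hab
    haveI : IsIso ((epsPullIso A).inv ≫ eA.hom) := inferInstance
    haveI : IsIso ((sheafToPresheaf _ AddCommGrpCat.{u + 1}).map ((epsPullIso A).inv ≫ eA.hom)) := inferInstance
    exact (ConcreteCategory.isIso_iff_bijective _).1
      ((NatTrans.isIso_iff_isIso_app _).1 this (op U)) |>.1 h1
  have ia_surj : ∀ U y, S.g.hom.app (op U) y = 0 → ∃ a, ia U a = y := fun U y hy => by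
    obtain ⟨a, rfl⟩ := exists_app_f_eq hS U y hy
    haveI : IsIso ((sheafToPresheaf _ AddCommGrpCat.{u + 1}).map ((epsPullIso A).inv ≫ eA.hom)) := inferInstance
    obtain ⟨b, hb⟩ := ((ConcreteCategory.isIso_iff_bijective _).1
      ((NatTrans.isIso_iff_isIso_app _).1 this (op U))).2 a
    exact ⟨b, congrArg (fun z => S.f.hom.app (op U) z) hb⟩
  have ia_g : ∀ U a, S.g.hom.app (op U) (ia U a) = 0 := fun U a => app_f_g S U _
  -- the system of `D_i ×_V H`
  let S₁ := bcSys D (fun a => (hD a).1) c hc c.pt.hom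
  let z₁ : ∀ i, S₁.X i ⟶ V.left := fun i => pullback.snd (D.obj (op i)).hom c.pt.hom ≫ c.pt.hom
  haveI hz₁ : ∀ i, WeaklyEtale (z₁ i) := fun i =>
    inferInstanceAs (WeaklyEtale (pullback.snd (D.obj (op i)).hom c.pt.hom ≫ c.pt.hom))
  let zc₁ : S₁.c.pt ⟶ V.left := pullback.snd c.pt.hom c.pt.hom ≫ c.pt.hom
  haveI : WeaklyEtale zc₁ := inferInstanceAs (WeaklyEtale (pullback.snd c.pt.hom c.pt.hom ≫ c.pt.hom))
  let px : po V zc₁ ⟶ H := poHom V _ _ (pullback.fst c.pt.hom c.pt.hom) pullback.condition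
  let py : po V zc₁ ⟶ H := poHom V _ _ (pullback.snd c.pt.hom c.pt.hom) rfl
  obtain ⟨b, hb⟩ := ia_surj (po V zc₁) (S.X₂.obj.map py.op e - S.X₂.obj.map px.op e) (by
    rw [map_sub, NatTrans.naturality_apply, NatTrans.naturality_apply, he, sub_eq_zero,
      ← Functor.map_comp_apply, ← Functor.map_comp_apply, ← op_comp, ← op_comp]
    congr 3
    exact congrArg _ (proet_hom_ext pullback.condition.symm))
  have hg₁ : ∀ ⦃i j : α⦄ (h : i ≤ j), S₁.t h ≫ z₁ i ≫ V.hom = z₁ j ≫ V.hom := fun i j h => by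
    show S₁.t h ≫ (pullback.snd _ _ ≫ c.pt.hom) ≫ V.hom = _
    rw [← Category.assoc, ← Category.assoc, (bcSys_t_snd D (fun a => (hD a).1) c hc _)]
  have hgc₁ : ∀ i, S₁.u i ≫ z₁ i ≫ V.hom = zc₁ ≫ V.hom := fun i => by
    show S₁.u i ≫ (pullback.snd _ _ ≫ c.pt.hom) ≫ V.hom = _
    rw [← Category.assoc, ← Category.assoc, (bcSys_u_snd D (fun a => (hD a).1) c hc _)]
  obtain ⟨i, bi, hbi⟩ := exists_stage_section A (fun i => z₁ i ≫ V.hom) hg₁ (zc₁ ≫ V.hom) hgc₁ b
  let qy : ∀ j, po V (z₁ j) ⟶ H := fun j => poHom V _ _ (pullback.snd (D.obj (op j)).hom c.pt.hom) rfl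
  let e' := S.X₂.obj.map (qy i).op e - ia (po V (z₁ i)) bi
  let ui : po V zc₁ ⟶ po V (z₁ i) := poHom V _ _ (S₁.u i) (by
    show S₁.u i ≫ pullback.snd _ _ ≫ c.pt.hom = _
    rw [← Category.assoc, (bcSys_u_snd D (fun a => (hD a).1) c hc _)])
  have he'u : S.X₂.obj.map ui.op e' = S.X₂.obj.map px.op e := by
    rw [map_sub, ia_map, show (piSheaf A).obj.map ((Scheme.ProEt.forget X).map ui).op bi = b from hbi, hb,
      ← Functor.map_comp_apply, ← op_comp]
    rw [show ui ≫ qy i = py from proet_hom_ext (bcSys_u_snd D (fun a => (hD a).1) c hc _ i)]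
    abel
  have he'g : S.g.hom.app (op (po V (z₁ i))) e' =
      S.X₃.obj.map (MorphismProperty.Over.homMk (z₁ i) : po V (z₁ i) ⟶ V).op s := by
    rw [map_sub, ia_g, sub_zero, NatTrans.naturality_apply, he, ← Functor.map_comp_apply, ← op_comp]
    congr 2
  -- the system of `D_i ×_V (H ×_V H)`
  let T₂ := pullback c.pt.hom c.pt.hom
  let p₂ : T₂ ⟶ V.left := pullback.snd c.pt.hom c.pt.hom ≫ c.pt.hom
  haveI : IsAffine T₂ := inferInstanceAs (IsAffine (pullback c.pt.hom c.pt.hom))
  haveI : WeaklyEtale p₂ := inferInstanceAs (WeaklyEtale (pullback.snd c.pt.hom c.pt.hom ≫ c.pt.hom))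
  let S₂ := bcSys D (fun a => (hD a).1) c hc p₂
  let z₂ : ∀ j, S₂.X j ⟶ V.left := fun j => pullback.snd (D.obj (op j)).hom p₂ ≫ p₂
  haveI hz₂ : ∀ j, WeaklyEtale (z₂ j) := fun j =>
    inferInstanceAs (WeaklyEtale (pullback.snd (D.obj (op j)).hom p₂ ≫ p₂))
  let zc₂ : S₂.c.pt ⟶ V.left := pullback.snd c.pt.hom p₂ ≫ p₂
  haveI : WeaklyEtale zc₂ := inferInstanceAs (WeaklyEtale (pullback.snd c.pt.hom p₂ ≫ p₂))
  let r₁ : ∀ j, S₂.X j ⟶ S₁.X j := fun j => pullback.lift (pullback.fst (D.obj (op j)).hom p₂)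
    (pullback.snd (D.obj (op j)).hom p₂ ≫ pullback.fst c.pt.hom c.pt.hom)
    (by
      refine pullback.condition.trans ?_
      rw [Category.assoc, pullback.condition (f := c.pt.hom) (g := c.pt.hom)])
  let r₂ : ∀ j, S₂.X j ⟶ S₁.X j := fun j => pullback.lift (pullback.fst (D.obj (op j)).hom p₂)
    (pullback.snd (D.obj (op j)).hom p₂ ≫ pullback.snd c.pt.hom c.pt.hom)
    (by rw [pullback.condition, Category.assoc])
  have hr₁ : ∀ j, r₁ j ≫ z₁ j = z₂ j := fun j => by
    show pullback.lift _ _ _ ≫ pullback.snd _ _ ≫ c.pt.hom = pullback.snd _ _ ≫ pullback.snd _ _ ≫ c.pt.hom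
    rw [pullback.lift_snd_assoc, Category.assoc, pullback.condition]
  have hr₂ : ∀ j, r₂ j ≫ z₁ j = z₂ j := fun j => by
    show pullback.lift _ _ _ ≫ pullback.snd _ _ ≫ c.pt.hom = pullback.snd _ _ ≫ pullback.snd _ _ ≫ c.pt.hom
    rw [pullback.lift_snd_assoc, Category.assoc]
  let R₁ := fun j => poHom V (z₂ j) (z₁ j) (r₁ j) (hr₁ j)
  let R₂ := fun j => poHom V (z₂ j) (z₁ j) (r₂ j) (hr₂ j)
  obtain ⟨d, hd⟩ := ia_surj (po V (z₂ i)) (S.X₂.obj.map (R₁ i).op e' - S.X₂.obj.map (R₂ i).op e') (by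
    rw [map_sub, NatTrans.naturality_apply, NatTrans.naturality_apply, he'g, sub_eq_zero,
      ← Functor.map_comp_apply, ← Functor.map_comp_apply, ← op_comp, ← op_comp]
    congr 3
    exact congrArg _ (proet_hom_ext ((hr₁ i).trans (hr₂ i).symm)))
  have hg₂ : ∀ ⦃k l : α⦄ (h : k ≤ l), S₂.t h ≫ z₂ k ≫ V.hom = z₂ l ≫ V.hom := fun k l h => by
    show S₂.t h ≫ (pullback.snd _ _ ≫ p₂) ≫ V.hom = _
    rw [← Category.assoc, ← Category.assoc, (bcSys_t_snd D (fun a => (hD a).1) c hc _)]
  have hgc₂ : ∀ k, S₂.u k ≫ z₂ k ≫ V.hom = zc₂ ≫ V.hom := fun k => by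
    show S₂.u k ≫ (pullback.snd _ _ ≫ p₂) ≫ V.hom = _
    rw [← Category.assoc, ← Category.assoc, (bcSys_u_snd D (fun a => (hD a).1) c hc _)]
  let wi : po V zc₂ ⟶ po V (z₂ i) := poHom V _ _ (S₂.u i) (by
    show S₂.u i ≫ pullback.snd _ _ ≫ p₂ = _
    rw [← Category.assoc, (bcSys_u_snd D (fun a => (hD a).1) c hc _)])
  obtain ⟨j, hij, hdj⟩ := exists_zero_stage A (fun k => z₂ k ≫ V.hom) hg₂ (zc₂ ≫ V.hom) hgc₂ i d (by
    apply ia_inj (po V zc₂)
    refine Eq.trans (ia_map wi d).symm (Eq.trans ?_ (map_zero (ιA.hom.app (op (po V zc₂))).hom).symm)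
    rw [hd, map_sub, sub_eq_zero, ← Functor.map_comp_apply, ← Functor.map_comp_apply, ← op_comp, ← op_comp]
    -- both factor through `ui`
    let t₁ : S₂.c.pt ⟶ S₁.c.pt := pullback.lift (pullback.fst c.pt.hom p₂)
      (pullback.snd c.pt.hom p₂ ≫ pullback.fst c.pt.hom c.pt.hom)
      (by
        refine pullback.condition.trans ?_
        rw [Category.assoc, pullback.condition (f := c.pt.hom) (g := c.pt.hom)])
    let t₂ : S₂.c.pt ⟶ S₁.c.pt := pullback.lift (pullback.fst c.pt.hom p₂)
      (pullback.snd c.pt.hom p₂ ≫ pullback.snd c.pt.hom c.pt.hom) (by rw [pullback.condition, Category.assoc])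
    have ht₁ : t₁ ≫ zc₁ = zc₂ := by
      show pullback.lift _ _ _ ≫ pullback.snd _ _ ≫ c.pt.hom = pullback.snd _ _ ≫ pullback.snd _ _ ≫ c.pt.hom
      rw [pullback.lift_snd_assoc, Category.assoc, pullback.condition]
    have ht₂ : t₂ ≫ zc₁ = zc₂ := by
      show pullback.lift _ _ _ ≫ pullback.snd _ _ ≫ c.pt.hom = pullback.snd _ _ ≫ pullback.snd _ _ ≫ c.pt.hom
      rw [pullback.lift_snd_assoc, Category.assoc]
    rw [show wi ≫ R₁ i = poHom V zc₂ zc₁ t₁ ht₁ ≫ ui from proet_hom_ext (pullback.hom_ext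
        (by
          show (S₂.u i ≫ r₁ i) ≫ pullback.fst _ _ = (t₁ ≫ S₁.u i) ≫ pullback.fst _ _
          rw [Category.assoc, Category.assoc, pullback.lift_fst, (bcSys_u_fst D (fun a => (hD a).1) c hc _), (bcSys_u_fst D (fun a => (hD a).1) c hc _), ← Category.assoc,
            pullback.lift_fst])
        (by
          show (S₂.u i ≫ r₁ i) ≫ pullback.snd _ _ = (t₁ ≫ S₁.u i) ≫ pullback.snd _ _
          rw [Category.assoc, Category.assoc, pullback.lift_snd, ← Category.assoc, (bcSys_u_snd D (fun a => (hD a).1) c hc _), (bcSys_u_snd D (fun a => (hD a).1) c hc _),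
            pullback.lift_snd])),
      show wi ≫ R₂ i = poHom V zc₂ zc₁ t₂ ht₂ ≫ ui from proet_hom_ext (pullback.hom_ext
        (by
          show (S₂.u i ≫ r₂ i) ≫ pullback.fst _ _ = (t₂ ≫ S₁.u i) ≫ pullback.fst _ _
          rw [Category.assoc, Category.assoc, pullback.lift_fst, (bcSys_u_fst D (fun a => (hD a).1) c hc _), (bcSys_u_fst D (fun a => (hD a).1) c hc _), ← Category.assoc,
            pullback.lift_fst])
        (by
          show (S₂.u i ≫ r₂ i) ≫ pullback.snd _ _ = (t₂ ≫ S₁.u i) ≫ pullback.snd _ _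
          rw [Category.assoc, Category.assoc, pullback.lift_snd, ← Category.assoc, (bcSys_u_snd D (fun a => (hD a).1) c hc _), (bcSys_u_snd D (fun a => (hD a).1) c hc _),
            pullback.lift_snd])),
      op_comp, op_comp, Functor.map_comp_apply, Functor.map_comp_apply, he'u, ← Functor.map_comp_apply,
      ← Functor.map_comp_apply, ← op_comp, ← op_comp]
    congr 3
    exact congrArg _ (proet_hom_ext ((pullback.lift_fst _ _ _).trans (pullback.lift_fst _ _ _).symm)))
  -- descend to `D j`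
  let wij : po V (z₁ j) ⟶ po V (z₁ i) := poHom V _ _ (S₁.t hij) (by
    show S₁.t hij ≫ pullback.snd _ _ ≫ c.pt.hom = _
    rw [← Category.assoc, (bcSys_t_snd D (fun a => (hD a).1) c hc _)])
  let vij : po V (z₂ j) ⟶ po V (z₂ i) := poHom V _ _ (S₂.t hij) (by
    show S₂.t hij ≫ pullback.snd _ _ ≫ p₂ = _
    rw [← Category.assoc, (bcSys_t_snd D (fun a => (hD a).1) c hc _)])
  let ej := S.X₂.obj.map wij.op e'
  have hej : S.X₂.obj.map (R₁ j).op ej = S.X₂.obj.map (R₂ j).op ej := by
    have h0 := congrArg (ia (po V (z₂ j))) hdj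
    have h1 : S.X₂.obj.map vij.op (ia (po V (z₂ i)) d) = 0 :=
      (ia_map vij d).trans (h0.trans (map_zero (ιA.hom.app (op (po V (z₂ j)))).hom))
    rw [hd, map_sub, sub_eq_zero, ← Functor.map_comp_apply, ← Functor.map_comp_apply, ← op_comp, ← op_comp] at h1
    show S.X₂.obj.map (R₁ j).op (S.X₂.obj.map wij.op e') = S.X₂.obj.map (R₂ j).op (S.X₂.obj.map wij.op e')
    rw [← Functor.map_comp_apply, ← Functor.map_comp_apply, ← op_comp, ← op_comp,
      show R₁ j ≫ wij = vij ≫ R₁ i from proet_hom_ext (pullback.hom_ext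
        (by
          show (r₁ j ≫ S₁.t hij) ≫ pullback.fst _ _ = (S₂.t hij ≫ r₁ i) ≫ pullback.fst _ _
          rw [Category.assoc, Category.assoc, pullback.lift_fst, (bcSys_t_fst D (fun a => (hD a).1) c hc _), (bcSys_t_fst D (fun a => (hD a).1) c hc _), ← Category.assoc,
            pullback.lift_fst])
        (by
          show (r₁ j ≫ S₁.t hij) ≫ pullback.snd _ _ = (S₂.t hij ≫ r₁ i) ≫ pullback.snd _ _
          rw [Category.assoc, Category.assoc, pullback.lift_snd, ← Category.assoc (S₂.t hij), (bcSys_t_snd D (fun a => (hD a).1) c hc _),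
            (bcSys_t_snd D (fun a => (hD a).1) c hc _), pullback.lift_snd])),
      show R₂ j ≫ wij = vij ≫ R₂ i from proet_hom_ext (pullback.hom_ext
        (by
          show (r₂ j ≫ S₁.t hij) ≫ pullback.fst _ _ = (S₂.t hij ≫ r₂ i) ≫ pullback.fst _ _
          rw [Category.assoc, Category.assoc, pullback.lift_fst, (bcSys_t_fst D (fun a => (hD a).1) c hc _), (bcSys_t_fst D (fun a => (hD a).1) c hc _), ← Category.assoc,
            pullback.lift_fst])
        (by
          show (r₂ j ≫ S₁.t hij) ≫ pullback.snd _ _ = (S₂.t hij ≫ r₂ i) ≫ pullback.snd _ _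
          rw [Category.assoc, Category.assoc, pullback.lift_snd, ← Category.assoc (S₂.t hij), (bcSys_t_snd D (fun a => (hD a).1) c hc _),
            (bcSys_t_snd D (fun a => (hD a).1) c hc _), pullback.lift_snd]))]
    exact h1
  let pD := (D.obj (op j)).hom
  let f : po V (z₁ j) ⟶ po V pD := poHom V _ _ (pullback.fst (D.obj (op j)).hom c.pt.hom) pullback.condition
  haveI : Surjective f.left := inferInstanceAs (Surjective (pullback.fst (D.obj (op j)).hom c.pt.hom))
  haveI : IsAffine (po V pD).left := inferInstanceAs (IsAffine (D.obj (op j)).left)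
  haveI : IsAffine (po V (z₁ j)).left := inferInstanceAs (IsAffine (pullback (D.obj (op j)).hom c.pt.hom))
  have hmem := ProEtWC.singleton_mem f
  let P₂ : Sheaf (Scheme.ProEt.topology X) (Type (u + 1)) :=
    (sheafCompose (Scheme.ProEt.topology X) (forget AddCommGrpCat.{u + 1})).obj S.X₂
  obtain ⟨t, ht, -⟩ := Presieve.isSheafFor_singleton.1 ((Presieve.isSheafFor_iff_generate _).2
    ((isSheaf_iff_isSheaf_of_type _ _).1 P₂.property _ hmem)) ej (fun {Z} a b hab => by
      have hab' : a.left ≫ pullback.fst (D.obj (op j)).hom c.pt.hom =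
          b.left ≫ pullback.fst (D.obj (op j)).hom c.pt.hom := congrArg (fun m => m.left) hab
      let l : Z.left ⟶ S₂.X j := pullback.lift (a.left ≫ pullback.fst (D.obj (op j)).hom c.pt.hom)
        (pullback.lift (a.left ≫ pullback.snd (D.obj (op j)).hom c.pt.hom)
          (b.left ≫ pullback.snd (D.obj (op j)).hom c.pt.hom) (by
            rw [Category.assoc, Category.assoc, ← pullback.condition, ← Category.assoc, hab', Category.assoc]))
        (by
          show _ = pullback.lift _ _ _ ≫ pullback.snd _ _ ≫ c.pt.hom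
          rw [pullback.lift_snd_assoc, hab', Category.assoc, Category.assoc, ← pullback.condition])
      have hla : l ≫ r₁ j = a.left := by
        apply pullback.hom_ext
        · rw [Category.assoc, pullback.lift_fst, pullback.lift_fst]
        · rw [Category.assoc, pullback.lift_snd, pullback.lift_snd_assoc, pullback.lift_fst]
      have hlb : l ≫ r₂ j = b.left := by
        apply pullback.hom_ext
        · rw [Category.assoc, pullback.lift_fst, pullback.lift_fst, hab']
        · rw [Category.assoc, pullback.lift_snd, pullback.lift_snd_assoc, pullback.lift_snd]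
      let L : Z ⟶ po V (z₂ j) := MorphismProperty.Over.homMk l (by
        show l ≫ z₂ j ≫ V.hom = Z.hom
        rw [← hr₁ j, Category.assoc, ← Category.assoc l, hla]
        exact Over.w a.hom)
      show S.X₂.obj.map a.op ej = S.X₂.obj.map b.op ej
      rw [show a = L ≫ R₁ j from proet_hom_ext hla.symm, show b = L ≫ R₂ j from proet_hom_ext hlb.symm,
        op_comp, op_comp, Functor.map_comp_apply, Functor.map_comp_apply, hej])
  refine ⟨(D.obj (op j)).left, pD, inferInstance, ?_, t, ?_⟩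
  · haveI : Surjective ((c.π.app (op j)).left ≫ pD) := by rw [Over.w]; exact hcsurj
    exact Surjective.of_comp (c.π.app (op j)).left pD
  · let P₃ : Sheaf (Scheme.ProEt.topology X) (Type (u + 1)) :=
      (sheafCompose (Scheme.ProEt.topology X) (forget AddCommGrpCat.{u + 1})).obj S.X₃
    refine ((Presieve.isSheafFor_iff_generate _).2
      ((isSheaf_iff_isSheaf_of_type _ _).1 P₃.property _ hmem)).isSeparatedFor.ext ?_
    rintro Z m ⟨⟩
    show S.X₃.obj.map f.op (S.g.hom.app _ t) = S.X₃.obj.map f.op (S.X₃.obj.map _ s)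
    rw [← NatTrans.naturality_apply, show S.X₂.obj.map f.op t = ej from ht]
    show S.g.hom.app _ (S.X₂.obj.map wij.op e') = _
    rw [NatTrans.naturality_apply, he'g, ← Functor.map_comp_apply, ← Functor.map_comp_apply, ← op_comp, ← op_comp]
    congr 3
    exact congrArg _ (proet_hom_ext (by
      show S₁.t hij ≫ pullback.snd _ _ ≫ c.pt.hom = pullback.fst _ _ ≫ pD
      rw [← Category.assoc, (bcSys_t_snd D (fun a => (hD a).1) c hc _)]
      exact pullback.condition.symm))

end Groth.Agent.ProEtFull
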