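import Groth.Agent.ProEtFull.CechGood
import Groth.Agent.ProEtFull.IndSys
import Groth.Agent.ProEtFull.Lift
import Groth.Agent.ProEtFull.EpsExact
import Groth.Agent.ProEtFull.DerShift

/-!
# `R^q ε_* ε⁻¹F = 0`
-/

set_option autoImplicit false
set_option linter.style.haveILetI false
set_option backward.isDefEq.respectTransparency false
set_option backward.isDefEq.respectTransparency.types false
set_option maxHeartbeats 1000000
universe u

noncomputable section

namespace Groth.Agent.ProEtFull

open CategoryTheory Limits AlgebraicGeometry Opposite ZeroObject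
open Groth.Agent.BigSiteLib Groth.Agent.ProEtFull.CechSys Groth.Agent.EtFlasqueLib Groth.Agent.CechInjective

variable {X : Scheme.{u}}

instance hasFiniteProducts_over_proEt (U : X.ProEt) : HasFiniteProducts (Over U) := inferInstance

/-- Affine pro-étale objects which are good for every injective étale sheaf. -/
def Base (U : X.ProEt) : Prop :=
  ∀ (I : EtCoh.Ab X), Injective I → GoodBase I ((Scheme.ProEt.forget X).obj U)

/-- Coverings with exact Čech complexes for the pullbacks of injective étale sheaves. -/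
def CovP {U V : X.ProEt} (g : V ⟶ U) : Prop :=
  Sieve.generate (Presieve.singleton g) ∈ Scheme.ProEt.topology X U ∧
  (∀ (I : EtCoh.Ab X), Injective I → Exact1.{u + 1} (piProEt I).obj g) ∧
  ∀ n, Base (dob.{u + 1} g n)

theorem GoodBase.of_iso {F : EtCoh.Ab X} {T T' : Over X} (h : GoodBase F T) (e : T' ≅ T) : GoodBase F T' := by
  haveI : IsIso e.hom.left := inferInstanceAs (IsIso ((Over.forget X).map e.hom))
  haveI := h.1
  haveI : IsAffine T'.left := .of_isIso e.hom.left
  exact h.etale e.hom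

theorem base_of_etale (U : X.ProEt) [IsAffine U.left] [Etale U.hom] : Base U := fun I hI => by
  haveI := hI
  haveI : IsAffine ((Scheme.ProEt.forget X).obj U).left := ‹IsAffine U.left›
  haveI : Etale ((Scheme.ProEt.forget X).obj U).hom := ‹Etale U.hom›
  exact goodBase_etale I _

theorem exists_covP (U : X.ProEt) (hU : Base U) [IsAffine U.left] :
    ∃ (V : X.ProEt) (g : V ⟶ U), CovP g ∧ ProEtS.IsWC V := by
  obtain ⟨α, _, _, _, D, c, hc, hD, hcaff, hcsurj, hcwe, hW⟩ := exists_ind_cover U.left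
  haveI := hcaff
  haveI := hcsurj
  haveI := hcwe
  haveI : IsConnected α := IsFiltered.isConnected α
  haveI : IsConnected αᵒᵖ := inferInstance
  let T : Over X := (Scheme.ProEt.forget X).obj U
  let D' : αᵒᵖ ⥤ Over X := D ⋙ Over.map U.hom
  let c' : Cone D' := (Over.map U.hom).mapCone c
  have hc' : IsLimit c' := isLimitOfReflects (Over.forget X) (isLimitOfPreserves (Over.forget U.left) hc)
  let S : AffSys α X := { D := D', c := c', hc := hc', aff := fun a => (hD a).1 }
  let π : S.D ⟶ (Functor.const _).obj T :=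
    { app := fun a => Over.homMk (D.obj a).hom rfl
      naturality := fun a b f => by
        ext
        exact (Over.w (D.map f)).trans (Category.comp_id _).symm }
  haveI : ∀ a, Etale (π.app a).left := fun a => (hD a).2
  haveI : ∀ a, Surjective (π.app a).left := fun a => ⟨fun x => by
    obtain ⟨y, rfl⟩ := c.pt.hom.surjective x
    exact ⟨(c.π.app a).left y, (Scheme.Hom.comp_apply _ _ y).symm.trans
      (congrArg (fun m => m y) (Over.w (c.π.app a)))⟩⟩
  let H : X.ProEt := po U c.pt.hom
  haveI : IsAffine H.left := hcaff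
  let g : H ⟶ U := MorphismProperty.Over.homMk c.pt.hom
  let gT : S.c.pt ⟶ T := Over.homMk c.pt.hom rfl
  have hg : ∀ a, S.c.π.app a ≫ π.app a = gT := fun a => by
    ext
    exact Over.w (c.π.app a)
  haveI : Surjective g.left := hcsurj
  haveI : IsAffine U.left := ‹_›
  refine ⟨H, g, ⟨ProEtWC.singleton_mem g, fun I hI p => ?_, fun n I hI => ?_⟩,
    ProEtWC.isWC_of_isWContractible (U := H) hW⟩
  · haveI : PreservesLimitsOfShape WalkingCospan (Scheme.ProEt.forget X) := inferInstance
    exact isZero_cechH_post (Scheme.ProEt.forget X) (fam.{u + 1} g) (piSheaf I).obj (p + 1)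
      ((hU I hI).exact_cover S π gT hg p)
  · haveI : PreservesLimitsOfShape WalkingCospan (Scheme.ProEt.forget X) := inferInstance
    haveI := preservesFiniteProducts_post (Scheme.ProEt.forget X) (U := U)
    let o : Fin (n + 1) → Over U := fun _ => Over.mk g
    let e := PreservesProduct.iso (Over.post (Scheme.ProEt.forget X)) o
    exact ((hU I hI).dob_cover S π gT hg n).of_iso ((Over.forget _).mapIso e)

/-- Sheaves with exact Čech complexes for the coverings `CovP`. -/
def CechGood (G : ProEtS.AbP X) : Prop :=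
  ∀ ⦃U V : X.ProEt⦄ (g : V ⟶ U), CovP g → Exact1.{u + 1} G.obj g

theorem cechGood_of_iso {G G' : ProEtS.AbP X} (e : G ≅ G') (h : CechGood G) : CechGood G' := fun U V g hg p =>
  (h g hg p).of_iso ((EtCech.cechHFunctor (fam.{u + 1} g) (p + 1)).mapIso ((sheafToPresheaf _ _).mapIso e.symm))

theorem cechGood_piProEt (I : EtCoh.Ab X) [hI : Injective I] : CechGood (piProEt I) :=
  fun _ _ _ hg => hg.2.1 I hI

theorem cechGood_injective (G : ProEtS.AbP X) [Injective G] : CechGood G := fun U V g _ p => by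
  haveI : Injective ((sheafToPresheaf (Scheme.ProEt.topology X) AddCommGrpCat.{u + 1}).obj G) :=
    Injective.injective_of_adjoint (sheafificationAdjunction (Scheme.ProEt.topology X) AddCommGrpCat.{u + 1}) _
  haveI : Injective G.obj := ‹Injective ((sheafToPresheaf (Scheme.ProEt.topology X) AddCommGrpCat.{u + 1}).obj G)›
  exact isZero_cechH_injective (fam.{u + 1} g) _ p

theorem surjective_sections {S : ShortComplex (ProEtS.AbP X)} (hS : S.ShortExact) (h1 : CechGood S.X₁)
    {U : X.ProEt} (hU : Base U) [IsAffine U.left] : Function.Surjective (S.g.hom.app (op U)) := by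
  intro s
  obtain ⟨V, g, hg, hV⟩ := exists_covP U hU
  haveI := hS.epi_g
  obtain ⟨t, ht⟩ : ∃ t, S.g.hom.app (op V) t = S.X₃.obj.map g.op s := by
    haveI : Sheaf.IsLocallySurjective S.g := (Sheaf.isLocallySurjective_iff_epi' _ S.g).2 inferInstance
    let φ := (sheafCompose (Scheme.ProEt.topology X) (forget AddCommGrpCat.{u + 1})).map S.g
    haveI : Sheaf.IsLocallySurjective φ :=
      ⟨fun {U} z => GrothendieckTopology.superset_covering _ (fun W f hf => hf)
        (Presheaf.imageSieve_mem (Scheme.ProEt.topology X) S.g.hom z)⟩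
    exact hV _ _ φ ((Sheaf.isLocallySurjective_iff_epi' _ φ).1 inferInstance) _
  -- the difference cocycle
  let τ : ∀ {T : X.ProEt}, (T ⟶ V) → S.X₂.obj.obj (op T) := fun m => S.X₂.obj.map m.op t
  have hτ : ∀ {T : X.ProEt} (m : T ⟶ V), S.g.hom.app (op T) (τ m) = S.X₃.obj.map (m ≫ g).op s := fun m => by
    refine (NatTrans.naturality_apply S.g.hom m.op t).trans ?_
    rw [ht, op_comp, Functor.map_comp_apply]
  have hτmap : ∀ {T T' : X.ProEt} (z : T' ⟶ T) (m : T ⟶ V), S.X₂.obj.map z.op (τ m) = τ (z ≫ m) := fun z m => by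
    show _ = S.X₂.obj.map (z ≫ m).op t
    rw [op_comp, Functor.map_comp_apply]
  let c₁ := fun k : Fin 2 => ((idp.{u + 1} g 1).comp k).2
  obtain ⟨m, hm⟩ := exists_app_f_eq hS (dob.{u + 1} g 1) (τ (c₁ 1) - τ (c₁ 0)) (by
    have hw : ∀ k, c₁ k ≫ g = (idp.{u + 1} g 1).base := fun k => Pt.comp_w (idp.{u + 1} g 1) k
    rw [map_sub, hτ, hτ, hw, hw, sub_self])
  let c : Coch (fam.{u + 1} g) S.X₁.obj 1 := ofVal.{u + 1} g m
  have hc : ∀ {T : X.ProEt} (p : Pt (fam.{u + 1} g) 1 T),
      S.f.hom.app (op T) (ev (fam.{u + 1} g) c p) = τ (p.comp 1).2 - τ (p.comp 0).2 := fun {T} p => by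
    rw [ev_eq, val_ofVal, NatTrans.naturality_apply S.f.hom, hm, map_sub, hτmap, hτmap]
    have e : ∀ k, p.hom ≫ c₁ k = (p.comp k).2 := fun k => by
      refine ((mk'_comp2 (g := g) p.hom (idp.{u + 1} g 1) k).symm.trans ?_)
      have hp : (Pt.mk' (idp.{u + 1} g 1).1 (p.hom ≫ (idp.{u + 1} g 1).hom) : Pt (fam.{u + 1} g) 1 T) = p := by
        rw [show (idp.{u + 1} g 1).hom = 𝟙 _ from Pt.hom_mk' _ _, Category.comp_id]
        exact mk'_hom p
      rw [hp]
    rw [e, e]
  have hdc : ((EtCech.cechComplex (fam.{u + 1} g) S.X₁.obj).d 1 2 c : Coch (fam.{u + 1} g) S.X₁.obj 2) = 0 := by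
    refine coch_ext (fam.{u + 1} g) fun {T} p => app_f_injective hS T ?_
    rw [ev_d (fam.{u + 1} g) 1 c p, ev_zero, map_zero, map_sum, Fin.sum_univ_three]
    simp only [map_zsmul, hc]
    have e : ∀ (k : Fin 3) (a : Fin 2),
        ((ptMap (fam.{u + 1} g) (SimplexCategory.δ k) T p).comp a).2 = (p.comp (k.succAbove a)).2 := fun k a =>
      eq_of_heq (Sigma.ext_iff.1 (ptMap_comp (fam.{u + 1} g) (SimplexCategory.δ k) T p a)).2
    simp only [e, Fin.val_zero, Fin.val_one, Fin.val_two, pow_zero, pow_one, one_smul, neg_smul, neg_one_sq]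
    rw [show (0 : Fin 3).succAbove (0 : Fin 2) = 1 from rfl, show (0 : Fin 3).succAbove (1 : Fin 2) = 2 from rfl,
      show (1 : Fin 3).succAbove (0 : Fin 2) = 0 from rfl, show (1 : Fin 3).succAbove (1 : Fin 2) = 2 from rfl,
      show (2 : Fin 3).succAbove (0 : Fin 2) = 0 from rfl, show (2 : Fin 3).succAbove (1 : Fin 2) = 1 from rfl]
    abel
  obtain ⟨b, hb⟩ := exists_cochain_of_cocycle (fam.{u + 1} g) (h1 g hg 0) c hdc
  let q : Pt (fam.{u + 1} g) 0 V := Pt.lift g (fun _ => ⟨PUnit.unit, 𝟙 V⟩) (fun _ => Category.id_comp g)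
  let t' : S.X₂.obj.obj (op V) := t - S.f.hom.app _ (ev (fam.{u + 1} g) b q)
  have hs₂ : Presieve.IsSheafFor (S.X₂.obj ⋙ forget AddCommGrpCat.{u + 1}) (Presieve.singleton g) :=
    (Presieve.isSheafFor_iff_generate _).2 ((isSheaf_iff_isSheaf_of_type _ _).1
      ((sheafCompose (Scheme.ProEt.topology X) (forget AddCommGrpCat.{u + 1})).obj S.X₂).property _ hg.1)
  obtain ⟨r, hr, -⟩ := (Presieve.isSheafFor_singleton.1 hs₂) t' fun {T} ga gb e => by
    let p : Pt (fam.{u + 1} g) 1 T := Pt.lift (ga ≫ g) ![⟨PUnit.unit, ga⟩, ⟨PUnit.unit, gb⟩]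
      (fun a => by fin_cases a <;> first | rfl | exact e.symm)
    have hp0 : (p.comp 0).2 = ga := eq_of_heq (Sigma.ext_iff.1 (Pt.comp_lift _ _ _ 0)).2
    have hp1 : (p.comp 1).2 = gb := eq_of_heq (Sigma.ext_iff.1 (Pt.comp_lift _ _ _ 1)).2
    have hp : ∀ (gl : T ⟶ V) (a : Fin 2) (_ : (p.comp a).2 = gl) (i : Fin 2)
        (_ : (SimplexCategory.δ i).toOrderHom (0 : Fin 1) = a),
        ev (fam.{u + 1} g) b (ptMap (fam.{u + 1} g) (SimplexCategory.δ i) T p) =
          S.X₁.obj.map gl.op (ev (fam.{u + 1} g) b q) := by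
      intro gl a hla i hi
      rw [ev_comp]
      refine congrArg (ev (fam.{u + 1} g) b) (pt_ext' ?_ fun z => ?_)
      · refine (ptMap_base _ _ T p).trans ((Pt.comp_w p a).symm.trans ?_)
        rw [base_mk', Pt.base_lift, hla]
        rfl
      · refine (eq_of_heq (Sigma.ext_iff.1 (ptMap_comp _ (SimplexCategory.δ i) T p z)).2).trans ?_
        rw [mk'_comp2, show (q.comp z).2 = 𝟙 V from eq_of_heq (Sigma.ext_iff.1 (Pt.comp_lift _ _ _ z)).2,
          Category.comp_id, show z = 0 from Fin.fin_one_eq_zero z, hi, hla]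
    have h := hc p
    rw [← hb, ev_d (fam.{u + 1} g) 0 b p, map_sum, Fin.sum_univ_two, map_zsmul, map_zsmul,
      hp gb 1 hp1 0 rfl, hp ga 0 hp0 1 rfl, hp0, hp1] at h
    simp only [Fin.val_zero, Fin.val_one, pow_zero, pow_one, one_smul, neg_smul, NatTrans.naturality_apply] at h
    show S.X₂.obj.map ga.op t' = S.X₂.obj.map gb.op t'
    rw [map_sub, map_sub, eq_comm, sub_eq_sub_iff_sub_eq_sub]
    refine Eq.trans (Eq.symm h) ?_
    abel
  refine ⟨r, ?_⟩
  have hs₃ := ((isSheaf_iff_isSheaf_of_type _ _).1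
      ((sheafCompose (Scheme.ProEt.topology X) (forget AddCommGrpCat.{u + 1})).obj S.X₃).property).isSeparated
      _ hg.1
  refine hs₃.ext fun Y f hf => ?_
  obtain ⟨Z, h, _, ⟨⟩, rfl⟩ := hf
  show S.X₃.obj.map (h ≫ g).op _ = S.X₃.obj.map (h ≫ g).op s
  rw [op_comp, Functor.map_comp_apply, Functor.map_comp_apply]
  refine congrArg (S.X₃.obj.map h.op) ?_
  rw [← NatTrans.naturality_apply S.g.hom]
  refine (congrArg (S.g.hom.app _) (show S.X₂.obj.map g.op r = t' from hr)).trans ?_
  rw [map_sub, app_f_g S, sub_zero]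
  exact ht

/-- The quotient of Čech good sheaves is Čech good. -/
theorem cechGood_X₃ {S : ShortComplex (ProEtS.AbP X)} (hS : S.ShortExact) (h1 : CechGood S.X₁)
    (h2 : CechGood S.X₂) : CechGood S.X₃ := fun U V g hg p => by
  let F := cechComplexFunctor (A := AddCommGrpCat.{u + 1}) (fam.{u + 1} g)
  let T : ShortComplex (CochainComplex AddCommGrpCat.{u + 1} ℕ) :=
    ShortComplex.mk (F.map (Functor.whiskerLeft (Over.forget U).op S.f.hom))
      (F.map (Functor.whiskerLeft (Over.forget U).op S.g.hom))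
      (HomologicalComplex.Hom.ext (funext fun n => ConcreteCategory.hom_ext _ _
        fun (c : Coch (fam.{u + 1} g) S.X₁.obj n) => Concrete.limit_ext _ _ _ fun ⟨i⟩ => by
          refine (map_f_π (fam.{u + 1} g) S.g.hom n _ i).trans ?_
          refine (congrArg (S.g.hom.app _) (map_f_π (fam.{u + 1} g) S.f.hom n c i)).trans ((app_f_g S _ _).trans ?_)
          exact (map_zero (Pi.π (fun i => S.X₃.obj.obj
            (op (((E (fam.{u + 1} g)).obj (op (SimplexCategory.mk n))).obj i).left)) i).hom).symm))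
  have hT : T.ShortExact := by
    refine HomologicalComplex.shortExact_of_degreewise_shortExact T fun n => ?_
    refine ShortComplex.ShortExact.mk' ?_ ?_ ?_
    · rw [ShortComplex.ab_exact_iff]
      intro (c : Coch (fam.{u + 1} g) S.X₂.obj n) hc
      obtain ⟨y, hy⟩ := exists_app_f_eq hS (dob.{u + 1} g n) (val.{u + 1} g c) (by
        rw [val, ev_idPt]
        refine (map_f_π (fam.{u + 1} g) S.g.hom n c _).symm.trans ?_
        exact (congrArg _ hc).trans (map_zero _))
      refine ⟨ofVal.{u + 1} g y, coch_ext'.{u + 1} g ?_⟩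
      rw [val, ev_idPt]
      refine (map_f_π (fam.{u + 1} g) S.f.hom n _ _).trans ?_
      rw [← ev_idPt]
      exact (congrArg (S.f.hom.app _) (val_ofVal.{u + 1} g y)).trans hy
    · refine (AddCommGrpCat.mono_iff_injective _).2 fun (c : Coch (fam.{u + 1} g) S.X₁.obj n) c' h =>
        Concrete.limit_ext _ _ _ fun ⟨i⟩ => app_f_injective hS _ ?_
      exact (map_f_π (fam.{u + 1} g) S.f.hom n c i).symm.trans
        ((congrArg _ h).trans (map_f_π (fam.{u + 1} g) S.f.hom n c' i))
    · refine (AddCommGrpCat.epi_iff_surjective _).2 fun (c : Coch (fam.{u + 1} g) S.X₃.obj n) => ?_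
      haveI : IsAffine (dob.{u + 1} g n).left := (hg.2.2 n (Injective.under 0) inferInstance).1
      obtain ⟨y, hy⟩ := surjective_sections hS h1 (hg.2.2 n) (val.{u + 1} g c)
      refine ⟨ofVal.{u + 1} g y, coch_ext'.{u + 1} g ?_⟩
      rw [val, ev_idPt]
      refine (map_f_π (fam.{u + 1} g) S.g.hom n _ _).trans ?_
      rw [← ev_idPt]
      exact (congrArg (S.g.hom.app _) (val_ofVal.{u + 1} g y)).trans hy
  exact (hT.homology_exact₃ (p + 1) (p + 1 + 1) (by simp)).isZero_of_both_zeros
    ((h2 g hg p).eq_of_src _ _) ((h1 g hg (p + 1)).eq_of_tgt _ _)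

variable [ProEtS.EpsCont X]

theorem epi_epsPush_of_cechGood {S : ShortComplex (ProEtS.AbP X)} (hS : S.ShortExact) (h1 : CechGood S.X₁) :
    Epi ((ProEtS.epsPush X).map S.g) := by
  haveI : Sheaf.IsLocallySurjective ((ProEtS.epsPush X).map S.g) := ⟨fun {W} s => EtPtsLib.covering_of_points _ fun x => by
    obtain ⟨i, y, hy⟩ := W.left.affineCover.exists_eq x
    haveI : Etale W.hom := W.prop
    let W' : X.Etale := Scheme.Etale.mk (W.left.affineCover.f i ≫ W.hom)
    let g : W' ⟶ W := MorphismProperty.Over.homMk (W.left.affineCover.f i)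
    refine ⟨W', g, y, ?_, hy⟩
    haveI : IsAffine ((ProEtS.eps X).obj W').left := inferInstanceAs (IsAffine (W.left.affineCover.X i))
    haveI : Etale ((ProEtS.eps X).obj W').hom := W'.prop
    exact surjective_sections hS h1 (base_of_etale _) _⟩
  exact (Sheaf.isLocallySurjective_iff_epi' _ _).1 inferInstance

/-- Čech good sheaves are acyclic for `ε_*`. -/
theorem isAcyclicFor_cechGood {G : ProEtS.AbP X} (h : CechGood G) :
    SpSeqLib.IsAcyclicFor (ProEtS.epsPush X) G := by
  haveI : PreservesFiniteLimits (ProEtS.epsPush X) :=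
    (ProEtS.epsAdj X).rightAdjoint_preservesLimits.{0, 0}.preservesFiniteLimits
  exact SpSeqLib.isAcyclicFor_of_class (ProEtS.epsPush X) CechGood (fun e => cechGood_of_iso e)
    (fun T hT hI h1 => cechGood_X₃ hT h1 (haveI := hI; cechGood_injective _))
    (fun T hT _ h1 => epi_epsPush_of_cechGood hT h1) h

/-- Pullbacks of étale sheaves are acyclic for `ε_*`. -/
theorem isAcyclicFor_epsPull (F : EtCoh.Ab X) :
    SpSeqLib.IsAcyclicFor (ProEtS.epsPush X) ((ProEtS.epsPull X).obj F) := by
  haveI : PreservesFiniteLimits (ProEtS.epsPush X) :=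
    (ProEtS.epsAdj X).rightAdjoint_preservesLimits.{0, 0}.preservesFiniteLimits
  have hinj : ∀ I : EtCoh.Ab X, Injective I →
      SpSeqLib.IsAcyclicFor (ProEtS.epsPush X) ((ProEtS.epsPull X).obj I) := fun I hI => by
    haveI := hI
    exact isAcyclicFor_cechGood (cechGood_of_iso (epsPullIso I).symm (cechGood_piProEt I))
  haveI := preservesFiniteLimits_epsPull X
  haveI : (ProEtS.epsPull X).IsLeftAdjoint := (ProEtS.epsAdj X).isLeftAdjoint
  haveI : PreservesFiniteColimits (ProEtS.epsPull X) :=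
    (ProEtS.epsAdj X).leftAdjoint_preservesColimits.{0, 0}.preservesFiniteColimits
  haveI : (ProEtS.epsPull X).Additive := (ProEtS.epsAdj X).left_adjoint_additive
  suffices H : ∀ (p : ℕ) (F : EtCoh.Ab X), IsZero (((ProEtS.epsPush X).rightDerived (p + 1)).obj
      ((ProEtS.epsPull X).obj F)) from fun p => H p F
  intro p
  induction p with
  | zero =>
    intro F
    refine SpSeqLib.isZero_rightDerived_one _ _ fun T hT hX => ?_
    exact epi_epsPush_map X T hT F hX.symm
  | succ p ih =>
    intro F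
    let S : ShortComplex (EtCoh.Ab X) := ShortComplex.mk (Injective.ι F) (cokernel.π (Injective.ι F))
      (cokernel.condition _)
    have hS : S.ShortExact := { exact := S.exact_of_g_is_cokernel (cokernelIsCokernel _) }
    exact SpSeqLib.isZero_rightDerived_succ_of_shortExact (ProEtS.epsPush X) (hS.map_of_exact (ProEtS.epsPull X))
      (hinj _ inferInstance) (ih _)

end Groth.Agent.ProEtFull
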