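import Groth.Agent.ProEtFull.Basic
import Groth.Agent.ProEtFull.PiLim
import Groth.Agent.EtLimLib.Cofiltered

/-!
# Sections of `ε⁻¹ F` on a cofiltered limit
-/

set_option autoImplicit false
set_option linter.style.haveILetI false
set_option backward.isDefEq.respectTransparency false
set_option backward.isDefEq.respectTransparency.types false
set_option maxHeartbeats 1000000
universe u

namespace Groth.Agent.ProEtFull

open CategoryTheory Limits AlgebraicGeometry Opposite
open Groth.Agent.BigSiteLib Groth.Agent.EtLimLib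

variable {X : Scheme.{u}}

theorem nonempty_isColimit_piProEt (F : EtCoh.Ab X) {I : Type u} [SmallCategory I] [IsCofiltered I]
    (D : I ⥤ X.ProEt) [∀ (i j : I) (a : i ⟶ j), IsAffineHom (D.map a).left]
    [∀ i, CompactSpace ↥(D.obj i).left] [∀ i, QuasiSeparatedSpace ↥(D.obj i).left]
    (c : Cone D) (hc : IsLimit ((Scheme.ProEt.forget X ⋙ Over.forget X).mapCone c)) :
    Nonempty (IsColimit ((piProEt F).obj.mapCocone c.op)) := by
  obtain ⟨α, _, _, _, Φ, _⟩ := IsFiltered.exists_directed.{u} Iᵒᵖ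
  let G : αᵒᵖ ⥤ I := Φ.op ⋙ unopUnop I
  haveI : G.Initial := inferInstanceAs (Φ.op ⋙ unopUnop I).Initial
  let D' := D ⋙ Scheme.ProEt.forget X ⋙ Over.forget X
  let S : Sys α :=
    { Xs := G ⋙ D', aff := fun a b h => inferInstanceAs (IsAffineHom (D.map (G.map h)).left),
      qc := fun a => inferInstanceAs (CompactSpace (D.obj (G.obj a)).left),
      qs := fun a => inferInstanceAs (QuasiSeparatedSpace (D.obj (G.obj a)).left),
      c := ((Scheme.ProEt.forget X ⋙ Over.forget X).mapCone c).whisker G,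
      hc := (Functor.Initial.isLimitWhiskerEquiv G _).symm hc }
  let g : ∀ a, S.X a ⟶ X := fun a => (D.obj (G.obj (op a))).hom
  have hg : ∀ ⦃a b : α⦄ (h : a ≤ b), S.t h ≫ g a = g b := fun a b h =>
    Over.w ((D.map (G.map (homOfLE h).op)).hom)
  have hgc : ∀ a, S.u a ≫ g a = c.pt.hom := fun a => Over.w (c.π.app (G.obj (op a))).hom
  -- it is enough to work with sets
  refine ⟨?_⟩
  haveI : PreservesColimitsOfShape Iᵒᵖ (forget AddCommGrpCat.{u + 1}) :=
    haveI : PreservesFilteredColimitsOfSize.{u, u} (forget AddCommGrpCat.{u + 1}) := inferInstance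
    PreservesFilteredColimitsOfSize.preserves_filtered_colimits Iᵒᵖ
  haveI : HasColimitsOfShape Iᵒᵖ AddCommGrpCat.{u + 1} :=
    haveI : HasColimitsOfSize.{u + 1, u + 1} AddCommGrpCat.{u + 1} := inferInstance
    hasColimitsOfShape_of_equivalence (AsSmall.equiv.{u, u, u + 1} (C := Iᵒᵖ)).symm
  haveI : ReflectsColimitsOfShape Iᵒᵖ (forget AddCommGrpCat.{u + 1}) :=
    reflectsColimitsOfShape_of_reflectsIsomorphisms
  refine isColimitOfReflects (forget AddCommGrpCat.{u + 1})
    (Types.FilteredColimit.isColimitOf' _ _ (fun t => ?_) fun i x y h => ?_)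
  · obtain ⟨a, s, hs⟩ := exists_stage_section F g hg c.pt.hom hgc t
    exact ⟨op (G.obj (op a)), s, hs.symm.trans (piSheaf_map_eq F rfl s)⟩
  · haveI : IsConnected (CostructuredArrow G i.unop) := Functor.Initial.out i.unop
    let q : CostructuredArrow G i.unop := Classical.arbitrary _
    let r : (Scheme.ProEt.forget X).obj (D.obj (G.obj q.left)) ⟶ (Scheme.ProEt.forget X).obj (D.obj i.unop) :=
      (Scheme.ProEt.forget X).map (D.map q.hom)
    let d := (piSheaf F).obj.map r.op x - (piSheaf F).obj.map r.op y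
    have e : ∀ z, (piSheaf F).obj.map (Over.homMk (S.u q.left.unop) (hgc q.left.unop) : Over.mk c.pt.hom ⟶ _).op
        ((piSheaf F).obj.map r.op z) =
          (piSheaf F).obj.map ((Scheme.ProEt.forget X).map (c.π.app i.unop)).op z := fun z =>
      piSheaf_map_map F _ r _ (congrArg (fun m => m.left) (c.w q.hom)) z
    obtain ⟨b, hb, hd⟩ := exists_zero_stage F g hg c.pt.hom hgc q.left.unop d
      ((map_sub _ _ _).trans (sub_eq_zero.2 ((e x).trans (h.trans (e y).symm))))
    refine ⟨op (G.obj (op b)), (G.map (homOfLE hb).op ≫ q.hom).op, ?_⟩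
    have e' : ∀ z, (piSheaf F).obj.map (Over.homMk (S.t hb) (hg hb) : Over.mk (g b) ⟶ _).op
        ((piSheaf F).obj.map r.op z) =
          (piSheaf F).obj.map ((Scheme.ProEt.forget X).map (D.map (G.map (homOfLE hb).op ≫ q.hom))).op z := fun z =>
      piSheaf_map_map F _ r _ (congrArg (fun m => m.left) (D.map_comp (G.map (homOfLE hb).op) q.hom).symm) z
    exact (e' x).symm.trans ((sub_eq_zero.1 ((map_sub _ _ _).symm.trans hd)).trans (e' y))

theorem nonempty_isColimit_epsPull [ProEtS.EpsCont X] (F : EtCoh.Ab X) {I : Type u} [SmallCategory I]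
    [IsCofiltered I] (D : I ⥤ X.ProEt) [∀ (i j : I) (a : i ⟶ j), IsAffineHom (D.map a).left]
    [∀ i, CompactSpace ↥(D.obj i).left] [∀ i, QuasiSeparatedSpace ↥(D.obj i).left]
    (c : Cone D) (hc : IsLimit ((Scheme.ProEt.forget X ⋙ Over.forget X).mapCone c)) :
    Nonempty (IsColimit (((ProEtS.epsPull X).obj F).obj.mapCocone c.op)) := by
  obtain ⟨h⟩ := nonempty_isColimit_piProEt F D c hc
  exact ⟨IsColimit.mapCoconeEquiv ((sheafToPresheaf _ _).mapIso (epsPullIso F)).symm h⟩

end Groth.Agent.ProEtFull
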