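import Groth.Agent.ProEtFull.IndSys
import Groth.Agent.ProEtFull.SectColim
import Groth.Agent.ProEtFull.EpsExact
import Groth.Agent.WLocalLib.IndCover

/-!
# Limits of affine étale schemes form a basis of the pro-étale site
-/

set_option autoImplicit false
set_option linter.style.haveILetI false
set_option backward.isDefEq.respectTransparency false
set_option backward.isDefEq.respectTransparency.types false
set_option maxHeartbeats 1000000
universe u

noncomputable section

namespace Groth.Agent.ProEtFull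

open CategoryTheory Limits AlgebraicGeometry Opposite

variable {Y : Scheme.{u}}

/-- `V` is a cofiltered limit of affine schemes étale over `Y`. -/
def IndV (V : Y.ProEt) : Prop :=
  ∃ (α : Type u) (_ : Preorder α) (_ : IsDirected α (· ≤ ·)) (_ : Nonempty α) (D : αᵒᵖ ⥤ Y.Etale)
    (π : (Functor.const αᵒᵖ).obj V ⟶ D ⋙ ProEtS.eps Y),
    (∀ a, IsAffine (D.obj a).left) ∧
      Nonempty (IsLimit ((Scheme.ProEt.forget Y ⋙ Over.forget Y).mapCone (Cone.mk V π)))

/-- An ind-étale algebra over an affine étale scheme over `Y` gives such a limit. -/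
theorem indV_of_isIndEtale {A : CommRingCat.{u}} (p : Spec A ⟶ Y) [Etale p] (B : Type u) [CommRing B]
    [Algebra ↥A B] (hind : EtPBC.IsIndEtale ↥A B) (V : Y.ProEt)
    (e : V.left ≅ Spec (CommRingCat.of B))
    (he : e.hom ≫ Spec.map (CommRingCat.ofHom (algebraMap ↥A B)) ≫ p = V.hom) : IndV V := by
  obtain ⟨J, _, _, G, c, hc, hG, ⟨e'⟩⟩ := hind
  obtain ⟨α, _, _, _, F, _⟩ := IsFiltered.exists_directed.{u} J
  let G' := F ⋙ G
  let c' := c.whisker F
  have hc' : IsColimit c' := (Functor.Final.isColimitWhiskerEquiv F c).symm hc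
  haveI : IsConnected α := IsFiltered.isConnected α
  have h1 : IsColimit ((Under.forget _).mapCocone c') := isColimitOfPreserves _ hc'
  haveI : ∀ a, Etale (Spec.map (G'.obj a).hom) := fun a => by
    rw [HasRingHomProperty.Spec_iff (P := @Etale)]
    exact hG (F.obj a)
  let D : αᵒᵖ ⥤ Y.Etale :=
    { obj := fun a => Scheme.Etale.mk (Spec.map (G'.obj a.unop).hom ≫ p)
      map := fun {a b} f => MorphismProperty.Over.homMk (Spec.map (G'.map f.unop).right) (by
        show Spec.map _ ≫ Spec.map _ ≫ p = Spec.map _ ≫ p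
        rw [← Category.assoc, ← Spec.map_comp]
        congr 2
        exact Under.w (G'.map f.unop))
      map_id := fun a => by
        apply MorphismProperty.Over.Hom.ext
        show Spec.map (G'.map (𝟙 a.unop)).right = 𝟙 _
        rw [CategoryTheory.Functor.map_id]
        exact Spec.map_id _
      map_comp := fun {a b d} f g => by
        apply MorphismProperty.Over.Hom.ext
        show Spec.map (G'.map (g.unop ≫ f.unop)).right = Spec.map _ ≫ Spec.map _
        rw [Functor.map_comp, ← Spec.map_comp]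
        rfl }
  haveI : IsIso e'.hom.right := inferInstanceAs (IsIso ((Under.forget _).map e'.hom))
  let q : V.left ⟶ Spec c'.pt.right := e.hom ≫ Spec.map e'.hom.right
  haveI : IsIso (Spec.map e'.hom.right) := inferInstance
  have hq : q ≫ Spec.map c'.pt.hom ≫ p = V.hom := by
    refine Eq.trans ?_ he
    show (e.hom ≫ Spec.map _) ≫ Spec.map _ ≫ p = _
    rw [Category.assoc, ← Spec.map_comp_assoc]
    exact congrArg (fun m => e.hom ≫ Spec.map m ≫ p) (Under.w e'.hom)
  let π : (Functor.const αᵒᵖ).obj V ⟶ D ⋙ ProEtS.eps Y :=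
    { app := fun a => MorphismProperty.Over.homMk (q ≫ Spec.map (c'.ι.app a.unop).right) (by
        show (q ≫ Spec.map _) ≫ Spec.map _ ≫ p = V.hom
        rw [Category.assoc, ← Spec.map_comp_assoc]
        exact (congrArg (fun m => q ≫ Spec.map m ≫ p) (Under.w (c'.ι.app a.unop))).trans hq)
      naturality := fun a b f => by
        apply (Scheme.ProEt.forget Y ⋙ Over.forget Y).map_injective
        show 𝟙 _ ≫ (q ≫ Spec.map _) = (q ≫ Spec.map (c'.ι.app a.unop).right) ≫ Spec.map (G'.map f.unop).right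
        refine (Category.id_comp _).trans (Eq.trans ?_ (Category.assoc _ _ _).symm)
        refine Eq.trans ?_ (congrArg (fun m => q ≫ m) (Spec.map_comp _ _))
        exact congrArg (fun m => q ≫ Spec.map m) (congrArg (fun m => m.right) (c'.w f.unop).symm) }
  refine ⟨α, inferInstance, inferInstance, inferInstance, D, π, fun a => inferInstanceAs (IsAffine (Spec _)), ⟨?_⟩⟩
  have h2 : IsLimit (Scheme.Spec.mapCone ((Under.forget _).mapCocone c').op) :=
    isLimitOfPreserves Scheme.Spec h1.op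
  haveI : IsIso q := inferInstanceAs (IsIso (e.hom ≫ Spec.map e'.hom.right))
  exact IsLimit.ofIsoLimit h2 (Cone.ext (asIso q) fun a => rfl).symm

/-- Every object is covered by limits of affine étale schemes. -/
theorem exists_indV_cover (U : Y.ProEt) :
    ∃ (ι : Type u) (V : ι → Y.ProEt) (g : ∀ i, V i ⟶ U),
      Sieve.ofArrows V g ∈ Scheme.ProEt.topology Y U ∧ ∀ i, IndV (V i) := by
  have hx : ∀ x : U.left, ∃ (O : U.left.Opens) (Ya : Y.Opens), x ∈ O ∧ IsAffineOpen O ∧ IsAffineOpen Ya ∧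
      O ≤ U.hom ⁻¹ᵁ Ya := fun x => by
    obtain ⟨_, ⟨(Ya : Y.Opens), hYa, rfl⟩, hy, -⟩ :=
      Y.isBasis_affineOpens.exists_subset_of_mem_open (Set.mem_univ (U.hom x)) isOpen_univ
    obtain ⟨_, ⟨(O : U.left.Opens), hO, rfl⟩, hxO, hsub⟩ :=
      U.left.isBasis_affineOpens.exists_subset_of_mem_open (show x ∈ ((U.hom ⁻¹ᵁ Ya : U.left.Opens) : Set U.left) from hy)
        (U.hom ⁻¹ᵁ Ya).2
    exact ⟨O, Ya, hxO, hO, hYa, hsub⟩
  choose O Ya hxO hO hYa hle using hx
  haveI : WeaklyEtale U.hom := U.prop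
  have hcov : ∀ x : U.left, ∃ (V : Y.ProEt) (g : V ⟶ ProEtWC.opObj U (O x)),
      IsAffine V.left ∧ Surjective g.left ∧ IndV V := fun x => by
    letI : Algebra ↥Γ(Y, Ya x) ↥Γ(U.left, O x) := (U.hom.appLE (Ya x) (O x) (hle x)).hom.toAlgebra
    haveI : Algebra.WeaklyEtale ↥Γ(Y, Ya x) ↥Γ(U.left, O x) := WLocalLib.weaklyEtale_appLE U.hom (hYa x) (hO x) (hle x)
    obtain ⟨B, _, _, _, _, hff, hindB, hindA⟩ :=
      WLocalLib.exists_indEtale_cover_of_weaklyEtale ↥Γ(Y, Ya x) ↥Γ(U.left, O x)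
    haveI := hff
    haveI := ProEtLib2.weaklyEtale_of_isIndEtale hindB
    haveI := WLocalLib.weaklyEtale_spec (A := ↥Γ(U.left, O x)) (B := B)
    haveI : Surjective (Spec.map (CommRingCat.ofHom (algebraMap ↥Γ(U.left, O x) B))) :=
      ⟨PrimeSpectrum.comap_surjective_of_faithfullyFlat⟩
    let f : Spec (CommRingCat.of B) ⟶ (O x).toScheme :=
      Spec.map (CommRingCat.ofHom (algebraMap ↥Γ(U.left, O x) B)) ≫ (hO x).isoSpec.inv
    haveI : WeaklyEtale f := inferInstance
    let V : Y.ProEt := Scheme.ProEt.mk (f ≫ (O x).ι ≫ U.hom)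
    let g : V ⟶ ProEtWC.opObj U (O x) := MorphismProperty.Over.homMk f
    refine ⟨V, g, inferInstanceAs (IsAffine (Spec _)),
      inferInstanceAs (Surjective f), indV_of_isIndEtale (A := Γ(Y, Ya x)) (hYa x).fromSpec B hindA V (Iso.refl _) ?_⟩
    refine (Category.id_comp _).trans ?_
    rw [IsScalarTower.algebraMap_eq ↥Γ(Y, Ya x) ↥Γ(U.left, O x) B, CommRingCat.ofHom_comp, Spec.map_comp,
      Category.assoc]
    show _ ≫ Spec.map (U.hom.appLE (Ya x) (O x) (hle x)) ≫ (hYa x).fromSpec = _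
    rw [(hYa x).SpecMap_appLE_fromSpec _ (hO x)]
    show _ = (Spec.map _ ≫ _) ≫ (O x).ι ≫ U.hom
    rw [Category.assoc, ← IsAffineOpen.isoSpec_inv_ι (hO x), Category.assoc]
  choose V g hV hg hI using hcov
  refine ⟨U.left, V, fun x => g x ≫ ProEtWC.opIncl U (O x), ?_, hI⟩
  have hmem := ProEtWC.ofArrows_opens_mem (U := U) O
    (Set.eq_univ_of_forall fun x => Set.mem_iUnion.2 ⟨x, hxO x⟩)
  refine (Scheme.ProEt.topology Y).transitive hmem _ ?_
  rintro Z f ⟨W, a, b, ⟨x⟩, rfl⟩
  rw [Sieve.pullback_comp]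
  refine GrothendieckTopology.pullback_stable _ a ?_
  haveI := hV x
  haveI := hg x
  haveI : IsAffine (ProEtWC.opObj U (O x)).left := hO x
  refine GrothendieckTopology.superset_covering _ ?_ (ProEtWC.singleton_mem (g x))
  rw [Sieve.generate_le_iff]
  rintro W h ⟨⟩
  exact Sieve.ofArrows_mk _ (fun x => g x ≫ ProEtWC.opIncl U (O x)) x

/-- A morphism of sheaves which is bijective on the limits of affine étale schemes is an isomorphism. -/
theorem isIso_of_bijective_indV {G H : ProEtS.AbP Y} (φ : G ⟶ H)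
    (h : ∀ V, IndV V → Function.Bijective (φ.hom.app (op V))) : IsIso φ := by
  haveI : Sheaf.IsLocallyInjective φ := ⟨fun {U} s s' e => by
    obtain ⟨ι, V, g, hmem, hV⟩ := exists_indV_cover U.unop
    refine GrothendieckTopology.superset_covering _ ?_ hmem
    rw [Sieve.ofArrows, Sieve.generate_le_iff]
    rintro W f ⟨i⟩
    refine (h _ (hV i)).1 ?_
    exact (NatTrans.naturality_apply φ.hom _ s).trans ((congrArg (H.obj.map (g i).op) e).trans
      (NatTrans.naturality_apply φ.hom _ s').symm)⟩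
  haveI : Sheaf.IsLocallySurjective φ := ⟨fun {U} s => by
    obtain ⟨ι, V, g, hmem, hV⟩ := exists_indV_cover U
    refine GrothendieckTopology.superset_covering _ ?_ hmem
    rw [Sieve.ofArrows, Sieve.generate_le_iff]
    rintro W f ⟨i⟩
    exact (h _ (hV i)).2 _⟩
  exact (Sheaf.isLocallyBijective_iff_isIso φ).1 ⟨inferInstance, inferInstance⟩

/-- A sheaf whose sections commute with the limits defining `IndV` comes from the étale site. -/
theorem isIso_counit_of_isColimit [ProEtS.EpsCont Y] (G : ProEtS.AbP Y)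
    (hG : ∀ {α : Type u} [Preorder α] [IsDirected α (· ≤ ·)] [Nonempty α] (D : αᵒᵖ ⥤ Y.Etale)
      (c : Cone (D ⋙ ProEtS.eps Y)), (∀ a, IsAffine (D.obj a).left) →
      IsLimit ((Scheme.ProEt.forget Y ⋙ Over.forget Y).mapCone c) →
      Nonempty (IsColimit (G.obj.mapCocone c.op))) :
    IsIso ((ProEtS.epsAdj Y).counit.app G) := by
  refine isIso_of_bijective_indV _ fun V hV => ?_
  obtain ⟨α, _, _, _, D, π, hD, ⟨hc⟩⟩ := hV
  haveI := hD
  haveI : IsConnected α := IsFiltered.isConnected α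
  haveI : ∀ (i j : αᵒᵖ) (a : i ⟶ j), IsAffineHom ((D ⋙ ProEtS.eps Y).map a).left := fun i j a => by
    haveI : IsAffine ((ProEtS.eps Y).obj (D.obj i)).left := hD i
    haveI : IsAffine ((ProEtS.eps Y).obj (D.obj j)).left := hD j
    show IsAffineHom (show ((ProEtS.eps Y).obj (D.obj i)).left ⟶ ((ProEtS.eps Y).obj (D.obj j)).left from _)
    infer_instance
  haveI : ∀ a, CompactSpace ↥((D ⋙ ProEtS.eps Y).obj a).left := fun a =>
    inferInstanceAs (CompactSpace ↥(D.obj a).left)
  haveI : ∀ a, QuasiSeparatedSpace ↥((D ⋙ ProEtS.eps Y).obj a).left := fun a =>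
    inferInstanceAs (QuasiSeparatedSpace ↥(D.obj a).left)
  obtain ⟨h2⟩ := hG D (Cone.mk V π) hD hc
  obtain ⟨h1⟩ := nonempty_isColimit_epsPull ((ProEtS.epsPush Y).obj G) (D ⋙ ProEtS.eps Y) (Cone.mk V π) hc
  let μ := (ProEtS.epsAdj Y).counit.app G
  haveI := isIso_epsAdj_unit ((ProEtS.epsPush Y).obj G)
  haveI : IsIso ((ProEtS.epsPush Y).map μ) :=
    IsIso.of_isIso_fac_left ((ProEtS.epsAdj Y).right_triangle_components G)
  haveI : IsIso ((sheafToPresheaf Y.smallEtaleTopology AddCommGrpCat.{u + 1}).map ((ProEtS.epsPush Y).map μ)) :=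
    inferInstance
  have hb : ∀ W : Y.Etale, IsIso (μ.hom.app (op ((ProEtS.eps Y).obj W))) := fun W =>
    (NatTrans.isIso_iff_isIso_app _).1 this (op W)
  let β := Functor.whiskerLeft (D ⋙ ProEtS.eps Y).op μ.hom
  haveI : ∀ a, IsIso (β.app a) := fun a => hb _
  haveI : IsIso β := NatIso.isIso_of_isIso_app β
  have e : μ.hom.app (op V) = (IsColimit.coconePointsIsoOfNatIso h1 h2 (asIso β)).hom := h1.hom_ext fun a => by
    rw [IsColimit.comp_coconePointsIsoOfNatIso_hom]
    exact (μ.hom.naturality (π.app a.unop).op)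
  haveI : IsIso (μ.hom.app (op V)) := e ▸ inferInstance
  exact ConcreteCategory.bijective_of_isIso _

end Groth.Agent.ProEtFull
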