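import Groth.Prelude.Def_ProEtS
import Groth.Agent.WLocalLib.ClosedLift
import Groth.Agent.WLocalLib.IndCover
import Groth.Agent.WLocalLib.WeakEtaleScheme
import Mathlib.AlgebraicGeometry.Morphisms.ClosedImmersion

/-!
# Lifting w-contractible pro-étale objects along closed immersions
-/

set_option autoImplicit false
set_option linter.style.haveILetI false
set_option backward.isDefEq.respectTransparency false
set_option backward.isDefEq.respectTransparency.types false
set_option maxHeartbeats 1000000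
universe u

noncomputable section

namespace Groth.Agent.ProEtFull

open CategoryTheory Limits AlgebraicGeometry Opposite TensorProduct

variable {Z X : Scheme.{u}} (i : Z ⟶ X) [IsClosedImmersion i]

/-- A w-contractible affine weakly étale scheme over an affine piece of a closed subscheme is the trace of an
affine weakly étale scheme over the ambient scheme, to which morphisms into affine weakly étale schemes lift. -/
theorem exists_lift_obj (Xa : X.Opens) (hXa : IsAffineOpen Xa) (B : Type u) [CommRing B]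
    (hB : EtPBC.IsWContractible B) (w : Spec (CommRingCat.of B) ⟶ Z) [WeaklyEtale w]
    (hw : ∀ t, w t ∈ i ⁻¹ᵁ Xa) :
    ∃ (V : X.ProEt) (q : Spec (CommRingCat.of B) ⟶ V.left), IsAffine V.left ∧ (∀ v, V.hom v ∈ Xa) ∧
      IsPullback q w V.hom i ∧ (∀ m : V ⟶ V, q ≫ m.left = q → m = 𝟙 V) ∧
      ∀ (U : X.ProEt) (O : U.left.Opens), IsAffineOpen O → O ≤ U.hom ⁻¹ᵁ Xa →
        ∀ (h : Spec (CommRingCat.of B) ⟶ (O : Scheme.{u})), h ≫ O.ι ≫ U.hom = w ≫ i →
          ∃ g : V ⟶ U, q ≫ g.left = h ≫ O.ι := by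
  let A := Γ(X, Xa)
  let Za := i ⁻¹ᵁ Xa
  have hZa : IsAffineOpen Za := hXa.preimage i
  let φ : A ⟶ Γ(Z, Za) := i.app Xa
  have hφ : Function.Surjective φ := i.app_surjective Xa hXa
  have hr : Set.range w ⊆ Set.range hZa.fromSpec := by
    rw [hZa.range_fromSpec]
    rintro _ ⟨t, rfl⟩
    exact hw t
  let w₀ := IsOpenImmersion.lift hZa.fromSpec w hr
  have hw₀ : w₀ ≫ hZa.fromSpec = w := IsOpenImmersion.lift_fac _ _ _
  haveI : WeaklyEtale (w₀ ≫ hZa.fromSpec) := hw₀ ▸ inferInstance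
  haveI : WeaklyEtale w₀ := WeaklyEtale.of_comp w₀ hZa.fromSpec
  let β : Γ(Z, Za) ⟶ CommRingCat.of B := Spec.preimage w₀
  have hβ : Spec.map β = w₀ := Spec.map_preimage _
  let I : Ideal A := RingHom.ker φ.hom
  let k : A ⧸ I ≃+* Γ(Z, Za) := RingHom.quotientKerEquivOfSurjective hφ
  letI : Algebra A B := (β.hom.comp φ.hom).toAlgebra
  letI : Algebra (↥A ⧸ I) B := (β.hom.comp k.toRingHom).toAlgebra
  haveI : IsScalarTower A (↥A ⧸ I) B := IsScalarTower.of_algebraMap_eq fun a => rfl
  haveI : WeaklyEtale (Spec.map (CommRingCat.ofHom (algebraMap (↥A ⧸ I) B))) := by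
    have e : CommRingCat.ofHom (algebraMap (↥A ⧸ I) B) = k.toCommRingCatIso.hom ≫ β := rfl
    rw [e, Spec.map_comp, hβ]
    infer_instance
  haveI : Algebra.WeaklyEtale (↥A ⧸ I) B := WLocalLib.weaklyEtale_of_specMap
  obtain ⟨C, _, _, ψ, hC, hψs, hψk, huniv⟩ := WLocalLib.exists_lift_wContractible I hB
  haveI := hC
  haveI := WLocalLib.weaklyEtale_spec (A := A) (B := C)
  let v : Spec (CommRingCat.of C) ⟶ X := Spec.map (CommRingCat.ofHom (algebraMap A C)) ≫ hXa.fromSpec
  let V : X.ProEt := Scheme.ProEt.mk v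
  let q : Spec (CommRingCat.of B) ⟶ V.left := Spec.map (CommRingCat.ofHom ψ.toRingHom)
  -- the square over the affine pieces
  letI : Algebra A Γ(Z, Za) := φ.hom.toAlgebra
  let β' : Γ(Z, Za) →ₐ[A] B := { β.hom with commutes' := fun _ => rfl }
  let θ : C ⊗[A] Γ(Z, Za) →ₐ[A] B := Algebra.TensorProduct.lift ψ β' fun _ _ => Commute.all _ _
  have hθ : Function.Bijective θ := by
    refine ⟨(injective_iff_map_eq_zero _).2 fun x hx => ?_, fun b => ?_⟩
    · have h1 : ∀ x : C ⊗[A] Γ(Z, Za), ∃ c : C, x = c ⊗ₜ 1 := fun x => by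
        induction x using TensorProduct.induction_on with
        | zero => exact ⟨0, (TensorProduct.zero_tmul _ _).symm⟩
        | tmul c a =>
          obtain ⟨a, rfl⟩ := hφ a
          exact ⟨a • c, by rw [TensorProduct.smul_tmul, Algebra.smul_def, mul_one]; rfl⟩
        | add x y hx hy =>
          obtain ⟨c, rfl⟩ := hx
          obtain ⟨d, rfl⟩ := hy
          exact ⟨c + d, (TensorProduct.add_tmul _ _ _).symm⟩
      obtain ⟨c, rfl⟩ := h1 x
      have hc : c ∈ I.map (algebraMap A C) := by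
        rw [← hψk, RingHom.mem_ker]
        have := hx
        rwa [Algebra.TensorProduct.lift_tmul, map_one, mul_one] at this
      have hle : I.map (algebraMap A C) ≤
          RingHom.ker (Algebra.TensorProduct.includeLeft : C →ₐ[A] C ⊗[A] Γ(Z, Za)).toRingHom := by
        rw [Ideal.map_le_iff_le_comap]
        intro a ha
        show (algebraMap A C a) ⊗ₜ[A] (1 : Γ(Z, Za)) = 0
        rw [Algebra.algebraMap_eq_smul_one, TensorProduct.smul_tmul, Algebra.smul_def,
          show algebraMap A Γ(Z, Za) a = 0 from ha, zero_mul, TensorProduct.tmul_zero]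
      exact hle hc
    · obtain ⟨c, rfl⟩ := hψs b
      exact ⟨c ⊗ₜ 1, by rw [Algebra.TensorProduct.lift_tmul, map_one, mul_one]⟩
  let εr : CommRingCat.of (C ⊗[A] Γ(Z, Za)) ≅ CommRingCat.of B := (RingEquiv.ofBijective θ hθ).toCommRingCatIso
  have sqB : IsPullback q w₀ (Spec.map (CommRingCat.ofHom (algebraMap A C))) (Spec.map φ) := by
    let e : Spec (CommRingCat.of B) ≅ pullback (Spec.map (CommRingCat.ofHom (algebraMap A C)))
        (Spec.map (CommRingCat.ofHom (algebraMap A Γ(Z, Za)))) :=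
      asIso (Spec.map εr.hom) ≪≫ (pullbackSpecIso A C Γ(Z, Za)).symm
    refine IsPullback.of_iso_pullback ⟨?_⟩ e ?_ ?_
    · show Spec.map (CommRingCat.ofHom ψ.toRingHom) ≫ _ = _
      rw [← hβ, ← Spec.map_comp, ← Spec.map_comp]
      congr 1
      ext a
      exact ψ.commutes a
    · rw [Iso.trans_hom, Iso.symm_hom, Category.assoc]
      refine (congrArg ((asIso (Spec.map εr.hom)).hom ≫ ·) (pullbackSpecIso_inv_fst _ _ _)).trans ?_
      rw [asIso_hom, ← Spec.map_comp]
      show Spec.map _ = Spec.map _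
      congr 1
      ext c
      show θ (c ⊗ₜ 1) = ψ c
      rw [Algebra.TensorProduct.lift_tmul, map_one, mul_one]
    · rw [Iso.trans_hom, Iso.symm_hom, Category.assoc]
      refine (congrArg ((asIso (Spec.map εr.hom)).hom ≫ ·) (pullbackSpecIso_inv_snd _ _ _)).trans ?_
      rw [asIso_hom, ← Spec.map_comp, ← hβ]
      congr 1
      ext a
      show θ (1 ⊗ₜ a) = β' a
      rw [Algebra.TensorProduct.lift_tmul, map_one, one_mul]
  have sqZ : IsPullback (Spec.map φ) hZa.fromSpec hXa.fromSpec i := by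
    have hcomm : Spec.map φ ≫ hXa.fromSpec = hZa.fromSpec ≫ i := by
      rw [← IsAffineOpen.SpecMap_appLE_fromSpec i hXa hZa le_rfl]
      show Spec.map (i.app Xa) ≫ _ = _
      rw [Scheme.Hom.app_eq_appLE]
    exact IsOpenImmersion.isPullback _ _ _ _ hcomm.symm
      (by rw [hXa.opensRange_fromSpec, hZa.opensRange_fromSpec])
  have sq : IsPullback q w V.hom i := hw₀ ▸ sqB.paste_vert sqZ
  have hVX : ∀ t, V.hom t ∈ Xa := fun t => by
    show (Spec.map _ ≫ hXa.fromSpec) t ∈ Xa
    rw [Scheme.Hom.comp_apply]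
    exact hXa.range_fromSpec.le (Set.mem_range_self _)
  have hend : ∀ m : V ⟶ V, q ≫ m.left = q → m = 𝟙 V := fun m hm => by
    let ml : Spec (CommRingCat.of C) ⟶ Spec (CommRingCat.of C) := m.left
    let μ := Spec.preimage ml
    have hμ : Spec.map μ = ml := Spec.map_preimage _
    have hμA : CommRingCat.ofHom (algebraMap A C) ≫ μ = CommRingCat.ofHom (algebraMap A C) := by
      apply Spec.map_injective
      rw [Spec.map_comp, hμ, ← cancel_mono hXa.fromSpec, Category.assoc]
      exact MorphismProperty.Over.w m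
    let μ' : C →ₐ[A] C := { μ.hom with commutes' := fun a => congr($hμA a) }
    have hψμ : ψ.comp μ' = ψ.comp (AlgHom.id A C) := by
      have e : μ ≫ CommRingCat.ofHom ψ.toRingHom = CommRingCat.ofHom ψ.toRingHom := by
        apply Spec.map_injective
        rw [Spec.map_comp, hμ]
        exact hm
      exact AlgHom.ext fun c => congr($e c)
    have e1 : μ' = AlgHom.id A C := (huniv C).1 hψμ
    have e2 : μ = 𝟙 _ := CommRingCat.hom_ext (RingHom.ext fun c => AlgHom.congr_fun e1 c)
    apply MorphismProperty.Over.Hom.ext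
    show ml = 𝟙 _
    rw [← hμ, e2, Spec.map_id]
  refine ⟨V, q, inferInstanceAs (IsAffine (Spec _)), hVX, sq, hend, fun U O hO hle h hh => ?_⟩
  haveI : WeaklyEtale U.hom := U.prop
  letI : Algebra A Γ(U.left, O) := (U.hom.appLE Xa O hle).hom.toAlgebra
  haveI : Algebra.WeaklyEtale A Γ(U.left, O) := WLocalLib.weaklyEtale_appLE U.hom hXa hO hle
  let γ : Γ(U.left, O) ⟶ CommRingCat.of B := Spec.preimage (h ≫ hO.isoSpec.hom)
  have hγ : Spec.map γ = h ≫ hO.isoSpec.hom := Spec.map_preimage _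
  have hcomm : ∀ a : A, γ (algebraMap A Γ(U.left, O) a) = algebraMap A B a := fun a => by
    have e : U.hom.appLE Xa O hle ≫ γ = φ ≫ β := by
      apply Spec.map_injective
      rw [Spec.map_comp, Spec.map_comp, hγ, hβ, ← cancel_mono hXa.fromSpec, Category.assoc, Category.assoc,
        hXa.SpecMap_appLE_fromSpec U.hom hO hle]
      have e1 : h ≫ hO.isoSpec.hom ≫ hO.fromSpec ≫ U.hom = w ≫ i := by
        rw [← IsAffineOpen.isoSpec_inv_ι hO, ← hh]
        simp
      have e2 : (w₀ ≫ Spec.map φ) ≫ hXa.fromSpec = w ≫ i := by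
        calc (w₀ ≫ Spec.map φ) ≫ hXa.fromSpec = w₀ ≫ Spec.map φ ≫ hXa.fromSpec := Category.assoc _ _ _
          _ = w₀ ≫ hZa.fromSpec ≫ i := congrArg (w₀ ≫ ·) sqZ.w
          _ = (w₀ ≫ hZa.fromSpec) ≫ i := (Category.assoc _ _ _).symm
          _ = w ≫ i := congrArg (· ≫ i) hw₀
      exact e1.trans e2.symm
    exact congr($e a)
  let γ' : Γ(U.left, O) →ₐ[A] B := { γ.hom with commutes' := hcomm }
  obtain ⟨g₀, hg₀⟩ := (huniv Γ(U.left, O)).2 γ'
  let g : V.left ⟶ U.left := Spec.map (CommRingCat.ofHom g₀.toRingHom) ≫ hO.isoSpec.inv ≫ O.ι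
  have hg : g ≫ U.hom = V.hom := by
    show (Spec.map _ ≫ _ ≫ _) ≫ U.hom = Spec.map _ ≫ hXa.fromSpec
    rw [show hO.isoSpec.inv ≫ O.ι = hO.fromSpec from IsAffineOpen.isoSpec_inv_ι hO, Category.assoc,
      ← hXa.SpecMap_appLE_fromSpec U.hom hO hle, ← Spec.map_comp_assoc]
    congr 2
    ext a
    exact g₀.commutes a
  refine ⟨MorphismProperty.Over.homMk g hg, ?_⟩
  show Spec.map (CommRingCat.ofHom ψ.toRingHom) ≫ Spec.map _ ≫ hO.isoSpec.inv ≫ O.ι = _
  rw [← Spec.map_comp_assoc, show CommRingCat.ofHom g₀.toRingHom ≫ CommRingCat.ofHom ψ.toRingHom = γ from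
    CommRingCat.hom_ext (congrArg AlgHom.toRingHom hg₀), hγ]
  simp

end Groth.Agent.ProEtFull
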