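import Groth.Agent.ProEtFull.ClosedImm

/-!
# Objects lifting maps from their trace on a closed subscheme
-/

set_option autoImplicit false
set_option linter.style.haveILetI false
set_option backward.isDefEq.respectTransparency false
set_option backward.isDefEq.respectTransparency.types false
set_option maxHeartbeats 1000000
universe u

noncomputable section

namespace Groth.Agent.ProEtFull

open CategoryTheory Limits AlgebraicGeometry Opposite

variable {Z X : Scheme.{u}} (i : Z ⟶ X)

theorem bc_hom_ext {T : Z.ProEt} {U : X.ProEt} {a b : T ⟶ (ProEtS.bcP i).obj U}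
    (h : a.left ≫ pullback.fst U.hom i = b.left ≫ pullback.fst U.hom i) : a = b := by
  apply MorphismProperty.Over.Hom.ext
  refine pullback.hom_ext h ?_
  exact (MorphismProperty.Over.w a).trans (MorphismProperty.Over.w b).symm

/-- An affine object whose trace on the closed subscheme splits coverings, and such that morphisms out of it
are the morphisms out of its trace. -/
structure IsLift (V : X.ProEt) : Prop where
  isAffine : IsAffine V.left
  splits : ProEtWC.Splits ((ProEtS.bcP i).obj V)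
  bijective : ∀ U : X.ProEt, Function.Bijective (fun g : V ⟶ U => (ProEtS.bcP i).map g)

variable [IsClosedImmersion i]

/-- The lifts of w-contractible pieces are lifts. -/
theorem exists_isLift (Xa : X.Opens) (hXa : IsAffineOpen Xa) (B : Type u) [CommRing B]
    (hB : EtPBC.IsWContractible B) (w : Spec (CommRingCat.of B) ⟶ Z) [WeaklyEtale w] (hw : ∀ t, w t ∈ i ⁻¹ᵁ Xa) :
    ∃ V : X.ProEt, IsLift i V ∧ Nonempty ((Scheme.ProEt.mk w : Z.ProEt) ≅ (ProEtS.bcP i).obj V) := by
  obtain ⟨V, q, hVa, -, sq, hend, hlift⟩ := exists_lift_obj i Xa hXa B hB w hw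
  let T : Z.ProEt := Scheme.ProEt.mk w
  let e : T ≅ (ProEtS.bcP i).obj V := liftIso i sq
  haveI : IsAffine T.left := inferInstanceAs (IsAffine (Spec _))
  have hT : ProEtWC.Splits T := ProEtWC.splits_of_isWContractible
    (ProEtWC.isWContractible_of_ringEquiv (Scheme.ΓSpecIso (CommRingCat.of B)).commRingCatIsoToRingEquiv.symm hB)
  have he : ∀ {U : X.ProEt} (g : V ⟶ U),
      (e.hom ≫ (ProEtS.bcP i).map g).left ≫ pullback.fst U.hom i = q ≫ g.left := fun {U} g => by
    show (sq.isoPullback.hom ≫ ((ProEtS.bcP i).map g).left) ≫ pullback.fst U.hom i = _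
    refine (Category.assoc _ _ _).trans ((congrArg (sq.isoPullback.hom ≫ ·) (bcP_map_fst i g)).trans ?_)
    exact (Category.assoc _ _ _).symm.trans (congrArg (· ≫ g.left) sq.isoPullback_hom_fst)
  have hex : ∀ (U : X.ProEt) (φ : T ⟶ (ProEtS.bcP i).obj U),
      ∃ g : V ⟶ U, e.hom ≫ (ProEtS.bcP i).map g = φ := fun U φ => by
    let h : T.left ⟶ U.left := φ.left ≫ pullback.fst U.hom i
    have hh : h ≫ U.hom = w ≫ i := by
      show (φ.left ≫ pullback.fst U.hom i) ≫ U.hom = _
      rw [Category.assoc, pullback.condition, ← Category.assoc]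
      exact congrArg (· ≫ i) (MorphismProperty.Over.w φ)
    have hn : ∀ t : T.left, ∃ O : U.left.Opens, IsAffineOpen O ∧ h t ∈ O ∧ O ≤ U.hom ⁻¹ᵁ Xa := fun t => by
      refine exists_affine_nhd (W := U.hom ⁻¹ᵁ Xa) (x := h t) ?_
      have h1 : U.hom (h t) = i (w t) := (Scheme.Hom.comp_apply h U.hom t).symm.trans
        ((congrArg (fun m => m t) hh).trans (Scheme.Hom.comp_apply w i t))
      show U.hom (h t) ∈ Xa
      exact h1 ▸ hw t
    choose O hO htO hle using hn
    obtain ⟨n, W, -, hd, hc, hR⟩ := hT _ (ProEtWC.ofArrows_opens_mem (U := T) (fun t => h ⁻¹ᵁ O t)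
      (Set.eq_univ_of_forall fun t => Set.mem_iUnion.2 ⟨t, htO t⟩))
    have hk : ∀ k, ∃ t, W k ≤ h ⁻¹ᵁ O t := fun k => by
      obtain ⟨Y, a, b, ⟨t⟩, eab⟩ := hR k
      refine ⟨t, fun z hz => ?_⟩
      have e' : ((a ≫ ProEtWC.opIncl T (h ⁻¹ᵁ O t)).left) ⟨z, hz⟩ = z :=
        congrArg (fun f : ProEtWC.opObj T (W k) ⟶ T => f.left ⟨z, hz⟩) eab
      exact e' ▸ (a.left ⟨z, hz⟩).2
    choose t ht using hk
    let P : ULift.{u} (Fin n) → X.ProEt := fun k => ProEtWC.opObj U (O (t k.down))
    haveI : ∀ k, IsAffine (P k).left := fun k => hO _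
    let U' : X.ProEt := ProEtWC.sigmaObj P
    haveI : IsAffine U'.left := inferInstanceAs (IsAffine (∐ fun k => (P k).left))
    let out : U' ⟶ U := MorphismProperty.Over.homMk
        (Limits.Sigma.desc (f := fun k => (P k).left) fun (k : ULift.{u} (Fin n)) => (O (t k.down)).ι) (by
      show Limits.Sigma.desc (f := fun k => (P k).left) (fun (k : ULift.{u} (Fin n)) => (O (t k.down)).ι) ≫ U.hom =
        Limits.Sigma.desc fun k => (P k).hom
      exact Limits.Sigma.hom_ext _ _ fun k => by simp [P])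
    let c : ∀ k : Fin n, ProEtWC.opObj T (W k) ⟶ (ProEtS.bcP i).obj U' := fun k =>
      MorphismProperty.Over.homMk
        (pullback.lift (h.resLE (O (t k)) (W k) (ht k) ≫ Sigma.ι (fun k => (P k).left) ⟨k⟩) ((W k).ι ≫ w) (by
          show (_ ≫ _) ≫ Sigma.desc (fun k => (P k).hom) = _
          rw [Category.assoc, Sigma.ι_desc]
          show h.resLE (O (t k)) (W k) (ht k) ≫ (O (t k)).ι ≫ U.hom = _
          rw [Scheme.Hom.resLE_comp_ι_assoc, hh, Category.assoc]))
        (pullback.lift_snd _ _ _)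
    let hcol := ProEtWC.isColimitPieces (U := T) W hd hc
    let ψ : T ⟶ (ProEtS.bcP i).obj U' := Cofan.IsColimit.desc hcol c
    have hψk : ∀ k, ProEtWC.opIncl T (W k) ≫ ψ = c k := fun k => Cofan.IsColimit.fac hcol c k
    have hψ : ψ ≫ (ProEtS.bcP i).map out = φ := by
      refine Cofan.IsColimit.hom_ext hcol _ _ fun k => ?_
      show ProEtWC.opIncl T (W k) ≫ ψ ≫ _ = ProEtWC.opIncl T (W k) ≫ φ
      rw [← Category.assoc, hψk]
      refine bc_hom_ext i ?_
      show ((c k).left ≫ ((ProEtS.bcP i).map out).left) ≫ pullback.fst U.hom i =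
        ((W k).ι ≫ φ.left) ≫ pullback.fst U.hom i
      refine (Category.assoc _ _ _).trans ((congrArg ((c k).left ≫ ·) (bcP_map_fst i out)).trans ?_)
      refine ((Category.assoc _ _ _).symm.trans (congrArg (· ≫ out.left) (pullback.lift_fst _ _ _))).trans ?_
      refine (Category.assoc _ _ _).trans ((congrArg (h.resLE (O (t k)) (W k) (ht k) ≫ ·)
        (Sigma.ι_desc (f := fun k => (P k).left) (fun k : ULift.{u} (Fin n) => (O (t k.down)).ι) ⟨k⟩)).trans ?_)
      rw [Scheme.Hom.resLE_comp_ι]
      exact (Category.assoc _ _ _).symm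
    let h' : T.left ⟶ U'.left := ψ.left ≫ pullback.fst U'.hom i
    have hh' : h' ≫ U'.hom = w ≫ i := by
      show (ψ.left ≫ pullback.fst U'.hom i) ≫ U'.hom = _
      rw [Category.assoc, pullback.condition, ← Category.assoc]
      exact congrArg (· ≫ i) (MorphismProperty.Over.w ψ)
    have hle' : (⊤ : U'.left.Opens) ≤ U'.hom ⁻¹ᵁ Xa := fun z _ => by
      obtain ⟨k, y, rfl⟩ := (sigmaOpenCover fun k => (P k).left).exists_eq z
      have h1 : (Limits.Sigma.desc fun k => (P k).hom) (Sigma.ι (fun k => (P k).left) k y) = (P k).hom y :=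
        (Scheme.Hom.comp_apply _ _ y).symm.trans (congrArg (fun m : (P k).left ⟶ X => m y) (Sigma.ι_desc (fun k => (P k).hom) k))
      show (Limits.Sigma.desc fun k => (P k).hom) (Sigma.ι (fun k => (P k).left) k y) ∈ Xa
      exact h1.symm ▸ hle (t k.down) y.2
    obtain ⟨g', hg'⟩ := hlift U' ⊤ (isAffineOpen_top _) hle' (h' ≫ U'.left.topIso.inv) (by
      refine Eq.trans ?_ hh'
      refine (Category.assoc _ _ _).trans (congrArg (h' ≫ ·) ?_)
      exact (Category.assoc _ _ _).symm.trans ((congrArg (· ≫ U'.hom) U'.left.topIso.inv_hom_id).trans (Category.id_comp _)))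
    refine ⟨g' ≫ out, ?_⟩
    have hg1 : e.hom ≫ (ProEtS.bcP i).map g' = ψ := by
      refine bc_hom_ext i ((he g').trans (hg'.trans ?_))
      rw [Category.assoc]
      exact (congrArg (h' ≫ ·) (U'.left.topIso.inv_hom_id)).trans (Category.comp_id _)
    rw [Functor.map_comp, ← Category.assoc, hg1, hψ]
  refine ⟨V, ⟨hVa, ?_, fun U => ⟨fun g g' hgg => ?_, fun φ => ?_⟩⟩, ⟨e⟩⟩
  · haveI : IsAffine ((ProEtS.bcP i).obj V).left := IsAffine.of_isIso sq.isoPullback.inv
    refine ProEtWC.splits_of_isWContractible (ProEtWC.isWContractible_of_ringEquiv ?_ hB)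
    exact (Scheme.ΓSpecIso (CommRingCat.of B)).commRingCatIsoToRingEquiv.symm.trans
      (asIso (sq.isoPullback.inv.appTop)).commRingCatIsoToRingEquiv
  · have hq : q ≫ g.left = q ≫ g'.left := by
      rw [← he g, ← he g']
      exact congrArg (fun m => (e.hom ≫ m).left ≫ pullback.fst U.hom i) hgg
    haveI : WeaklyEtale U.hom := U.prop
    haveI : WeaklyEtale (pullback.diagonal U.hom) := by
      haveI : WeaklyEtale (pullback.diagonal U.hom ≫ pullback.fst U.hom U.hom) := by
        rw [pullback.diagonal_fst]; infer_instance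
      exact WeaklyEtale.of_comp _ (pullback.fst U.hom U.hom)
    let pr : V.left ⟶ pullback.diagonalObj U.hom := pullback.lift g.left g'.left
      ((MorphismProperty.Over.w g).trans (MorphismProperty.Over.w g').symm)
    haveI : WeaklyEtale (pullback.fst pr (pullback.diagonal U.hom)) :=
      MorphismProperty.pullback_fst (P := @WeaklyEtale) _ _ inferInstance
    haveI : WeaklyEtale V.hom := V.prop
    let E : X.ProEt := Scheme.ProEt.mk (pullback.fst pr (pullback.diagonal U.hom) ≫ V.hom)
    let p : E ⟶ V := MorphismProperty.Over.homMk (pullback.fst pr (pullback.diagonal U.hom))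
    let hE : T.left ⟶ E.left := pullback.lift q (q ≫ g.left) (by
      apply pullback.hom_ext
      · rw [Category.assoc, Category.assoc, pullback.lift_fst, pullback.diagonal_fst, Category.comp_id]
      · rw [Category.assoc, Category.assoc, pullback.lift_snd, pullback.diagonal_snd, Category.comp_id, hq])
    have hhE : hE ≫ E.hom = w ≫ i := by
      show hE ≫ _ ≫ V.hom = _
      rw [pullback.lift_fst_assoc]
      exact sq.w
    obtain ⟨s, hs⟩ := hex E (MorphismProperty.Over.homMk (pullback.lift hE w hhE) (pullback.lift_snd _ _ _))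
    have hsq : q ≫ s.left = hE := by
      rw [← he s, hs]
      exact pullback.lift_fst _ _ _
    have hm : s ≫ p = 𝟙 V := hend _ (by
      show q ≫ s.left ≫ pullback.fst pr (pullback.diagonal U.hom) = q
      rw [← Category.assoc, hsq, pullback.lift_fst])
    have hpg : p ≫ g = p ≫ g' := by
      apply MorphismProperty.Over.Hom.ext
      show pullback.fst pr (pullback.diagonal U.hom) ≫ g.left = pullback.fst pr (pullback.diagonal U.hom) ≫ g'.left
      have hc := pullback.condition (f := pr) (g := pullback.diagonal U.hom)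
      have h1 := congrArg (· ≫ pullback.fst U.hom U.hom) hc
      have h2 := congrArg (· ≫ pullback.snd U.hom U.hom) hc
      simp only [Category.assoc, pr, pullback.lift_fst, pullback.lift_snd, pullback.diagonal_fst,
        pullback.diagonal_snd, Category.comp_id] at h1 h2
      exact h1.trans h2.symm
    calc g = (s ≫ p) ≫ g := by rw [hm, Category.id_comp]
      _ = (s ≫ p) ≫ g' := by rw [Category.assoc, hpg, ← Category.assoc]
      _ = g' := by rw [hm, Category.id_comp]
  · obtain ⟨g, hg⟩ := hex U (e.hom ≫ φ)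
    exact ⟨g, (cancel_epi e.hom).1 hg⟩

/-- Traces of lifts form a dense family. -/
theorem isLift_cover (W : Z.ProEt) :
    Sieve.generate (fun T (g : T ⟶ W) => ∃ V : X.ProEt, IsLift i V ∧ Nonempty (T ≅ (ProEtS.bcP i).obj V)) ∈
      Scheme.ProEt.topology Z W := by
  have hx : ∀ x : W.left, ∃ (O : W.left.Opens) (Xa : X.Opens), IsAffineOpen O ∧ IsAffineOpen Xa ∧ x ∈ O ∧
      O ≤ W.hom ⁻¹ᵁ (i ⁻¹ᵁ Xa) := fun x => by
    obtain ⟨Xa, hXa, hyX, -⟩ := exists_affine_nhd (U := X) (x := i (W.hom x)) (W := ⊤) trivial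
    obtain ⟨O, hO, hxO, hle⟩ := exists_affine_nhd (W := W.hom ⁻¹ᵁ (i ⁻¹ᵁ Xa)) (x := x) hyX
    exact ⟨O, Xa, hO, hXa, hxO, hle⟩
  choose O Xa hO hXa hxO hle using hx
  obtain ⟨B, _, f, hf, hB, hmem⟩ := exists_wc_cover W O hO hxO
  refine GrothendieckTopology.superset_covering _ ?_ hmem
  rw [Sieve.ofArrows, Sieve.generate_le_iff]
  rintro T g ⟨x⟩
  haveI := hf x
  obtain ⟨V, hV, e⟩ := exists_isLift i (Xa x) (hXa x) (B x) (hB x) (f x ≫ (O x).ι ≫ W.hom)
    (fun t => hle x (f x t).2)
  exact Sieve.le_generate _ _ _ ⟨V, hV, e⟩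

end Groth.Agent.ProEtFull
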