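import Groth.Agent.S13617
import Groth.Agent.ProEtFull.EpsExact

/-!
# Images in a system of locally constant sheaves with Artinian stalks stabilise
-/

set_option autoImplicit false
set_option linter.style.haveILetI false
set_option backward.isDefEq.respectTransparency false
set_option backward.isDefEq.respectTransparency.types false
set_option maxHeartbeats 1000000
universe u

namespace Groth.Agent.ProEtFull

open CategoryTheory Limits AlgebraicGeometry Opposite Groth.Agent Groth.Agent.FLCLib Groth.Agent.EtPtsLib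
  Groth.Agent.S6644 Groth.Agent.S6646 Groth.Agent.S13613

theorem isArtinian_of_pow_killed {Λ : Type (u + 1)} [CommRing Λ] [IsNoetherianRing Λ] (I : Ideal Λ)
    [IsArtinianRing (Λ ⧸ I)] (k : ℕ) : ∀ (M : Type (u + 1)) [AddCommGroup M] [Module Λ M] [Module.Finite Λ M],
    (∀ a ∈ I ^ k, ∀ m : M, a • m = 0) → IsArtinian Λ M := by
  induction k with
  | zero =>
    intro M _ _ _ h
    haveI : Subsingleton M := ⟨fun a b => by
      rw [← one_smul Λ a, ← one_smul Λ b, h 1 (by simp) a, h 1 (by simp) b]⟩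
    infer_instance
  | succ k ih =>
    intro M _ _ _ h
    let N : Submodule Λ M := I • ⊤
    haveI : Module.Finite Λ ↥N := Module.Finite.iff_fg.2 (IsNoetherian.noetherian N)
    haveI : IsArtinian Λ ↥N := ih ↥N fun a ha n => by
      apply Subtype.ext
      show a • (n : M) = 0
      refine Submodule.smul_induction_on n.2 (fun r hr m _ => ?_) (fun x y hx hy => by rw [smul_add, hx, hy, add_zero])
      rw [smul_smul]
      exact h _ (by rw [pow_succ]; exact Ideal.mul_mem_mul ha hr) m
    haveI : IsArtinian (Λ ⧸ I) (M ⧸ N) := by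
      haveI : Module.Finite (Λ ⧸ I) (M ⧸ N) := Module.Finite.of_restrictScalars_finite Λ (Λ ⧸ I) (M ⧸ N)
      infer_instance
    haveI : IsArtinian Λ (M ⧸ N) :=
      isArtinian_of_surjective_algebraMap (R := Λ ⧸ I) Ideal.Quotient.mk_surjective
    exact isArtinian_of_range_eq_ker N.subtype N.mkQ (by rw [Submodule.range_subtype, Submodule.ker_mkQ])

variable {Λ : Type (u + 1)} [CommRing Λ] [IsNoetherianRing Λ] {X : Scheme.{u}} [IsNoetherian X]

/-- A map of locally constant sheaves vanishing on the stalks at the generic points is zero. -/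
theorem eq_zero_of_generic {F G : EtModW.Mod Λ X} (hF : EtModW.IsFTLocConst Λ F) (hG : EtModW.IsFTLocConst Λ G)
    (φ : F ⟶ G) (h : ∀ Z ∈ irreducibleComponents X, ∀ η, IsGenericPoint η Z →
      ∀ z, stk (geomPtAlg η) φ z = 0) : φ = 0 := by
  have hK := (isFTLocConst_ker_coker φ hF hG).1
  haveI : Sheaf.IsLocallySurjective (kernel.ι φ) := SitePts.isLocallySurjective (detects X) (kernel.ι φ).hom fun x => by
    obtain ⟨η, hη⟩ := QuasiSober.sober (isIrreducible_irreducibleComponent (x := x)) isClosed_irreducibleComponent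
    have hs : (geomPtAlg η) default ⤳ (geomPt x) default := by
      rw [geomPtAlg_default, geomPt_default]
      exact hη.specializes mem_irreducibleComponent
    refine (S13617.conj_of_specializes (Λ := Λ) (geomPtAlg η) (geomPt x) hs _ _ hK hF (kernel.ι φ)).2.1 fun z => ?_
    exact stk_exact (geomPtAlg η) (kernel.ι φ) φ (kernel.condition φ) (ShortComplex.exact_kernel φ) z
      (h _ (irreducibleComponent_mem_irreducibleComponents x) η hη z)
  haveI : Epi (kernel.ι φ) := inferInstance
  rw [← cancel_epi (kernel.ι φ), kernel.condition, comp_zero]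

theorem exists_imLE_stable {I : Ideal Λ} [IsArtinianRing (Λ ⧸ I)] (F : ARSys.PS (EtModW.Mod Λ X))
    (hk : ARSys.TermKilled I F) (hF : ∀ n : ℕ, EtModW.IsFTLocConst Λ (F.obj (op n))) (n : ℕ) :
    ∃ r, ∀ s, r ≤ s → ARSysLib.ImLE (ARSysLib.sm F r n) (ARSysLib.sm F s n) := by
  have hstab : ∀ η : X, ∃ r, ∀ s, r ≤ s → LinearMap.range (stk (geomPtAlg η) (ARSysLib.sm F r n)) ≤
      LinearMap.range (stk (geomPtAlg η) (ARSysLib.sm F s n)) := fun η => by
    let T := EtModW.stalk Λ (geomPtAlg η)
    haveI : Module.Finite Λ (T.obj (F.obj (op n))) := by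
      obtain ⟨W, l, M, hM, a, ha⟩ := constNear_of (hF n) ((geomPtAlg η) default)
      obtain ⟨l', -⟩ := Scheme.pointSmallEtaleFiberObjToPreimage_surjective (geomPtAlg η) rfl W
        ⟨liftHom (geomPt ((geomPtAlg η) default)) l default,
          (congrArg (fun q : Spec (CommRingCat.of (SeparableClosure (X.residueField ((geomPtAlg η) default)))) ⟶ X => q default)
            (liftHom_comp (geomPt ((geomPtAlg η) default)) l)).trans (geomPt_default _)⟩
      exact Module.Finite.equiv (LinearEquiv.ofBijective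
        (((Scheme.pointSmallEtale (geomPtAlg η)).toPresheafFiber W l' (F.obj (op n)).obj).hom ∘ₗ a.hom)
        (ha _ (geomPtAlg η) l'))
    haveI : IsArtinian Λ (T.obj (F.obj (op n))) := isArtinian_of_pow_killed I (n + 1) _ fun a ha z =>
      LinearMap.congr_fun (congrArg ModuleCat.Hom.hom (killedBy_map (geomPtAlg η) (hk n) a ha)) z
    let R : ℕ →o (Submodule Λ (T.obj (F.obj (op n))))ᵒᵈ :=
      ⟨fun s => OrderDual.toDual (LinearMap.range (stk (geomPtAlg η) (ARSysLib.sm F s n))), fun a b hab => by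
        show LinearMap.range (stk (geomPtAlg η) (ARSysLib.sm F b n)) ≤ _
        rintro _ ⟨z, rfl⟩
        refine ⟨stk (geomPtAlg η) (ARSys.tr F (Nat.add_le_add_left hab n)) z, ?_⟩
        rw [← stk_comp]
        exact LinearMap.congr_fun (congrArg (fun t => ((EtModW.stalk Λ (geomPtAlg η)).map t).hom)
          (ARSysLib.tr_tr F _ _)) z⟩
    obtain ⟨r, hr⟩ := IsArtinian.monotone_stabilizes R
    exact ⟨r, fun s hs => le_of_eq (OrderDual.toDual.injective (hr s hs))⟩
  choose ρ hρ using hstab
  have hfin := TopologicalSpace.NoetherianSpace.finite_irreducibleComponents (α := X)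
  choose g hg using fun Z : {Z // Z ∈ irreducibleComponents X} =>
    QuasiSober.sober Z.2.1 (isClosed_of_mem_irreducibleComponents _ Z.2)
  haveI := hfin.fintype
  refine ⟨Finset.univ.sup fun Z : {Z // Z ∈ irreducibleComponents X} => ρ (g Z), fun s hs => ?_⟩
  refine ARSysLib.imLE_of_cokernel (eq_zero_of_generic (hF _)
    (isFTLocConst_ker_coker (ARSysLib.sm F s n) (hF _) (hF _)).2 _ fun Z hZ η hη z => ?_)
  have hηg : η = g ⟨Z, hZ⟩ := hη.eq (hg ⟨Z, hZ⟩)
  subst hηg
  have h1 : ρ (g ⟨Z, hZ⟩) ≤ Finset.univ.sup fun Z : {Z // Z ∈ irreducibleComponents X} => ρ (g Z) :=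
    Finset.le_sup (f := fun Z : {Z // Z ∈ irreducibleComponents X} => ρ (g Z))
      (Finset.mem_univ (⟨Z, hZ⟩ : {Z // Z ∈ irreducibleComponents X}))
  let η := g ⟨Z, hZ⟩
  let r := Finset.univ.sup fun Z : {Z // Z ∈ irreducibleComponents X} => ρ (g Z)
  have h2 : stk (geomPtAlg η) (ARSysLib.sm F r n) z ∈ LinearMap.range (stk (geomPtAlg η) (ARSysLib.sm F (ρ η) n)) := by
    refine ⟨stk (geomPtAlg η) (ARSys.tr F (Nat.add_le_add_left h1 n)) z, ?_⟩
    rw [← stk_comp]
    exact LinearMap.congr_fun (congrArg (fun t => ((EtModW.stalk Λ (geomPtAlg η)).map t).hom)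
      (ARSysLib.tr_tr F _ _)) z
  obtain ⟨w, hw⟩ := hρ η s (h1.trans hs) h2
  refine (stk_comp _ _ _ z).trans ?_
  rw [← hw, ← stk_comp, cokernel.condition]
  show ((EtModW.stalk Λ (geomPtAlg η)).map 0).hom w = 0
  rw [Functor.map_zero]
  rfl

end Groth.Agent.ProEtFull
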