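import Groth.Agent.ProEtFull.Lifts

/-!
# Clopen pieces of lifts
-/

set_option autoImplicit false
set_option linter.style.haveILetI false
set_option backward.isDefEq.respectTransparency false
set_option backward.isDefEq.respectTransparency.types false
set_option maxHeartbeats 1000000
universe u

noncomputable section

namespace Groth.Agent.ProEtFull

open CategoryTheory Limits AlgebraicGeometry Opposite ProEtWC

variable {Z X : Scheme.{u}}

theorem eq_of_mem_range_sigmaι {ι : Type u} (P : ι → X.ProEt) {a b : ι} {z : (sigmaObj P).left}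
    (ha : z ∈ Set.range (sigmaIncl P a).left) (hb : z ∈ Set.range (sigmaIncl P b).left) : a = b := by
  by_contra h
  exact Set.disjoint_left.1
    (TopologicalSpace.Opens.coe_disjoint.2 (disjoint_opensRange_sigmaι (fun i => (P i).left) a b h)) ha hb

theorem exists_mem_range_sigmaι {ι : Type u} (P : ι → X.ProEt) (z : (sigmaObj P).left) :
    ∃ a, z ∈ Set.range (sigmaIncl P a).left := by
  obtain ⟨a, y, rfl⟩ := (sigmaOpenCover fun i => (P i).left).exists_eq z
  exact ⟨a, y, rfl⟩

/-- The map of sums induced by a map of index sets and maps of the summands. -/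
def sigmaMapIdx {ι κ : Type u} (P : ι → X.ProEt) (Q : κ → X.ProEt) (f : ι → κ) (m : ∀ a, P a ⟶ Q (f a)) :
    sigmaObj P ⟶ sigmaObj Q :=
  MorphismProperty.Over.homMk (Limits.Sigma.desc fun a => (m a).left ≫ (sigmaIncl Q (f a)).left) (by
    show Limits.Sigma.desc (fun a => (m a).left ≫ (sigmaIncl Q (f a)).left) ≫ (sigmaObj Q).hom =
      Limits.Sigma.desc fun a => (P a).hom
    refine Limits.Sigma.hom_ext _ _ fun a => ?_
    rw [Sigma.ι_desc_assoc, Sigma.ι_desc, Category.assoc, MorphismProperty.Over.w (sigmaIncl Q (f a))]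
    exact MorphismProperty.Over.w (m a))

theorem sigmaIncl_mapIdx {ι κ : Type u} (P : ι → X.ProEt) (Q : κ → X.ProEt) (f : ι → κ)
    (m : ∀ a, P a ⟶ Q (f a)) (a : ι) :
    sigmaIncl P a ≫ sigmaMapIdx P Q f m = m a ≫ sigmaIncl Q (f a) :=
  MorphismProperty.Over.Hom.ext (Sigma.ι_desc _ a)

theorem mem_range_of_mapIdx {ι κ : Type u} (P : ι → X.ProEt) (Q : κ → X.ProEt) (f : ι → κ)
    (m : ∀ a, P a ⟶ Q (f a)) (z : (sigmaObj P).left) (a : ι) (h : z ∈ Set.range (sigmaIncl P a).left) :
    (sigmaMapIdx P Q f m).left z ∈ Set.range (sigmaIncl Q (f a)).left := by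
  obtain ⟨y, rfl⟩ := h
  exact ⟨(m a).left y, (congrArg (fun g : P a ⟶ sigmaObj Q => g.left y) (sigmaIncl_mapIdx P Q f m a)).symm⟩

variable (i : Z ⟶ X) [IsClosedImmersion i] {V : X.ProEt} (hV : IsLift i V) {n : ℕ}
  {W : Fin n → ((ProEtS.bcP i).obj V).left.Opens}
  (hd : Pairwise (fun k l => Disjoint (W k : Set ((ProEtS.bcP i).obj V).left) (W l)))
  (hc : (⋃ k, (W k : Set ((ProEtS.bcP i).obj V).left)) = Set.univ)

include hV hd hc

/-- Decompositions of the trace come from decompositions of the lift. -/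
theorem exists_decomposition :
    ∃ W' : Fin n → V.left.Opens, Pairwise (fun k l => Disjoint (W' k : Set V.left) (W' l)) ∧
      (⋃ k, (W' k : Set V.left)) = Set.univ ∧ ∀ k, pullback.fst V.hom i ⁻¹ᵁ W' k = W k := by
  let T : ULift.{u} (Fin n) → X.ProEt := fun _ => ProEtS.topP X
  let hcol := isColimitPieces (U := (ProEtS.bcP i).obj V) W hd hc
  let c : ∀ k : Fin n, opObj ((ProEtS.bcP i).obj V) (W k) ⟶ (ProEtS.bcP i).obj (sigmaObj T) := fun k =>
    MorphismProperty.Over.homMk
      (pullback.lift ((W k).ι ≫ pullback.fst V.hom i ≫ V.hom ≫ (sigmaIncl T ⟨k⟩).left)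
        ((W k).ι ≫ pullback.snd V.hom i) (by
          rw [Category.assoc, Category.assoc, Category.assoc, MorphismProperty.Over.w (sigmaIncl T ⟨k⟩)]
          show (W k).ι ≫ pullback.fst V.hom i ≫ V.hom ≫ 𝟙 X = _
          exact (congrArg ((W k).ι ≫ ·) ((congrArg (pullback.fst V.hom i ≫ ·) (Category.comp_id V.hom)).trans
            pullback.condition))))
      (pullback.lift_snd _ _ _)
  obtain ⟨σ, hσ⟩ := (hV.bijective (sigmaObj T)).2 (Cofan.IsColimit.desc hcol c)
  have hσk : ∀ k, opIncl _ (W k) ≫ (ProEtS.bcP i).map σ = c k := fun k => by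
    have hσ' : (ProEtS.bcP i).map σ = Cofan.IsColimit.desc hcol c := hσ
    rw [hσ']
    exact Cofan.IsColimit.fac hcol c k
  let W' : Fin n → V.left.Opens := fun k => σ.left ⁻¹ᵁ (Limits.Sigma.ι (fun b => (T b).left) ⟨k⟩).opensRange
  have hmem : ∀ (k : Fin n) (z : ((ProEtS.bcP i).obj V).left), z ∈ W k → pullback.fst V.hom i z ∈ W' k := by
    intro k z hz
    have h1 : (W k).ι ≫ pullback.fst V.hom i ≫ σ.left =
        (W k).ι ≫ pullback.fst V.hom i ≫ V.hom ≫ (sigmaIncl T ⟨k⟩).left := by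
      refine (congrArg ((W k).ι ≫ ·) (bcP_map_fst i σ).symm).trans ?_
      refine (Category.assoc _ _ _).symm.trans ?_
      refine (congrArg (fun g : opObj ((ProEtS.bcP i).obj V) (W k) ⟶ (ProEtS.bcP i).obj (sigmaObj T) =>
        g.left ≫ pullback.fst (sigmaObj T).hom i) (hσk k)).trans ?_
      exact pullback.lift_fst _ _ _
    exact ⟨V.hom (pullback.fst V.hom i z),
      (congrArg (fun g : (W k).toScheme ⟶ (sigmaObj T).left => g ⟨z, hz⟩) h1).symm⟩
  refine ⟨W', fun k l hkl => Set.disjoint_left.2 fun z hz hz' => hkl (congrArg ULift.down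
      (eq_of_mem_range_sigmaι T (z := σ.left z) (a := ⟨k⟩) (b := ⟨l⟩) hz hz')),
    Set.eq_univ_of_forall fun z => ?_, fun k => ?_⟩
  · obtain ⟨a, ha⟩ := exists_mem_range_sigmaι T (σ.left z)
    exact Set.mem_iUnion.2 ⟨a.down, ha⟩
  · ext z
    refine ⟨fun hz => ?_, fun hz => hmem k z hz⟩
    obtain ⟨l, hl⟩ := Set.mem_iUnion.1 (hc.symm ▸ Set.mem_univ z)
    obtain rfl : l = k := congrArg ULift.down
      (eq_of_mem_range_sigmaι T (z := σ.left (pullback.fst V.hom i z)) (a := ⟨l⟩) (b := ⟨k⟩) (hmem l z hl) hz)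
    exact hl

variable {W' : Fin n → V.left.Opens} (hd' : Pairwise (fun k l => Disjoint (W' k : Set V.left) (W' l)))
  (hc' : (⋃ k, (W' k : Set V.left)) = Set.univ) (ht : ∀ k, pullback.fst V.hom i ⁻¹ᵁ W' k = W k)

omit hV hd hc in
include ht in
/-- The trace of a piece is the piece of the trace. -/
theorem exists_pieceIso (k : Fin n) :
    ∃ a : opObj ((ProEtS.bcP i).obj V) (W k) ≅ (ProEtS.bcP i).obj (opObj V (W' k)),
      a.hom ≫ (ProEtS.bcP i).map (opIncl V (W' k)) = opIncl _ (W k) := by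
  let hle : W k ≤ pullback.fst V.hom i ⁻¹ᵁ W' k := (ht k).ge
  let f : opObj ((ProEtS.bcP i).obj V) (W k) ⟶ (ProEtS.bcP i).obj (opObj V (W' k)) :=
    MorphismProperty.Over.homMk
      (pullback.lift ((pullback.fst V.hom i).resLE (W' k) (W k) hle) ((W k).ι ≫ pullback.snd V.hom i) (by
        show (pullback.fst V.hom i).resLE (W' k) (W k) hle ≫ (W' k).ι ≫ V.hom = _
        rw [Scheme.Hom.resLE_comp_ι_assoc, pullback.condition]
        exact (Category.assoc _ _ _).symm))
      (pullback.lift_snd _ _ _)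
  have hf : f ≫ (ProEtS.bcP i).map (opIncl V (W' k)) = opIncl _ (W k) := by
    refine bc_hom_ext i ?_
    show (f.left ≫ ((ProEtS.bcP i).map (opIncl V (W' k))).left) ≫ pullback.fst V.hom i = _
    refine (Category.assoc _ _ _).trans ((congrArg (f.left ≫ ·) (bcP_map_fst i (opIncl V (W' k)))).trans ?_)
    refine ((Category.assoc _ _ _).symm.trans (congrArg (· ≫ (W' k).ι) (pullback.lift_fst _ _ _))).trans ?_
    exact Scheme.Hom.resLE_comp_ι _ _
  let P := (ProEtS.bcP i).obj (opObj V (W' k))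
  let b : P ⟶ (ProEtS.bcP i).obj V := (ProEtS.bcP i).map (opIncl V (W' k))
  have hr : Set.range b.left ⊆ Set.range (W k).ι := by
    rintro _ ⟨z, rfl⟩
    rw [Scheme.Opens.range_ι]
    show b.left z ∈ W k
    rw [← ht k]
    have h1 : pullback.fst V.hom i (b.left z) = (W' k).ι (pullback.fst (opObj V (W' k)).hom i z) :=
      (Scheme.Hom.comp_apply _ _ z).symm.trans ((congrArg (fun g : P.left ⟶ V.left => g z)
        (bcP_map_fst i (opIncl V (W' k)))).trans (Scheme.Hom.comp_apply _ _ z))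
    show pullback.fst V.hom i (b.left z) ∈ W' k
    exact h1 ▸ (pullback.fst (opObj V (W' k)).hom i z).2
  let g : P ⟶ opObj ((ProEtS.bcP i).obj V) (W k) :=
    MorphismProperty.Over.homMk (IsOpenImmersion.lift (W k).ι b.left hr) (by
      show IsOpenImmersion.lift (W k).ι b.left hr ≫ (W k).ι ≫ _ = _
      rw [IsOpenImmersion.lift_fac_assoc]
      exact MorphismProperty.Over.w b)
  have hg : g ≫ opIncl _ (W k) = b := MorphismProperty.Over.Hom.ext (IsOpenImmersion.lift_fac _ _ _)
  refine ⟨⟨f, g, ?_, ?_⟩, hf⟩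
  · apply MorphismProperty.Over.Hom.ext
    show f.left ≫ g.left = 𝟙 _
    rw [← cancel_mono (W k).ι, Category.id_comp, Category.assoc]
    exact (congrArg (f.left ≫ ·) (congrArg (fun m : P ⟶ (ProEtS.bcP i).obj V => m.left) hg)).trans
      (congrArg (fun m : opObj ((ProEtS.bcP i).obj V) (W k) ⟶ (ProEtS.bcP i).obj V => m.left) hf)
  · refine bc_hom_ext i ?_
    rw [← cancel_mono (W' k).ι]
    have h1 : (g ≫ f) ≫ (ProEtS.bcP i).map (opIncl V (W' k)) = b := by rw [Category.assoc, hf, hg]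
    have h2 := congrArg (fun m : P ⟶ (ProEtS.bcP i).obj V => m.left ≫ pullback.fst V.hom i) h1
    refine Eq.trans ?_ (Eq.trans h2 ?_)
    · show ((g ≫ f).left ≫ pullback.fst (opObj V (W' k)).hom i) ≫ (W' k).ι = _
      refine (Category.assoc _ _ _).trans ?_
      refine (congrArg ((g ≫ f).left ≫ ·) (bcP_map_fst i (opIncl V (W' k))).symm).trans ?_
      exact (Category.assoc _ _ _).symm
    · refine (bcP_map_fst i (opIncl V (W' k))).trans ?_
      show _ = (𝟙 P.left ≫ pullback.fst (opObj V (W' k)).hom i) ≫ (W' k).ι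
      rw [Category.id_comp]
      rfl

include hd' hc' ht in
/-- Morphisms out of a piece are the morphisms out of its trace. -/
theorem bijective_map_piece (k : Fin n) (U : X.ProEt) :
    Function.Bijective (fun g : opObj V (W' k) ⟶ U => (ProEtS.bcP i).map g) := by
  choose a ha using exists_pieceIso i ht
  let Q : ULift.{u} Bool → X.ProEt := fun b => bif b.down then U else V
  let hcol := isColimitPieces (U := (ProEtS.bcP i).obj V) W hd hc
  let hcol' := isColimitPieces (U := V) W' hd' hc'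
  refine ⟨fun g g' hgg => ?_, fun φ => ?_⟩
  · let c : (opObj V (W' k) ⟶ U) → ∀ l, opObj V (W' l) ⟶ sigmaObj Q := fun g l =>
      if h : l = k then eqToHom (by rw [h]) ≫ g ≫ sigmaIncl Q ⟨true⟩
      else opIncl V (W' l) ≫ sigmaIncl Q ⟨false⟩
    have hck : ∀ g, c g k = g ≫ sigmaIncl Q ⟨true⟩ := fun g => by simp [c]
    have e : Cofan.IsColimit.desc hcol' (c g) = Cofan.IsColimit.desc hcol' (c g') := by
      refine (hV.bijective _).1 (Cofan.IsColimit.hom_ext hcol _ _ fun l => ?_)
      show opIncl _ (W l) ≫ (ProEtS.bcP i).map _ = opIncl _ (W l) ≫ (ProEtS.bcP i).map _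
      rw [← ha l, Category.assoc, Category.assoc, ← Functor.map_comp, ← Functor.map_comp]
      refine congrArg ((a l).hom ≫ ·) ?_
      refine (congrArg (ProEtS.bcP i).map (Cofan.IsColimit.fac hcol' (c g) l)).trans (Eq.trans ?_
        (congrArg (ProEtS.bcP i).map (Cofan.IsColimit.fac hcol' (c g') l)).symm)
      by_cases h : l = k
      · subst h
        rw [hck, hck, Functor.map_comp, Functor.map_comp]
        exact congrArg (· ≫ _) hgg
      · simp [c, h]
    have e' := congrArg (opIncl V (W' k) ≫ ·) e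
    have e'' : g ≫ sigmaIncl Q ⟨true⟩ = g' ≫ sigmaIncl Q ⟨true⟩ := by
      rw [← hck, ← hck]
      exact (Cofan.IsColimit.fac hcol' (c g) k).symm.trans (e'.trans (Cofan.IsColimit.fac hcol' (c g') k))
    exact MorphismProperty.Over.Hom.ext ((cancel_mono (Limits.Sigma.ι (fun b => (Q b).left) ⟨true⟩)).1
      (congrArg (fun m : opObj V (W' k) ⟶ sigmaObj Q => m.left) e''))
  · let d : ∀ l, opObj ((ProEtS.bcP i).obj V) (W l) ⟶ (ProEtS.bcP i).obj (sigmaObj Q) := fun l =>
      if h : l = k then (a l).hom ≫ eqToHom (by rw [h]) ≫ φ ≫ (ProEtS.bcP i).map (sigmaIncl Q ⟨true⟩)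
      else opIncl _ (W l) ≫ (ProEtS.bcP i).map (sigmaIncl Q ⟨false⟩)
    obtain ⟨γ, hγ⟩ := (hV.bijective (sigmaObj Q)).2 (Cofan.IsColimit.desc hcol d)
    have hγ' : (ProEtS.bcP i).map γ = Cofan.IsColimit.desc hcol d := hγ
    have hγl : ∀ l, opIncl _ (W l) ≫ (ProEtS.bcP i).map γ = d l := fun l => by
      rw [hγ']; exact Cofan.IsColimit.fac hcol d l
    have hdk : d k = (a k).hom ≫ φ ≫ (ProEtS.bcP i).map (sigmaIncl Q ⟨true⟩) := by simp [d]
    -- the indicator of the piece
    let S : ULift.{u} Bool → X.ProEt := fun _ => ProEtS.topP X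
    let toTop : ∀ A : X.ProEt, A ⟶ ProEtS.topP X := fun A => MorphismProperty.Over.homMk A.hom (Category.comp_id _)
    have hTop : ∀ {A : X.ProEt} (u v : A ⟶ ProEtS.topP X), u = v := fun {A} u v => by
      apply MorphismProperty.Over.Hom.ext
      have hu : u.left ≫ 𝟙 X = A.hom := MorphismProperty.Over.w u
      have hv : v.left ≫ 𝟙 X = A.hom := MorphismProperty.Over.w v
      exact (Category.comp_id _).symm.trans (hu.trans (hv.symm.trans (Category.comp_id _)))
    let proj : sigmaObj Q ⟶ sigmaObj S := sigmaMapIdx Q S id fun b => toTop (Q b)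
    let ind : ∀ l, opObj V (W' l) ⟶ sigmaObj S := fun l =>
      if l = k then toTop _ ≫ sigmaIncl S ⟨true⟩ else toTop _ ≫ sigmaIncl S ⟨false⟩
    let δ : V ⟶ sigmaObj S := Cofan.IsColimit.desc hcol' ind
    have hproj : γ ≫ proj = δ := by
      refine (hV.bijective _).1 (Cofan.IsColimit.hom_ext hcol _ _ fun l => ?_)
      show opIncl _ (W l) ≫ (ProEtS.bcP i).map (γ ≫ proj) = opIncl _ (W l) ≫ (ProEtS.bcP i).map δ
      refine Eq.trans ?_ (((congrArg (fun m : opObj V (W' l) ⟶ sigmaObj S => (a l).hom ≫ (ProEtS.bcP i).map m)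
        (Cofan.IsColimit.fac hcol' ind l)).symm.trans (by
          show (a l).hom ≫ (ProEtS.bcP i).map (opIncl V (W' l) ≫ δ) = _
          rw [Functor.map_comp, ← Category.assoc, ha l])))
      rw [Functor.map_comp, ← Category.assoc, hγl]
      by_cases h : l = k
      · subst h
        rw [hdk, Category.assoc, Category.assoc, ← Functor.map_comp, sigmaIncl_mapIdx]
        refine congrArg ((a l).hom ≫ ·) ?_
        rw [show ind l = toTop _ ≫ sigmaIncl S ⟨true⟩ from if_pos rfl, id_eq, Functor.map_comp, Functor.map_comp,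
          ← Category.assoc]
        refine congrArg (· ≫ _) (bc_hom_ext i ?_)
        show (φ.left ≫ ((ProEtS.bcP i).map (toTop U)).left) ≫ pullback.fst (ProEtS.topP X).hom i =
          ((ProEtS.bcP i).map (toTop (opObj V (W' l)))).left ≫ pullback.fst (ProEtS.topP X).hom i
        refine (Category.assoc _ _ _).trans ((congrArg (φ.left ≫ ·) (bcP_map_fst i (toTop U))).trans
          (Eq.trans ?_ (bcP_map_fst i (toTop (opObj V (W' l)))).symm))
        show φ.left ≫ pullback.fst U.hom i ≫ U.hom =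
          pullback.fst (opObj V (W' l)).hom i ≫ (opObj V (W' l)).hom
        rw [pullback.condition, pullback.condition, ← Category.assoc]
        exact congrArg (· ≫ i) (MorphismProperty.Over.w φ)
      · rw [show ind l = toTop _ ≫ sigmaIncl S ⟨false⟩ from if_neg h]
        simp only [d, dif_neg h, Category.assoc]
        rw [← Functor.map_comp, sigmaIncl_mapIdx, ← ha l, Category.assoc, ← Functor.map_comp]
        refine congrArg (fun m => (a l).hom ≫ (ProEtS.bcP i).map m) ?_
        rw [← Category.assoc]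
        exact congrArg (· ≫ sigmaIncl S ⟨false⟩) (hTop _ _)
    have hr : Set.range ((W' k).ι ≫ γ.left) ⊆ Set.range (Limits.Sigma.ι (fun b => (Q b).left) ⟨true⟩) := by
      rintro _ ⟨z, rfl⟩
      obtain ⟨b, hb⟩ := exists_mem_range_sigmaι Q (((W' k).ι ≫ γ.left) z)
      have h1 := mem_range_of_mapIdx Q S id (fun b => toTop (Q b)) _ b hb
      have h2 : proj.left (((W' k).ι ≫ γ.left) z) ∈ Set.range (sigmaIncl S ⟨true⟩).left := by
        have e : opIncl V (W' k) ≫ γ ≫ proj = toTop _ ≫ sigmaIncl S ⟨true⟩ := by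
          rw [hproj]
          exact (Cofan.IsColimit.fac hcol' ind k).trans (if_pos rfl)
        exact ⟨(toTop (opObj V (W' k))).left z,
          (congrArg (fun m : opObj V (W' k) ⟶ sigmaObj S => m.left z) e).symm⟩
      obtain rfl : b = ⟨true⟩ := eq_of_mem_range_sigmaι S h1 h2
      exact hb
    let g : opObj V (W' k) ⟶ U :=
      MorphismProperty.Over.homMk (IsOpenImmersion.lift (Limits.Sigma.ι (fun b => (Q b).left) ⟨true⟩) _ hr) (by
        have e := congrArg (IsOpenImmersion.lift (Limits.Sigma.ι (fun b => (Q b).left) ⟨true⟩) _ hr ≫ ·)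
          (Sigma.ι_desc (f := fun b => (Q b).left) (fun b => (Q b).hom) ⟨true⟩)
        refine e.symm.trans ?_
        show _ ≫ _ ≫ (sigmaObj Q).hom = _
        rw [IsOpenImmersion.lift_fac_assoc, Category.assoc]
        exact congrArg ((W' k).ι ≫ ·) (MorphismProperty.Over.w γ))
    have hg : g ≫ sigmaIncl Q ⟨true⟩ = opIncl V (W' k) ≫ γ :=
      MorphismProperty.Over.Hom.ext (IsOpenImmersion.lift_fac _ _ _)
    refine ⟨g, ?_⟩
    show (ProEtS.bcP i).map g = φ
    have h3 : (ProEtS.bcP i).map g ≫ (ProEtS.bcP i).map (sigmaIncl Q ⟨true⟩) =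
        φ ≫ (ProEtS.bcP i).map (sigmaIncl Q ⟨true⟩) := by
      rw [← Functor.map_comp, hg, Functor.map_comp, ← cancel_epi (a k).hom, ← Category.assoc, ha k, hγl, hdk]
    refine bc_hom_ext i ((cancel_mono (Limits.Sigma.ι (fun b => (Q b).left) ⟨true⟩)).1 ?_)
    have h4 := congrArg (fun m : (ProEtS.bcP i).obj (opObj V (W' k)) ⟶ (ProEtS.bcP i).obj (sigmaObj Q) =>
      m.left ≫ pullback.fst (sigmaObj Q).hom i) h3
    refine Eq.trans ?_ (h4.trans ?_)
    · refine (Category.assoc _ _ _).trans ((congrArg (((ProEtS.bcP i).map g).left ≫ ·)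
        (bcP_map_fst i (sigmaIncl Q ⟨true⟩)).symm).trans (Category.assoc _ _ _).symm)
    · refine (Category.assoc _ _ _).trans ((congrArg (φ.left ≫ ·) (bcP_map_fst i (sigmaIncl Q ⟨true⟩))).trans
        (Category.assoc _ _ _).symm)

end Groth.Agent.ProEtFull
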