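import Groth.Agent.ProEtFull.Pieces
import Mathlib.CategoryTheory.Sites.Pullback
import Mathlib.CategoryTheory.Adjunction.Restrict

/-!
# Inverse images along closed immersions on the pro-étale site

On traces of lifts the inverse image of a sheaf is given by the sections over the lifts.
-/

set_option autoImplicit false
set_option linter.style.haveILetI false
set_option backward.isDefEq.respectTransparency false
set_option backward.isDefEq.respectTransparency.types false
set_option maxHeartbeats 1000000
universe w u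

noncomputable section

namespace Groth.Agent.ProEtFull

open CategoryTheory Limits AlgebraicGeometry Opposite ProEtWC

variable {Z X : Scheme.{u}} (i : Z ⟶ X) [IsClosedImmersion i]

/-- The lifts, as a full subcategory of the pro-étale site. -/
abbrev LiftCat : Type (u + 1) := ObjectProperty.FullSubcategory (fun V : X.ProEt => IsLift i V)

/-- The inclusion of lifts. -/
abbrev liftIncl : LiftCat i ⥤ X.ProEt := ObjectProperty.ι _

/-- The trace of a lift. -/
abbrev liftTrace : LiftCat i ⥤ Z.ProEt := liftIncl i ⋙ ProEtS.bcP i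

instance full_liftTrace : (liftTrace i).Full := ⟨fun {V U} φ => by
  obtain ⟨g, hg⟩ := (V.property.bijective U.obj).2 φ
  exact ⟨ObjectProperty.homMk g, hg⟩⟩

instance faithful_liftTrace : (liftTrace i).Faithful := ⟨fun {V U} g g' h =>
  ObjectProperty.hom_ext _ ((V.property.bijective U.obj).1 h)⟩

instance isCoverDense_liftTrace : (liftTrace i).IsCoverDense (Scheme.ProEt.topology Z) := ⟨fun W => by
  refine GrothendieckTopology.superset_covering _ ?_ (isLift_cover i W)
  rw [Sieve.generate_le_iff]
  rintro T g ⟨V, hV, ⟨e⟩⟩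
  exact ⟨⟨⟨V, hV⟩, e.hom, e.inv ≫ g, Iso.hom_inv_id_assoc e g⟩⟩⟩

variable {A : Type w} [Category.{u + 1} A]
  [∀ F : X.ProEtᵒᵖ ⥤ A, (ProEtS.bcP i).op.HasPointwiseLeftKanExtension F]

/-- The Kan extension along base change takes the original values on traces of lifts. -/
theorem isIso_lanUnit (F : X.ProEtᵒᵖ ⥤ A) (V : X.ProEt)
    (hV : ∀ U : X.ProEt, Function.Bijective (fun g : V ⟶ U => (ProEtS.bcP i).map g)) :
    IsIso (((ProEtS.bcP i).op.lanUnit.app F).app (op V)) := by
  let G := ProEtS.bcP i
  let E := Functor.LeftExtension.mk _ (G.op.lanUnit.app F)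
  have hE : E.IsPointwiseLeftKanExtension :=
    Functor.isPointwiseLeftKanExtensionOfIsLeftKanExtension _ (G.op.lanUnit.app F)
  let T : CostructuredArrow G.op (op (G.obj V)) := CostructuredArrow.mk (Y := op V) (𝟙 (op (G.obj V)))
  have hT : IsTerminal T := IsTerminal.ofUniqueHom
    (fun g => CostructuredArrow.homMk ((hV g.left.unop).2 g.hom.unop).choose.op (by
      show G.op.map _ ≫ 𝟙 _ = g.hom
      rw [Category.comp_id]
      exact congrArg Quiver.Hom.op ((hV g.left.unop).2 g.hom.unop).choose_spec))
    (fun g m => by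
      refine CostructuredArrow.hom_ext _ _ (Quiver.Hom.unop_inj ((hV g.left.unop).1 ?_))
      have := CostructuredArrow.w m
      refine Eq.trans ?_ ((hV g.left.unop).2 g.hom.unop).choose_spec.symm
      exact congrArg Quiver.Hom.unop ((Category.comp_id _).symm.trans this))
  have := (hE (op (G.obj V))).isIso_ι_app_of_isTerminal T hT
  have h2 : (G.op.lanUnit.app F).app (op V) ≫ (G.op.lan.obj F).map (𝟙 _) = (G.op.lanUnit.app F).app (op V) := by
    rw [CategoryTheory.Functor.map_id]
    exact Category.comp_id _
  rw [← h2]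
  exact this

variable {FA : A → A → Type*} {CA : A → Type (u + 1)} [∀ a b, FunLike (FA a b) (CA a) (CA b)]
  [ConcreteCategory.{u + 1} A FA] [(forget A).ReflectsIsomorphisms]
  [(Scheme.ProEt.topology X).HasSheafCompose (forget A)] [(Scheme.ProEt.topology Z).HasSheafCompose (forget A)]
  [HasWeakSheafify (Scheme.ProEt.topology Z) A] [(Scheme.ProEt.topology Z).WEqualsLocallyBijective A]

/-- Sections over lifts. -/
theorem bijective_toSheafify_lan (F : Sheaf (Scheme.ProEt.topology X) A) {V : X.ProEt} (hV : IsLift i V) :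
    Function.Bijective ((toSheafify (Scheme.ProEt.topology Z) ((ProEtS.bcP i).op.lan.obj F.obj)).app
      (op ((ProEtS.bcP i).obj V))) := by
  let G := ProEtS.bcP i
  let J := Scheme.ProEt.topology Z
  let P := G.op.lan.obj F.obj
  let α := G.op.lanUnit.app F.obj
  let η := toSheafify J P
  have hα : ∀ (V : X.ProEt), (∀ U : X.ProEt, Function.Bijective (fun g : V ⟶ U => G.map g)) →
      Function.Bijective (α.app (op V)) := fun V h => by
    haveI := isIso_lanUnit i F.obj V h
    exact ConcreteCategory.bijective_of_isIso _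
  have hFT : Presieve.IsSheaf (Scheme.ProEt.topology X) (F.obj ⋙ forget A) :=
    (isSheaf_iff_isSheaf_of_type _ _).1 ((sheafCompose (Scheme.ProEt.topology X) (forget A)).obj F).property
  have nat : ∀ {W U : X.ProEt} (g : W ⟶ U) (s : CA (F.obj.obj (op U))),
      α.app (op W) (F.obj.map g.op s) = P.map (G.map g).op (α.app (op U) s) := fun g s =>
    NatTrans.naturality_apply α g.op s
  refine ⟨fun x y h => ?_, fun s => ?_⟩
  · obtain ⟨n, W, -, hd, hc, hR⟩ := hV.splits _ (Presheaf.equalizerSieve_mem J η x y h)
    obtain ⟨W', hd', hc', ht⟩ := exists_decomposition i hV hd hc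
    obtain ⟨u, rfl⟩ := (hα V hV.bijective).2 x
    obtain ⟨v, rfl⟩ := (hα V hV.bijective).2 y
    refine congrArg _ ?_
    refine (hFT _ (ofArrows_opens_mem W' hc')).isSeparatedFor.ext ?_
    rintro T f ⟨Y, a, b, ⟨k⟩, rfl⟩
    show (F.obj ⋙ forget A).map (a ≫ opIncl V (W' k)).op u = (F.obj ⋙ forget A).map (a ≫ opIncl V (W' k)).op v
    rw [op_comp, Functor.map_comp_apply, Functor.map_comp_apply]
    refine congrArg _ ((hα _ (bijective_map_piece i hV hd hc hd' hc' ht k)).1 ?_)
    obtain ⟨e, he⟩ := exists_pieceIso i ht k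
    have e1 : G.map (opIncl V (W' k)) = e.inv ≫ opIncl _ (W k) := by rw [← he, Iso.inv_hom_id_assoc]
    refine (nat _ u).trans (Eq.trans ?_ (nat _ v).symm)
    rw [e1, op_comp, Functor.map_comp_apply, Functor.map_comp_apply]
    exact congrArg _ (hR k)
  · obtain ⟨n, W, -, hd, hc, hR⟩ := hV.splits _ (Presheaf.imageSieve_mem J η s)
    obtain ⟨W', hd', hc', ht⟩ := exists_decomposition i hV hd hc
    choose t hts using hR
    choose e he using fun k => exists_pieceIso i ht k
    choose u hu using fun k => (hα _ (bijective_map_piece i hV hd hc hd' hc' ht k)).2 (P.map (e k).inv.op (t k))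
    obtain ⟨x, hx⟩ := ProEtWC.exists_glue ((sheafCompose (Scheme.ProEt.topology X) (forget A)).obj F) W' hd' hc' u
    refine ⟨α.app (op V) x, ?_⟩
    have hsep : Presieve.IsSheaf J ((sheafify J P) ⋙ forget A) :=
      (isSheaf_iff_isSheaf_of_type _ _).1 ((sheafCompose J (forget A)).obj ((presheafToSheaf J A).obj P)).property
    refine (hsep _ (ofArrows_opens_mem W hc)).isSeparatedFor.ext ?_
    rintro T f ⟨Y, a, b, ⟨k⟩, rfl⟩
    show (sheafify J P ⋙ forget A).map (a ≫ opIncl _ (W k)).op _ =
      (sheafify J P ⋙ forget A).map (a ≫ opIncl _ (W k)).op s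
    rw [op_comp, Functor.map_comp_apply, Functor.map_comp_apply]
    refine congrArg _ ?_
    show (sheafify J P).map (opIncl _ (W k)).op (η.app _ (α.app (op V) x)) = _
    rw [← NatTrans.naturality_apply]
    refine Eq.trans (congrArg _ ?_) (hts k)
    have h1 : P.map (G.map (opIncl V (W' k))).op (α.app (op V) x) = P.map (e k).inv.op (t k) := by
      rw [← nat, ← hu k]
      exact congrArg _ (hx k)
    rw [← he k, op_comp, Functor.map_comp_apply]
    refine (congrArg _ h1).trans ?_
    rw [← Functor.map_comp_apply, ← op_comp, Iso.hom_inv_id, op_id, CategoryTheory.Functor.map_id]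
    exact ConcreteCategory.id_apply _

/-- Sections over lifts compute the inverse image on their traces. -/
def restrIso [ProEtS.PCont i] :
    sheafToPresheaf (Scheme.ProEt.topology X) A ⋙ (Functor.whiskeringLeft _ _ A).obj (liftIncl i).op ≅
      Functor.sheafPullbackConstruction.sheafPullback (ProEtS.bcP i) A (Scheme.ProEt.topology X)
          (Scheme.ProEt.topology Z) ⋙
        sheafToPresheaf (Scheme.ProEt.topology Z) A ⋙ (Functor.whiskeringLeft _ _ A).obj (liftTrace i).op :=
  NatIso.ofComponents (fun F => NatIso.ofComponents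
    (fun V =>
      haveI : IsIso (((ProEtS.bcP i).op.lanUnit.app F.obj).app (op V.unop.obj) ≫
          (toSheafify (Scheme.ProEt.topology Z) ((ProEtS.bcP i).op.lan.obj F.obj)).app
            (op ((ProEtS.bcP i).obj V.unop.obj))) := by
        haveI := isIso_lanUnit i F.obj V.unop.obj V.unop.property.bijective
        haveI := (ConcreteCategory.isIso_iff_bijective ((toSheafify (Scheme.ProEt.topology Z)
          ((ProEtS.bcP i).op.lan.obj F.obj)).app (op ((ProEtS.bcP i).obj V.unop.obj)))).2
          (bijective_toSheafify_lan i F V.unop.property)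
        infer_instance
      asIso (((ProEtS.bcP i).op.lanUnit.app F.obj).app (op V.unop.obj) ≫
        (toSheafify (Scheme.ProEt.topology Z) ((ProEtS.bcP i).op.lan.obj F.obj)).app
          (op ((ProEtS.bcP i).obj V.unop.obj))))
    (fun {V W} g => by
      exact (((ProEtS.bcP i).op.lanUnit.app F.obj) ≫ Functor.whiskerLeft (ProEtS.bcP i).op
        (toSheafify (Scheme.ProEt.topology Z) ((ProEtS.bcP i).op.lan.obj F.obj))).naturality ((liftIncl i).op.map g)))
    (fun {F F'} φ => by
      refine NatTrans.ext (funext fun V => ?_)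
      have h1 := congr_app ((ProEtS.bcP i).op.lanUnit.naturality φ.hom) (op V.unop.obj)
      have h2 := congr_app (toSheafify_naturality (Scheme.ProEt.topology Z) ((ProEtS.bcP i).op.lan.map φ.hom))
        (op ((ProEtS.bcP i).obj V.unop.obj))
      show φ.hom.app (op V.unop.obj) ≫ _ ≫ _ = (_ ≫ _) ≫ _
      rw [← Category.assoc]
      refine (congrArg (· ≫ _) h1).trans ?_
      refine (Category.assoc _ _ _).trans (Eq.trans ?_ (Category.assoc _ _ _).symm)
      exact congrArg (_ ≫ ·) h2)

include FA CA in
/-- Inverse image along a closed immersion preserves limits. -/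
theorem preservesLimitsOfShape_pull [ProEtS.PCont i]
    [((ProEtS.bcP i).sheafPushforwardContinuous A (Scheme.ProEt.topology X)
      (Scheme.ProEt.topology Z)).IsRightAdjoint]
    (K : Type*) [Category K] [HasLimitsOfShape K A] :
    PreservesLimitsOfShape K
      ((ProEtS.bcP i).sheafPullback A (Scheme.ProEt.topology X) (Scheme.ProEt.topology Z)) := by
  let R := sheafToPresheaf (Scheme.ProEt.topology Z) A ⋙ (Functor.whiskeringLeft _ _ A).obj (liftTrace i).op
  have hR : R.FullyFaithful := by
    haveI : R.Faithful := ⟨fun {P Q} a b h => Sheaf.hom_ext ((Functor.whiskerLeft_obj_map_bijective_of_isCoverDense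
      (Scheme.ProEt.topology Z) (liftTrace i) P.obj Q.obj Q.property).1 h)⟩
    haveI : R.Full := ⟨fun {P Q} a => by
      obtain ⟨c, hc⟩ := (Functor.whiskerLeft_obj_map_bijective_of_isCoverDense
        (Scheme.ProEt.topology Z) (liftTrace i) P.obj Q.obj Q.property).2 a
      exact ⟨⟨c⟩, hc⟩⟩
    exact Functor.FullyFaithful.ofFullyFaithful R
  haveI := hR.full
  haveI := hR.faithful
  let L := Functor.sheafPullbackConstruction.sheafPullback (ProEtS.bcP i) A (Scheme.ProEt.topology X)
    (Scheme.ProEt.topology Z)
  haveI : PreservesLimitsOfShape K (L ⋙ R) := preservesLimitsOfShape_of_natIso (restrIso (FA := FA) i)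
  haveI : PreservesLimitsOfShape K L := preservesLimitsOfShape_of_reflects_of_preserves L R
  exact preservesLimitsOfShape_of_natIso (Functor.sheafPullbackConstruction.sheafPullbackIso (ProEtS.bcP i) A
    (Scheme.ProEt.topology X) (Scheme.ProEt.topology Z)).symm

include FA CA in
/-- Inverse image along a closed immersion has a left adjoint. -/
theorem isRightAdjoint_pull [ProEtS.PCont i]
    [((ProEtS.bcP i).sheafPushforwardContinuous A (Scheme.ProEt.topology X)
      (Scheme.ProEt.topology Z)).IsRightAdjoint]
    [∀ F : (LiftCat i)ᵒᵖ ⥤ A, (liftIncl i).op.HasLeftKanExtension F] [HasWeakSheafify (Scheme.ProEt.topology X) A] :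
    ((ProEtS.bcP i).sheafPullback A (Scheme.ProEt.topology X) (Scheme.ProEt.topology Z)).IsRightAdjoint := by
  let R := sheafToPresheaf (Scheme.ProEt.topology Z) A ⋙ (Functor.whiskeringLeft _ _ A).obj (liftTrace i).op
  have hR : R.FullyFaithful := by
    haveI : R.Faithful := ⟨fun {P Q} a b h => Sheaf.hom_ext ((Functor.whiskerLeft_obj_map_bijective_of_isCoverDense
      (Scheme.ProEt.topology Z) (liftTrace i) P.obj Q.obj Q.property).1 h)⟩
    haveI : R.Full := ⟨fun {P Q} a => by
      obtain ⟨c, hc⟩ := (Functor.whiskerLeft_obj_map_bijective_of_isCoverDense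
        (Scheme.ProEt.topology Z) (liftTrace i) P.obj Q.obj Q.property).2 a
      exact ⟨⟨c⟩, hc⟩⟩
    exact Functor.FullyFaithful.ofFullyFaithful R
  let e := Functor.sheafPullbackConstruction.sheafPullbackIso (ProEtS.bcP i) A (Scheme.ProEt.topology X)
    (Scheme.ProEt.topology Z)
  let adj := (((liftIncl i).op.lanAdjunction A).comp
    (sheafificationAdjunction (Scheme.ProEt.topology X) A)).restrictFullyFaithful hR
      (Functor.FullyFaithful.id (Sheaf (Scheme.ProEt.topology X) A))
      (L := R ⋙ (liftIncl i).op.lan ⋙ presheafToSheaf _ A)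
      (R := (ProEtS.bcP i).sheafPullback A (Scheme.ProEt.topology X) (Scheme.ProEt.topology Z))
      (Iso.refl _) ((restrIso (FA := FA) i) ≪≫ Functor.isoWhiskerRight e.symm R)
  exact adj.isRightAdjoint

end Groth.Agent.ProEtFull
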