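import Groth.Agent.S7284
import Groth.Agent.CohColim.Transfer
import Groth.Prelude.Def_ProEtS

/-!
# Pro-étale cohomology of a quasi-compact quasi-separated scheme commutes with sums
-/

set_option linter.style.haveILetI false
set_option backward.isDefEq.respectTransparency false
set_option backward.isDefEq.respectTransparency.types false
set_option maxHeartbeats 1000000

universe w w' v u

noncomputable section

namespace Groth.Agent.ProEtFull

open CategoryTheory Limits Opposite AlgebraicGeometry

section Sums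

open CoproductsFromFiniteFiltered

variable {C : Type w'} [Category.{v} C] [Preadditive C] [HasFiniteCoproducts C] [HasColimitsOfSize.{w, w} C]
  {D : Type u} [Category.{v} D] [Preadditive D]

/-- An additive functor commuting with filtered colimits commutes with sums. -/
theorem preservesCoproducts_of_filtered (F : C ⥤ D) [F.Additive]
    (hF : ∀ (Λ : Type w) [SmallCategory Λ] [IsFiltered Λ], PreservesColimitsOfShape Λ F) (ι : Type w) :
    PreservesColimitsOfShape (Discrete ι) F := by
  classical
  suffices H : ∀ f : ι → C, PreservesColimit (Discrete.functor f) F from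
    ⟨fun {K} => haveI := H (fun i => K.obj ⟨i⟩); preservesColimit_of_iso_diagram F Discrete.natIsoFunctor.symm⟩
  intro f
  haveI := hF (Finset (Discrete ι))
  let c := finiteSubcoproductsCocone f
  have h : IsColimit (F.mapCocone c) := isColimitOfPreserves F (isColimitFiniteSubproductsCocone f)
  let hs : ∀ s : Finset (Discrete ι), IsColimit (F.mapCocone (colimit.cocone (Discrete.functor fun x : s => f x.1.as))) :=
    fun s => isColimitOfPreserves F (colimit.isColimit _)
  let leg : ∀ (t : Cocone (Discrete.functor f ⋙ F)) (s : Finset (Discrete ι)),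
      F.obj ((liftToFinsetObj (Discrete.functor f)).obj s) ⟶ t.pt := fun t s =>
    (hs s).desc ⟨t.pt, Discrete.natTrans fun x => t.ι.app x.as.1⟩
  have hleg : ∀ (t : Cocone (Discrete.functor f ⋙ F)) (s : Finset (Discrete ι)) (x : s),
      F.map (Sigma.ι (fun x : s => f x.1.as) x) ≫ leg t s = t.ι.app x.1 := fun t s x =>
    (hs s).fac _ ⟨x⟩
  let ext : ∀ (t : Cocone (Discrete.functor f ⋙ F)), Cocone (liftToFinsetObj (Discrete.functor f) ⋙ F) := fun t =>
    { pt := t.pt
      ι :=
        { app := leg t
          naturality := fun s s' g => by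
            refine (hs s).hom_ext fun x => ?_
            refine Eq.trans ?_ (Eq.trans (hleg t s x.as).symm (congrArg (F.map _ ≫ ·) (Category.comp_id _).symm))
            show F.map (Sigma.ι (fun x : s => f x.1.as) x.as) ≫ F.map ((liftToFinsetObj (Discrete.functor f)).map g) ≫
              leg t s' = _
            rw [← Category.assoc, ← Functor.map_comp]
            refine (congrArg (fun m => F.map m ≫ leg t s') (Sigma.ι_desc _ _)).trans ?_
            exact hleg t s' ⟨x.as.1, g.down.down x.as.2⟩ } }
  refine preservesColimit_of_preserves_colimit_cocone (coproductIsCoproduct f)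
    { desc := fun t => h.desc (ext t), fac := fun t x => ?_, uniq := fun t m hm => ?_ }
  · have e : Sigma.ι f x.as = Sigma.ι (fun y : ({x} : Finset (Discrete ι)) => f y.1.as) ⟨x, Finset.mem_singleton_self x⟩ ≫
        c.ι.app {x} := (Sigma.ι_desc (fun y : ({x} : Finset (Discrete ι)) => Sigma.ι f y.1.as) ⟨x, Finset.mem_singleton_self x⟩).symm
    show F.map (Sigma.ι f x.as) ≫ _ = _
    rw [e, Functor.map_comp, Category.assoc]
    refine (congrArg (F.map _ ≫ ·) (h.fac (ext t) {x})).trans ?_
    exact hleg t {x} ⟨x, Finset.mem_singleton_self x⟩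
  · refine h.uniq (ext t) m fun s => (hs s).hom_ext fun y => ?_
    refine Eq.trans ?_ (hleg t s y.as).symm
    refine Eq.trans ?_ (hm y.as.1)
    show F.map (Sigma.ι (fun x : s => f x.1.as) y.as) ≫ F.map (c.ι.app s) ≫ m = F.map (Sigma.ι f y.as.1.as) ≫ m
    rw [← Category.assoc, ← Functor.map_comp]
    exact congrArg (fun m' => F.map m' ≫ m) (Sigma.ι_desc _ _)

end Sums

section Site

open MorphismProperty

variable (X : Scheme.{u})

/-- Quasi-compact and quasi-separated objects of the pro-étale site. -/
def qcqsPr : ObjectProperty X.ProEt :=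
  fun U => CompactSpace U.left ∧ QuasiSeparatedSpace U.left

theorem qcqsPr_pullback {U V W : X.ProEt} (f : U ⟶ W) (g : V ⟶ W) (hU : qcqsPr X U)
    (hV : qcqsPr X V) (hW : qcqsPr X W) : qcqsPr X (Limits.pullback f g) := by
  haveI := hU.1; haveI := hU.2; haveI := hV.1; haveI := hV.2; haveI := hW.2
  let F := Scheme.ProEt.forget X ⋙ Over.forget X
  let e : (Limits.pullback f g).left ≅ Limits.pullback f.left g.left :=
    PreservesPullback.iso F f g
  haveI : QuasiCompact g.left := inferInstance
  haveI : QuasiSeparated g.left := inferInstance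
  haveI : CompactSpace ↥(Limits.pullback f.left g.left) :=
    QuasiCompact.compactSpace_of_compactSpace (pullback.fst f.left g.left)
  haveI : QuasiSeparatedSpace ↥(Limits.pullback f.left g.left) :=
    quasiSeparatedSpace_of_quasiSeparated (pullback.fst f.left g.left)
  exact ⟨QuasiCompact.compactSpace_of_compactSpace e.hom,
    quasiSeparatedSpace_of_quasiSeparated e.hom⟩

instance : (qcqsPr X).IsClosedUnderIsomorphisms where
  of_iso {U V} e h := by
    haveI := h.1; haveI := h.2
    haveI : IsIso e.inv.left :=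
      inferInstanceAs (IsIso ((Scheme.ProEt.forget X ⋙ Over.forget X).map e.inv))
    exact ⟨QuasiCompact.compactSpace_of_compactSpace e.inv.left,
      quasiSeparatedSpace_of_quasiSeparated e.inv.left⟩

/-- The small subsite. -/
abbrev PrQC := ULiftHom.{u + 1} (qcqsPr X).FullSubcategory

/-- The inclusion of the small subsite. -/
abbrev inclPrQC : PrQC X ⥤ X.ProEt := ULiftHom.down ⋙ (qcqsPr X).ι

instance : (ULiftHom.down : PrQC X ⥤ _).IsEquivalence :=
  ULiftHom.equiv.isEquivalence_inverse

instance : (inclPrQC X).Full := inferInstance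

instance : (inclPrQC X).Faithful := inferInstance

instance : HasPullbacks (PrQC X) := by
  haveI : (qcqsPr X).IsClosedUnderLimitsOfShape WalkingCospan :=
    .mk' <| by
      rintro U ⟨F, hF⟩
      have : qcqsPr X (Limits.pullback (F.map WalkingCospan.Hom.inl)
          (F.map WalkingCospan.Hom.inr)) :=
        qcqsPr_pullback X _ _ (hF _) (hF _) (hF _)
      exact (qcqsPr X).prop_of_iso (HasLimit.isoOfNatIso (diagramIsoCospan F)).symm this
  haveI : HasLimitsOfShape WalkingCospan (qcqsPr X).FullSubcategory :=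
    hasLimitsOfShape_of_closedUnderLimits _ _
  exact Adjunction.hasLimitsOfShape_of_equivalence (ULiftHom.down : PrQC X ⥤ _)

instance isCoverDense_inclPrQC : (inclPrQC X).IsCoverDense (Scheme.ProEt.topology X) where
  is_cover U := by
    haveI : WeaklyEtale U.hom := U.prop
    let 𝒰 := U.left.affineCover
    let Z : 𝒰.I₀ → X.ProEt := fun i => Scheme.ProEt.mk (𝒰.f i ≫ U.hom)
    let f : ∀ i, Z i ⟶ U := fun i => MorphismProperty.Over.homMk (𝒰.f i) rfl
    refine GrothendieckTopology.superset_covering _ ?_ (Precoverage.generate_mem_toGrothendieck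
      (J := Scheme.ProEt.precoverage X) (R := Presieve.ofArrows Z f) ?_)
    · refine (Sieve.generate_le_iff _ _).2 ?_
      rintro _ _ ⟨i⟩
      exact ⟨⟨ULiftHom.objUp ⟨Z i, ⟨inferInstanceAs (CompactSpace ↥(𝒰.X i)),
        inferInstanceAs (QuasiSeparatedSpace ↥(𝒰.X i))⟩⟩, 𝟙 _, f i, Category.id_comp _⟩⟩
    · rw [Scheme.ProEt.precoverage, Precoverage.mem_comap_iff, Presieve.map_ofArrows]
      exact Scheme.zariskiPrecoverage_le_propQCPrecoverage _ U.left.affineCover.mem₀

/-- The topology of the small subsite. -/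
abbrev topPrQC : GrothendieckTopology (PrQC X) :=
  (inclPrQC X).restrictedTopology (Scheme.ProEt.topology X)

theorem covering_of_finite_qcqs {U : X.ProEt} [QuasiSeparatedSpace U.left] {ι : Type u} [Finite ι]
    {V : ι → X.ProEt} [∀ k, CompactSpace (V k).left] (g : ∀ k, V k ⟶ U)
    (hs : ∀ x : U.left, ∃ k, x ∈ Set.range (g k).left) :
    Sieve.ofArrows V g ∈ Scheme.ProEt.topology X U := by
  refine Precoverage.generate_mem_toGrothendieck ?_
  haveI : ∀ k, WeaklyEtale (g k).left := fun k => by
    haveI : WeaklyEtale ((g k).left ≫ U.hom) := by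
      rw [show (g k).left ≫ U.hom = (V k).hom from Over.w (g k).hom]
      exact (V k).prop
    haveI : WeaklyEtale U.hom := U.prop
    exact WeaklyEtale.of_comp (g k).left U.hom
  rw [Scheme.ProEt.precoverage, Precoverage.mem_comap_iff, Presieve.map_ofArrows]
  refine ⟨?_, (Scheme.ofArrows_mem_precoverage_iff _).2 ⟨hs, fun k => ‹∀ k, WeaklyEtale (g k).left› k⟩⟩
  let E : PreZeroHypercover.{u} U.left :=
    { I₀ := ι, X := fun k => (V k).left, f := fun k => (g k).left }
  show E.presieve₀ ∈ Scheme.qcPrecoverage U.left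
  rw [Scheme.presieve₀_mem_qcPrecoverage_iff]
  refine ⟨fun {W} hW => ?_⟩
  haveI : ∀ k, QuasiCompact (E.f k) := fun k => (inferInstance : QuasiCompact (g k).left)
  exact IsCompactOpenCovered.of_finite_of_isSpectralMap (fun k => (E.f k).isSpectralMap)
    (fun x _ => hs x) W.2 hW.isCompact

theorem isQCSite_topPrQC (U : PrQC X) : ToposFin.IsQCSite (topPrQC X) U := by
  intro S hS
  rw [Functor.mem_restrictedTopology_iff] at hS
  let U₀ := (inclPrQC X).obj U
  haveI : CompactSpace ↥U₀.left := U.objDown.property.1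
  haveI : QuasiSeparatedSpace ↥U₀.left := U.objDown.property.2
  have hR := (MorphismProperty.coverPreserving_comap_forget (S := X) Scheme.proetalePrecoverage
      Scheme.proetalePrecoverage_le_precoverage_weaklyEtale).cover_preserve hS
  rw [GrothendieckTopology.mem_over_iff] at hR
  obtain ⟨R₀, hR₀, hle⟩ := Precoverage.mem_toGrothendieck_iff_of_isStableUnderComposition.1 hR
  obtain ⟨𝒱, rfl⟩ := R₀.exists_eq_preZeroHypercover
  haveI : QuasiCompactCover 𝒱 := Scheme.presieve₀_mem_qcPrecoverage_iff.1 hR₀.1
  obtain ⟨n, φ, W, hW, heq⟩ := QuasiCompactCover.exists_isAffineOpen_of_isCompact 𝒱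
    (U := (⊤ : Scheme.Opens U₀.left)) (@isCompact_univ U₀.left _ inferInstance)
  have hk : ∀ k, ∃ (V : PrQC X) (g : V ⟶ U), S g ∧
      ∀ y ∈ W k, 𝒱.f (φ k) y ∈ Set.range ((inclPrQC X).map g).left := fun k => by
    obtain ⟨Z, g₀, h₀, ⟨V, a, b, ha, hab⟩, he⟩ := (Sieve.overEquiv_iff _ _).1 (hle _ _
      (Presieve.ofArrows.mk (φ k) : 𝒱.presieve₀ (𝒱.f (φ k))))
    refine ⟨V, a, ha, fun y _ => ⟨(h₀.left ≫ b.left) y, ?_⟩⟩
    have e : 𝒱.f (φ k) = (h₀.left ≫ b.left) ≫ ((inclPrQC X).map a).left := by
      rw [Category.assoc]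
      exact (congrArg (fun t => t.left) he).trans (congrArg (fun t => h₀.left ≫ t.left) hab)
    exact (congrArg (fun m => m y) e).symm
  choose V g hg hw using hk
  refine ⟨n, V, g, hg, ?_⟩
  rw [Functor.mem_restrictedTopology_iff]
  let V' : ULift.{u} (Fin n) → X.ProEt := fun k => (inclPrQC X).obj (V k.down)
  haveI : ∀ k, CompactSpace (V' k).left := fun k => (V k.down).objDown.property.1
  refine GrothendieckTopology.superset_covering _ ?_
    (covering_of_finite_qcqs X (U := U₀) (V := V') (fun k => (inclPrQC X).map (g k.down)) fun x => ?_)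
  · refine (Sieve.generate_le_iff _ _).2 ?_
    rintro _ _ ⟨k⟩
    exact ⟨_, g k.down, 𝟙 _, Sieve.ofArrows_mk _ _ k.down, (Category.id_comp _).symm⟩
  · have hx : x ∈ ((⊤ : U₀.left.Opens) : Set U₀.left) := trivial
    rw [← heq, Set.mem_iUnion] at hx
    obtain ⟨k, y, hy, rfl⟩ := hx
    exact ⟨⟨k⟩, hw k y hy⟩

/-- Pro-étale cohomology of a qcqs scheme commutes with filtered colimits. -/
theorem preserves_HPF [CompactSpace X] [QuasiSeparatedSpace X] (n : ℕ) (Λ : Type (u + 1))
    [SmallCategory Λ] [IsFiltered Λ] : PreservesColimitsOfShape Λ (ProEtS.HPF X n) := by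
  let T₀ : (qcqsPr X).FullSubcategory :=
    ⟨ProEtS.topP X, ⟨inferInstanceAs (CompactSpace X), inferInstanceAs (QuasiSeparatedSpace X)⟩⟩
  have h' : IsTerminal (ProEtS.topP X) := MorphismProperty.Over.mkIdTerminal _ X
  have h : IsTerminal (ULiftHom.objUp T₀ : PrQC X) :=
    IsTerminal.isTerminalOfObj (inclPrQC X) _ h'
  exact CohColim.preserves_functorH_dense (J := topPrQC X) (Scheme.ProEt.topology X) (inclPrQC X)
    (isQCSite_topPrQC X) h h' Λ n

/-- Pro-étale cohomology of a qcqs scheme commutes with sums. -/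
theorem preservesCoproducts_HPF [CompactSpace X] [QuasiSeparatedSpace X] (n : ℕ) (ι : Type u) :
    PreservesColimitsOfShape (Discrete ι) (ProEtS.HPF X n) := by
  haveI : (ProEtS.HPF X n).Additive := by unfold ProEtS.HPF; infer_instance
  haveI : HasColimitsOfSize.{u + 1, u + 1} (ProEtS.AbP X) := inferInstance
  haveI := preservesCoproducts_of_filtered.{u + 1} (ProEtS.HPF X n)
    (fun Λ _ _ => preserves_HPF X n Λ) (ULift.{u + 1} ι)
  exact preservesColimitsOfShape_of_equiv (Discrete.equivalence Equiv.ulift : Discrete (ULift.{u + 1} ι) ≌ Discrete ι)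
    (ProEtS.HPF X n)

end Site

end Groth.Agent.ProEtFull
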