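import Groth.Agent.ProEtFull.CechQc
import Groth.Agent.ProEtFull.HigherVanish
import Groth.Agent.ProEtFull.PushEps
import Groth.Agent.SpSeqLib.AcyclicResolution
import Groth.Agent.SpSeqLib.DerivedComp

/-!
# `R^q f_* ε⁻¹ = ε⁻¹ R^q f_*` for quasi-compact quasi-separated morphisms
-/

set_option autoImplicit false
set_option linter.style.haveILetI false
set_option backward.isDefEq.respectTransparency false
set_option backward.isDefEq.respectTransparency.types false
set_option maxHeartbeats 1000000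
universe u

noncomputable section

namespace Groth.Agent.ProEtFull

open CategoryTheory Limits AlgebraicGeometry Opposite
open Groth.Agent.BigSiteLib Groth.Agent.ProEtFull.CechSys Groth.Agent.EtFlasqueLib Groth.Agent.CechInjective

variable {X : Scheme.{u}}

/-- `T` is a limit of quasi-compact quasi-separated étale `X`-schemes with affine transition morphisms. -/
def QBase (T : Over X) : Prop := Nonempty (QSys T)

theorem QBase.of_iso {T T' : Over X} (h : QBase T) (e : T' ≅ T) : QBase T' := by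
  obtain ⟨S⟩ := h
  exact ⟨{ α := S.α, D := S.D, π := (Functor.const _).map e.hom ≫ S.π,
           hc := IsLimit.ofIsoLimit S.hc (Cone.ext e (fun a => rfl)).symm,
           aff := S.aff, qc := S.qc, qs := S.qs, et := S.et }⟩

theorem singleton_mem_qc {U V : X.ProEt} (g : V ⟶ U) [QuasiCompact g.left] [Surjective g.left] :
    Sieve.generate (Presieve.singleton g) ∈ Scheme.ProEt.topology X U := by
  have h : Sieve.ofArrows (fun _ : PUnit.{u + 1} => V) (fun _ => g) ∈ Scheme.ProEt.topology X U := by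
    refine Precoverage.generate_mem_toGrothendieck ?_
    haveI : WeaklyEtale g.left := ProEtWC.weaklyEtale_left g
    rw [Scheme.ProEt.precoverage, Precoverage.mem_comap_iff, Presieve.map_ofArrows]
    refine ⟨?_, (Scheme.ofArrows_mem_precoverage_iff _).2
      ⟨fun x => ⟨⟨⟩, g.left.surjective x⟩, fun _ => ‹WeaklyEtale g.left›⟩⟩
    let E : PreZeroHypercover.{u} U.left :=
      { I₀ := PUnit.{u + 1}, X := fun _ => V.left, f := fun _ => g.left }
    show E.presieve₀ ∈ Scheme.qcPrecoverage U.left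
    rw [Scheme.presieve₀_mem_qcPrecoverage_iff]
    refine ⟨fun {W} hW => ?_⟩
    haveI : ∀ k, QuasiCompact (E.f k) := fun _ => ‹QuasiCompact g.left›
    exact IsCompactOpenCovered.of_finite_of_isSpectralMap (fun k => (E.f k).isSpectralMap)
      (fun x _ => ⟨⟨⟩, g.left.surjective x⟩) W.2 hW.isCompact
  rwa [Sieve.ofArrows, Presieve.ofArrows_pUnit] at h

/-- Coverings of quasi-compact quasi-separated objects by affine good objects. -/
def CovQ {U V : X.ProEt} (g : V ⟶ U) : Prop :=
  Sieve.generate (Presieve.singleton g) ∈ Scheme.ProEt.topology X U ∧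
  (∀ (I : EtCoh.Ab X), Injective I → Exact1.{u + 1} (piProEt I).obj g) ∧
  (∀ n, QBase ((Scheme.ProEt.forget X).obj (dob.{u + 1} g n))) ∧ Base V ∧ IsAffine V.left

theorem exists_covQ (U : X.ProEt) (hU : QBase ((Scheme.ProEt.forget X).obj U)) :
    ∃ (V : X.ProEt) (g : V ⟶ U), CovQ g := by
  obtain ⟨S₀⟩ := hU
  obtain ⟨k⟩ := (inferInstance : Nonempty S₀.α)
  let S := S₀.after k
  let j : S.α := ⟨k, le_refl k⟩
  have hb : ∀ a, j ≤ a := fun a => a.2
  let W := (S.D.obj (op j)).left
  haveI : CompactSpace ↥W := S.qc _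
  haveI : QuasiSeparatedSpace ↥W := S.qs _
  obtain ⟨t, ht⟩ := isCompact_univ.elim_finite_subcover
    (fun i : W.affineCover.I₀ => Set.range (W.affineCover.f i))
    (fun i => (W.affineCover.f i).opensRange.2)
    (fun x _ => Set.mem_iUnion.2 ⟨_, W.affineCover.covers x⟩)
  let O : Scheme.{u} := ∐ fun i : {i // i ∈ t} => W.affineCover.X i.1
  haveI : IsAffine O := inferInstanceAs (IsAffine (∐ fun i : {i // i ∈ t} => W.affineCover.X i.1))
  let p : O ⟶ W := Sigma.desc fun i => W.affineCover.f i.1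
  haveI : Etale p := IsZariskiLocalAtSource.sigmaDesc (P := @Etale) fun i => inferInstance
  haveI : QuasiCompact p := inferInstance
  haveI : QuasiSeparated p := inferInstance
  haveI : Surjective p := ⟨fun x => by
    obtain ⟨i, hi, y, rfl⟩ := Set.mem_iUnion₂.1 (ht (Set.mem_univ x))
    refine ⟨Sigma.ι (fun i : {i // i ∈ t} => W.affineCover.X i.1) ⟨i, hi⟩ y, ?_⟩
    change (Sigma.ι (fun i : {i // i ∈ t} => W.affineCover.X i.1) ⟨i, hi⟩ ≫ p) y = _
    rw [Sigma.ι_desc]⟩
  let p' : O ⟶ (S.D.obj (op j)).left := p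
  haveI : Etale p' := ‹Etale p›
  haveI : QuasiCompact p' := ‹QuasiCompact p›
  haveI : QuasiSeparated p' := ‹QuasiSeparated p›
  haveI : Surjective p' := ‹Surjective p›
  let g₀ : pullback (S.π.app (op j)).left p' ⟶ U.left := pullback.fst (S.π.app (op j)).left p'
  haveI : Etale g₀ := inferInstanceAs (Etale (pullback.fst (S.π.app (op j)).left p'))
  haveI : QuasiCompact g₀ := inferInstanceAs (QuasiCompact (pullback.fst (S.π.app (op j)).left p'))
  haveI : Surjective g₀ := inferInstanceAs (Surjective (pullback.fst (S.π.app (op j)).left p'))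
  let V : X.ProEt := po U g₀
  let g : V ⟶ U := MorphismProperty.Over.homMk g₀
  haveI : QuasiCompact g.left := ‹QuasiCompact g₀›
  haveI : Surjective g.left := ‹Surjective g₀›
  haveI : PreservesLimitsOfShape WalkingCospan (Scheme.ProEt.forget X) := inferInstance
  refine ⟨V, g, singleton_mem_qc g, fun I hI q => ?_, fun n => ?_, fun I hI => ?_, ?_⟩
  · exact isZero_cechH_post (Scheme.ProEt.forget X) (fam.{u + 1} g) (piSheaf I).obj (q + 1)
      (haveI := hI; S.exact_cov hb p' I q)
  · haveI := preservesFiniteProducts_post (Scheme.ProEt.forget X) (U := U)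
    let o : Fin (n + 1) → Over U := fun _ => Over.mk g
    let e := PreservesProduct.iso (Over.post (Scheme.ProEt.forget X)) o
    exact (show QBase (dob.{u + 1} (S.covG p') n) from ⟨S.dobSys hb p' n⟩).of_iso ((Over.forget _).mapIso e)
  · haveI := hI
    exact S.goodBase_cov hb p' I
  · haveI : IsAffineHom (S.π.app (op j)).left :=
      S.sys.isAffineHom_u j
    haveI : IsAffineHom (pullback.snd (S.π.app (op j)).left p') := inferInstance
    exact isAffine_of_isAffineHom (pullback.snd (S.π.app (op j)).left p')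

/-- A section lifts along a short exact sequence if it lifts on a covering with exact Čech complex. -/
theorem exists_preimage_of_cover {S : ShortComplex (ProEtS.AbP X)} (hS : S.ShortExact) {U V : X.ProEt} (g : V ⟶ U)
    (hg : Sieve.generate (Presieve.singleton g) ∈ Scheme.ProEt.topology X U)
    (h1 : Exact1.{u + 1} S.X₁.obj g) (s : S.X₃.obj.obj (op U)) (t : S.X₂.obj.obj (op V))
    (ht : S.g.hom.app (op V) t = S.X₃.obj.map g.op s) : ∃ r, S.g.hom.app (op U) r = s := by
  let τ : ∀ {T : X.ProEt}, (T ⟶ V) → S.X₂.obj.obj (op T) := fun m => S.X₂.obj.map m.op t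
  have hτ : ∀ {T : X.ProEt} (m : T ⟶ V), S.g.hom.app (op T) (τ m) = S.X₃.obj.map (m ≫ g).op s := fun m => by
    refine (NatTrans.naturality_apply S.g.hom m.op t).trans ?_
    rw [ht, op_comp, Functor.map_comp_apply]
  have hτmap : ∀ {T T' : X.ProEt} (z : T' ⟶ T) (m : T ⟶ V), S.X₂.obj.map z.op (τ m) = τ (z ≫ m) := fun z m => by
    show _ = S.X₂.obj.map (z ≫ m).op t
    rw [op_comp, Functor.map_comp_apply]
  let c₁ := fun k : Fin 2 => ((idp.{u + 1} g 1).comp k).2
  obtain ⟨m, hm⟩ := exists_app_f_eq hS (dob.{u + 1} g 1) (τ (c₁ 1) - τ (c₁ 0)) (by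
    have hw : ∀ k, c₁ k ≫ g = (idp.{u + 1} g 1).base := fun k => Pt.comp_w (idp.{u + 1} g 1) k
    rw [map_sub, hτ, hτ, hw, hw, sub_self])
  let c : Coch (fam.{u + 1} g) S.X₁.obj 1 := ofVal.{u + 1} g m
  have hc : ∀ {T : X.ProEt} (p : Pt (fam.{u + 1} g) 1 T),
      S.f.hom.app (op T) (ev (fam.{u + 1} g) c p) = τ (p.comp 1).2 - τ (p.comp 0).2 := fun {T} p => by
    rw [ev_eq, val_ofVal, NatTrans.naturality_apply S.f.hom, hm, map_sub, hτmap, hτmap]
    have e : ∀ k, p.hom ≫ c₁ k = (p.comp k).2 := fun k => by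
      refine ((mk'_comp2 (g := g) p.hom (idp.{u + 1} g 1) k).symm.trans ?_)
      have hp : (Pt.mk' (idp.{u + 1} g 1).1 (p.hom ≫ (idp.{u + 1} g 1).hom) : Pt (fam.{u + 1} g) 1 T) = p := by
        rw [show (idp.{u + 1} g 1).hom = 𝟙 _ from Pt.hom_mk' _ _, Category.comp_id]
        exact mk'_hom p
      rw [hp]
    rw [e, e]
  have hdc : ((EtCech.cechComplex (fam.{u + 1} g) S.X₁.obj).d 1 2 c : Coch (fam.{u + 1} g) S.X₁.obj 2) = 0 := by
    refine coch_ext (fam.{u + 1} g) fun {T} p => app_f_injective hS T ?_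
    rw [ev_d (fam.{u + 1} g) 1 c p, ev_zero, map_zero, map_sum, Fin.sum_univ_three]
    simp only [map_zsmul, hc]
    have e : ∀ (k : Fin 3) (a : Fin 2),
        ((ptMap (fam.{u + 1} g) (SimplexCategory.δ k) T p).comp a).2 = (p.comp (k.succAbove a)).2 := fun k a =>
      eq_of_heq (Sigma.ext_iff.1 (ptMap_comp (fam.{u + 1} g) (SimplexCategory.δ k) T p a)).2
    simp only [e, Fin.val_zero, Fin.val_one, Fin.val_two, pow_zero, pow_one, one_smul, neg_smul, neg_one_sq]
    rw [show (0 : Fin 3).succAbove (0 : Fin 2) = 1 from rfl, show (0 : Fin 3).succAbove (1 : Fin 2) = 2 from rfl,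
      show (1 : Fin 3).succAbove (0 : Fin 2) = 0 from rfl, show (1 : Fin 3).succAbove (1 : Fin 2) = 2 from rfl,
      show (2 : Fin 3).succAbove (0 : Fin 2) = 0 from rfl, show (2 : Fin 3).succAbove (1 : Fin 2) = 1 from rfl]
    abel
  obtain ⟨b, hb⟩ := exists_cochain_of_cocycle (fam.{u + 1} g) (h1 0) c hdc
  let q : Pt (fam.{u + 1} g) 0 V := Pt.lift g (fun _ => ⟨PUnit.unit, 𝟙 V⟩) (fun _ => Category.id_comp g)
  let t' : S.X₂.obj.obj (op V) := t - S.f.hom.app _ (ev (fam.{u + 1} g) b q)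
  have hs₂ : Presieve.IsSheafFor (S.X₂.obj ⋙ forget AddCommGrpCat.{u + 1}) (Presieve.singleton g) :=
    (Presieve.isSheafFor_iff_generate _).2 ((isSheaf_iff_isSheaf_of_type _ _).1
      ((sheafCompose (Scheme.ProEt.topology X) (forget AddCommGrpCat.{u + 1})).obj S.X₂).property _ hg)
  obtain ⟨r, hr, -⟩ := (Presieve.isSheafFor_singleton.1 hs₂) t' fun {T} ga gb e => by
    let p : Pt (fam.{u + 1} g) 1 T := Pt.lift (ga ≫ g) ![⟨PUnit.unit, ga⟩, ⟨PUnit.unit, gb⟩]
      (fun a => by fin_cases a <;> first | rfl | exact e.symm)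
    have hp0 : (p.comp 0).2 = ga := eq_of_heq (Sigma.ext_iff.1 (Pt.comp_lift _ _ _ 0)).2
    have hp1 : (p.comp 1).2 = gb := eq_of_heq (Sigma.ext_iff.1 (Pt.comp_lift _ _ _ 1)).2
    have hp : ∀ (gl : T ⟶ V) (a : Fin 2) (_ : (p.comp a).2 = gl) (i : Fin 2)
        (_ : (SimplexCategory.δ i).toOrderHom (0 : Fin 1) = a),
        ev (fam.{u + 1} g) b (ptMap (fam.{u + 1} g) (SimplexCategory.δ i) T p) =
          S.X₁.obj.map gl.op (ev (fam.{u + 1} g) b q) := by
      intro gl a hla i hi
      rw [ev_comp]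
      refine congrArg (ev (fam.{u + 1} g) b) (pt_ext' ?_ fun z => ?_)
      · refine (ptMap_base _ _ T p).trans ((Pt.comp_w p a).symm.trans ?_)
        rw [base_mk', Pt.base_lift, hla]
        rfl
      · refine (eq_of_heq (Sigma.ext_iff.1 (ptMap_comp _ (SimplexCategory.δ i) T p z)).2).trans ?_
        rw [mk'_comp2, show (q.comp z).2 = 𝟙 V from eq_of_heq (Sigma.ext_iff.1 (Pt.comp_lift _ _ _ z)).2,
          Category.comp_id, show z = 0 from Fin.fin_one_eq_zero z, hi, hla]
    have h := hc p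
    rw [← hb, ev_d (fam.{u + 1} g) 0 b p, map_sum, Fin.sum_univ_two, map_zsmul, map_zsmul,
      hp gb 1 hp1 0 rfl, hp ga 0 hp0 1 rfl, hp0, hp1] at h
    simp only [Fin.val_zero, Fin.val_one, pow_zero, pow_one, one_smul, neg_smul, NatTrans.naturality_apply] at h
    show S.X₂.obj.map ga.op t' = S.X₂.obj.map gb.op t'
    rw [map_sub, map_sub, eq_comm, sub_eq_sub_iff_sub_eq_sub]
    refine Eq.trans (Eq.symm h) ?_
    abel
  refine ⟨r, ?_⟩
  have hs₃ := ((isSheaf_iff_isSheaf_of_type _ _).1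
      ((sheafCompose (Scheme.ProEt.topology X) (forget AddCommGrpCat.{u + 1})).obj S.X₃).property).isSeparated
      _ hg
  refine hs₃.ext fun Y f hf => ?_
  obtain ⟨Z, h, _, ⟨⟩, rfl⟩ := hf
  show S.X₃.obj.map (h ≫ g).op _ = S.X₃.obj.map (h ≫ g).op s
  rw [op_comp, Functor.map_comp_apply, Functor.map_comp_apply]
  refine congrArg (S.X₃.obj.map h.op) ?_
  rw [← NatTrans.naturality_apply S.g.hom]
  refine (congrArg (S.g.hom.app _) (show S.X₂.obj.map g.op r = t' from hr)).trans ?_
  rw [map_sub, app_f_g S, sub_zero]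
  exact ht

/-- The quotient has exact Čech complexes if sections lift to it on the fibre powers. -/
theorem exact1_X₃ {S : ShortComplex (ProEtS.AbP X)} (hS : S.ShortExact) {U V : X.ProEt} (g : V ⟶ U)
    (h1 : Exact1.{u + 1} S.X₁.obj g) (h2 : Exact1.{u + 1} S.X₂.obj g)
    (hs : ∀ n, Function.Surjective (S.g.hom.app (op (dob.{u + 1} g n)))) : Exact1.{u + 1} S.X₃.obj g := fun p => by
  let F := cechComplexFunctor (A := AddCommGrpCat.{u + 1}) (fam.{u + 1} g)
  let T : ShortComplex (CochainComplex AddCommGrpCat.{u + 1} ℕ) :=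
    ShortComplex.mk (F.map (Functor.whiskerLeft (Over.forget U).op S.f.hom))
      (F.map (Functor.whiskerLeft (Over.forget U).op S.g.hom))
      (HomologicalComplex.Hom.ext (funext fun n => ConcreteCategory.hom_ext _ _
        fun (c : Coch (fam.{u + 1} g) S.X₁.obj n) => Concrete.limit_ext _ _ _ fun ⟨i⟩ => by
          refine (map_f_π (fam.{u + 1} g) S.g.hom n _ i).trans ?_
          refine (congrArg (S.g.hom.app _) (map_f_π (fam.{u + 1} g) S.f.hom n c i)).trans ((app_f_g S _ _).trans ?_)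
          exact (map_zero (Pi.π (fun i => S.X₃.obj.obj
            (op (((E (fam.{u + 1} g)).obj (op (SimplexCategory.mk n))).obj i).left)) i).hom).symm))
  have hT : T.ShortExact := by
    refine HomologicalComplex.shortExact_of_degreewise_shortExact T fun n => ?_
    refine ShortComplex.ShortExact.mk' ?_ ?_ ?_
    · rw [ShortComplex.ab_exact_iff]
      intro (c : Coch (fam.{u + 1} g) S.X₂.obj n) hc
      obtain ⟨y, hy⟩ := exists_app_f_eq hS (dob.{u + 1} g n) (val.{u + 1} g c) (by
        rw [val, ev_idPt]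
        refine (map_f_π (fam.{u + 1} g) S.g.hom n c _).symm.trans ?_
        exact (congrArg _ hc).trans (map_zero _))
      refine ⟨ofVal.{u + 1} g y, coch_ext'.{u + 1} g ?_⟩
      rw [val, ev_idPt]
      refine (map_f_π (fam.{u + 1} g) S.f.hom n _ _).trans ?_
      rw [← ev_idPt]
      exact (congrArg (S.f.hom.app _) (val_ofVal.{u + 1} g y)).trans hy
    · refine (AddCommGrpCat.mono_iff_injective _).2 fun (c : Coch (fam.{u + 1} g) S.X₁.obj n) c' h =>
        Concrete.limit_ext _ _ _ fun ⟨i⟩ => app_f_injective hS _ ?_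
      exact (map_f_π (fam.{u + 1} g) S.f.hom n c i).symm.trans
        ((congrArg _ h).trans (map_f_π (fam.{u + 1} g) S.f.hom n c' i))
    · refine (AddCommGrpCat.epi_iff_surjective _).2 fun (c : Coch (fam.{u + 1} g) S.X₃.obj n) => ?_
      obtain ⟨y, hy⟩ := hs n (val.{u + 1} g c)
      refine ⟨ofVal.{u + 1} g y, coch_ext'.{u + 1} g ?_⟩
      rw [val, ev_idPt]
      refine (map_f_π (fam.{u + 1} g) S.g.hom n _ _).trans ?_
      rw [← ev_idPt]
      exact (congrArg (S.g.hom.app _) (val_ofVal.{u + 1} g y)).trans hy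
  exact (hT.homology_exact₃ (p + 1) (p + 1 + 1) (by simp)).isZero_of_both_zeros
    ((h2 p).eq_of_src _ _) ((h1 (p + 1)).eq_of_tgt _ _)

/-- Sheaves with exact Čech complexes for both kinds of coverings. -/
def QGood (G : ProEtS.AbP X) : Prop :=
  CechGood G ∧ ∀ ⦃U V : X.ProEt⦄ (g : V ⟶ U), CovQ g → Exact1.{u + 1} G.obj g

theorem qGood_of_iso {G G' : ProEtS.AbP X} (e : G ≅ G') (h : QGood G) : QGood G' :=
  ⟨cechGood_of_iso e h.1, fun _ _ g hg p => (h.2 g hg p).of_iso
    ((EtCech.cechHFunctor (fam.{u + 1} g) (p + 1)).mapIso ((sheafToPresheaf _ _).mapIso e.symm))⟩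

theorem qGood_piProEt (I : EtCoh.Ab X) [hI : Injective I] : QGood (piProEt I) :=
  ⟨cechGood_piProEt I, fun _ _ _ hg => hg.2.1 I hI⟩

theorem qGood_injective (G : ProEtS.AbP X) [Injective G] : QGood G :=
  ⟨cechGood_injective G, fun U V g _ p => by
    haveI : Injective G.obj :=
      Injective.injective_of_adjoint (sheafificationAdjunction (Scheme.ProEt.topology X) AddCommGrpCat.{u + 1}) G
    exact isZero_cechH_injective (fam.{u + 1} g) _ p⟩

theorem surjective_sections_qc {S : ShortComplex (ProEtS.AbP X)} (hS : S.ShortExact) (h1 : QGood S.X₁)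
    {U : X.ProEt} (hU : QBase ((Scheme.ProEt.forget X).obj U)) : Function.Surjective (S.g.hom.app (op U)) := by
  intro s
  obtain ⟨V, g, hg⟩ := exists_covQ U hU
  haveI := hg.2.2.2.2
  obtain ⟨t, ht⟩ := surjective_sections hS h1.1 hg.2.2.2.1 (S.X₃.obj.map g.op s)
  exact exists_preimage_of_cover hS g hg.1 (h1.2 g hg) s t ht

theorem qGood_X₃ {S : ShortComplex (ProEtS.AbP X)} (hS : S.ShortExact) (h1 : QGood S.X₁) (h2 : QGood S.X₂) :
    QGood S.X₃ :=
  ⟨cechGood_X₃ hS h1.1 h2.1, fun _ _ g hg => exact1_X₃ hS g (h1.2 g hg) (h2.2 g hg)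
    fun n => surjective_sections_qc hS h1 (hg.2.2.1 n)⟩

variable {Y : Scheme.{u}} (f : X ⟶ Y) [QuasiCompact f] [QuasiSeparated f]

/-- Base change of the basic objects of `Y` are limits of qcqs étale `X`-schemes. -/
theorem qBase_bcP {V : Y.ProEt} (hV : IndV V) :
    QBase ((Scheme.ProEt.forget X).obj ((ProEtS.bcP f).obj V)) := by
  obtain ⟨α, _, _, _, D, π, hD, ⟨hc⟩⟩ := hV
  haveI : IsConnected α := IsFiltered.isConnected α
  haveI : IsConnected αᵒᵖ := inferInstance
  obtain ⟨hc'⟩ := isLimit_bcP f (Cone.mk V π) hc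
  exact ⟨{ α := α
           D := ((D ⋙ ProEtS.eps Y) ⋙ ProEtS.bcP f) ⋙ Scheme.ProEt.forget X
           π := ((Scheme.ProEt.forget X).mapCone ((ProEtS.bcP f).mapCone (Cone.mk V π))).π
           hc := isLimitOfReflects (Over.forget X) hc'
           aff := fun a b h => by
             haveI : IsAffine ((𝟭 Scheme).obj (D.obj a).left) := hD a
             haveI : IsAffine ((𝟭 Scheme).obj (D.obj b).left) := hD b
             exact isAffineHom_bc f (D.map h)
           qc := fun a => by haveI := hD a; exact (qcqs_bc f (D.obj a)).1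
           qs := fun a => by haveI := hD a; exact (qcqs_bc f (D.obj a)).2
           et := fun a => ((EtCoh.bc f).obj (D.obj a)).prop }⟩

variable [ProEtS.PCont f]

theorem epi_pushP_of_qGood {S : ShortComplex (ProEtS.AbP X)} (hS : S.ShortExact) (h1 : QGood S.X₁) :
    Epi ((ProEtS.pushP f).map S.g) := by
  haveI : Sheaf.IsLocallySurjective ((ProEtS.pushP f).map S.g) := ⟨fun {W} s => by
    obtain ⟨ι, V, g, hmem, hV⟩ := exists_indV_cover W
    refine GrothendieckTopology.superset_covering _ ?_ hmem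
    rw [Sieve.ofArrows, Sieve.generate_le_iff]
    rintro Z a ⟨i⟩
    exact surjective_sections_qc hS h1 (qBase_bcP f (hV i)) _⟩
  exact (Sheaf.isLocallySurjective_iff_epi' _ _).1 inferInstance

variable [ProEtS.EpsCont X]

theorem isAcyclicFor_pushP (I : EtCoh.Ab X) [Injective I] :
    SpSeqLib.IsAcyclicFor (ProEtS.pushP f) ((ProEtS.epsPull X).obj I) := by
  haveI : PreservesFiniteLimits (ProEtS.pushP f) :=
    (ProEtS.pullPushAdjP f).rightAdjoint_preservesLimits.{0, 0}.preservesFiniteLimits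
  exact SpSeqLib.isAcyclicFor_of_class (ProEtS.pushP f) QGood (fun e => qGood_of_iso e)
    (fun T hT hI h1 => qGood_X₃ hT h1 (haveI := hI; qGood_injective _))
    (fun T hT _ h1 => epi_pushP_of_qGood f hT h1) (qGood_of_iso (epsPullIso I).symm (qGood_piProEt I))

/-- `R^q f_* ε⁻¹ ≅ ε⁻¹ R^q f_*`. -/
theorem nonempty_RpushP_iso [ProEtS.EpsCont Y] (F : EtCoh.Ab X) (q : ℕ) :
    Nonempty ((ProEtS.RpushP f q).obj ((ProEtS.epsPull X).obj F) ≅
      (ProEtS.epsPull Y).obj ((EtCoh.Rpush f q).obj F)) := by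
  haveI := preservesFiniteLimits_epsPull X
  haveI := preservesFiniteLimits_epsPull Y
  haveI : PreservesFiniteColimits (ProEtS.epsPull X) :=
    (ProEtS.epsAdj X).leftAdjoint_preservesColimits.{0, 0}.preservesFiniteColimits
  haveI : PreservesFiniteColimits (ProEtS.epsPull Y) :=
    (ProEtS.epsAdj Y).leftAdjoint_preservesColimits.{0, 0}.preservesFiniteColimits
  haveI : (ProEtS.epsPull X).Additive := (ProEtS.epsAdj X).left_adjoint_additive
  haveI : (ProEtS.epsPull Y).Additive := (ProEtS.epsAdj Y).left_adjoint_additive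
  let e₁ := SpSeqLib.rightDerivedPrecompAcyclicIso (ProEtS.epsPull X) (ProEtS.pushP f)
    (fun I hI => haveI := hI; isAcyclicFor_pushP f I) q
  let e₂ := SpSeqLib.rightDerivedCongr (epsPushIso f) q
  let e₃ := SpSeqLib.rightDerivedPostcompIso (EtCoh.push f) (ProEtS.epsPull Y) q
  exact ⟨(e₁.symm ≪≫ e₂.symm ≪≫ e₃).app F⟩

end Groth.Agent.ProEtFull
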