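import Groth.Agent.ProEtFull.PullClosed
import Groth.Agent.ProEtFull.ExtZeroVanish
import Groth.Agent.ProEtFull.ClosedImm
import Groth.Agent.ProEtSLib.OpenImm
import Groth.Agent.ProEtSLib.Cont

/-!
# Recollement for a retrocompact open and its closed complement on the pro-étale site

An affine object is covered by finitely many lifts of pieces of its trace on the closed subscheme together
with affine opens lying over the open subscheme. On a lift the extension by zero vanishes and the unit of
inverse image along the closed immersion is bijective; over the open the counit is bijective.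
-/

set_option autoImplicit false
set_option linter.style.haveILetI false
set_option linter.unusedSectionVars false
set_option backward.isDefEq.respectTransparency false
set_option backward.isDefEq.respectTransparency.types false
set_option maxHeartbeats 800000
universe u

noncomputable section

namespace Groth.Agent.ProEtFull.Rec

open CategoryTheory Limits AlgebraicGeometry Opposite ProEtWC

variable {Z X U : Scheme.{u}} (i : Z ⟶ X) [IsClosedImmersion i] (j : U ⟶ X) [IsOpenImmersion j]

/-- Every point of a lift specializes into the closed part. -/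
theorem IsLift.exists_specializes {V : X.ProEt} (hV : IsLift i V) (v : V.left) :
    ∃ z, V.hom z ∈ Set.range i ∧ v ⤳ z := by
  by_contra hne
  push Not at hne
  let O : V.left.Opens := ⟨(closure {v})ᶜ, isClosed_closure.isOpen_compl⟩
  let G := ProEtS.bcP i
  have hr : Set.range (pullback.fst V.hom i) ⊆ Set.range O.ι := by
    rintro _ ⟨p, rfl⟩
    rw [Scheme.Opens.range_ι]
    exact fun hmem => hne _ ⟨pullback.snd V.hom i p, by
      exact ((Scheme.Hom.comp_apply _ _ _).symm.trans (congrArg (fun m : pullback V.hom i ⟶ X => m p)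
        pullback.condition.symm)).trans (Scheme.Hom.comp_apply _ _ _)⟩ (specializes_iff_mem_closure.2 hmem)
  let l : pullback V.hom i ⟶ O.toScheme := IsOpenImmersion.lift O.ι (pullback.fst V.hom i) hr
  let ψ : G.obj V ⟶ G.obj (opObj V O) := MorphismProperty.Over.homMk
    (pullback.lift l (pullback.snd V.hom i) (by
      show l ≫ O.ι ≫ V.hom = _
      rw [IsOpenImmersion.lift_fac_assoc]
      exact pullback.condition)) (pullback.lift_snd _ _ _)
  obtain ⟨g, hg⟩ := (hV.bijective (opObj V O)).2 ψ
  have e : g ≫ opIncl V O = 𝟙 V := (hV.bijective V).1 (by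
    show G.map (g ≫ opIncl V O) = G.map (𝟙 V)
    rw [Functor.map_comp, show G.map g = ψ from hg, CategoryTheory.Functor.map_id]
    refine bc_hom_ext i ?_
    show (ψ.left ≫ (G.map (opIncl V O)).left) ≫ pullback.fst V.hom i = 𝟙 _ ≫ pullback.fst V.hom i
    rw [Category.assoc, bcP_map_fst i (opIncl V O)]
    refine (Category.assoc _ _ _).symm.trans ((congrArg (· ≫ O.ι) (pullback.lift_fst _ _ _)).trans ?_)
    rw [IsOpenImmersion.lift_fac]
    exact (Category.id_comp _).symm)
  have h1 : O.ι (g.left v) = v := congrArg (fun f : V ⟶ V => f.left v) e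
  exact (h1 ▸ (g.left v).2 : v ∈ O) (subset_closure rfl)

variable [QuasiCompact j] (hc : Set.range j = (Set.range i)ᶜ)

include hc in
/-- A sieve on an affine object containing all maps from lifts and all maps from objects over the open
subscheme is covering. -/
theorem mem_of_lifts_affine {W : X.ProEt} [IsAffine W.left] (R : Sieve W)
    (h1 : ∀ (V : X.ProEt) (g : V ⟶ W), IsLift i V → R g)
    (h2 : ∀ (V : X.ProEt) (g : V ⟶ W), Set.range V.hom ⊆ Set.range j → R g) :
    R ∈ Scheme.ProEt.topology X W := by
  classical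
  haveI : WeaklyEtale W.hom := W.prop
  haveI : IsAffine ((𝟭 Scheme.{u}).obj W.left) := ‹IsAffine W.left›
  haveI : CompactSpace ↥((𝟭 Scheme.{u}).obj W.left) := (inferInstanceAs (CompactSpace ↥W.left) : _)
  let T := (ProEtS.bcP i).obj W
  haveI : IsAffineHom (pullback.fst W.hom i) := inferInstance
  haveI : IsAffine T.left := isAffine_of_isAffineHom (pullback.fst W.hom i)
  obtain ⟨n, V', g', hV', hs⟩ := exists_refine (isLift_cover i T)
  have hl : ∀ k, ∃ (V : X.ProEt) (g : V ⟶ W), IsLift i V ∧
      ∀ t, ∃ v, g.left v = pullback.fst W.hom i ((g' k).left t) := fun k => by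
    obtain ⟨T', a, b, ⟨V, hV, ⟨e⟩⟩, hab⟩ := (hV' k).2
    obtain ⟨g, hg⟩ := (hV.bijective W).2 (e.inv ≫ b)
    refine ⟨V, g, hV, fun t => ⟨pullback.fst V.hom i (e.hom.left (a.left t)), ?_⟩⟩
    have hb : e.hom ≫ (ProEtS.bcP i).map g = b := by
      rw [show (ProEtS.bcP i).map g = e.inv ≫ b from hg, Iso.hom_inv_id_assoc]
    rw [← hab, ← hb]
    refine Eq.trans ?_ ((Scheme.Hom.comp_apply
      ((a ≫ e.hom ≫ (ProEtS.bcP i).map g).left) (pullback.fst W.hom i) t))
    show _ = ((a.left ≫ e.hom.left ≫ ((ProEtS.bcP i).map g).left) ≫ pullback.fst W.hom i) t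
    rw [Category.assoc, Category.assoc, bcP_map_fst i g]
    simp only [Scheme.Hom.comp_apply]
    rfl
  choose V g hV hg using hl
  let Wu : W.left.Opens := W.hom ⁻¹ᵁ j.opensRange
  have hWu : IsCompact (Wu : Set W.left) := by
    haveI : QuasiCompact (pullback.fst W.hom j) := MorphismProperty.pullback_fst _ _ inferInstance
    haveI : CompactSpace ↥(pullback W.hom j) := QuasiCompact.compactSpace_of_compactSpace (pullback.fst W.hom j)
    rw [show (Wu : Set W.left) = Set.range (pullback.fst W.hom j) from (Scheme.Pullback.range_fst W.hom j).symm]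
    exact isCompact_range (pullback.fst W.hom j).continuous
  choose O hO hxO hOle using fun x : {x // x ∈ Wu} => exists_affine_nhd (W := Wu) x.2
  obtain ⟨s, hs'⟩ := hWu.elim_finite_subcover (fun x => (O x : Set W.left)) (fun x => (O x).2)
    fun x hx => Set.mem_iUnion.2 ⟨⟨x, hx⟩, hxO ⟨x, hx⟩⟩
  let P : ULift.{u} (Fin n) ⊕ {x // x ∈ s} → X.ProEt := Sum.elim (fun k => V k.down) fun x => opObj W (O x.1)
  let q : ∀ k, P k ⟶ W := fun k => match k with
    | Sum.inl k => g k.down
    | Sum.inr x => opIncl W (O x.1)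
  refine GrothendieckTopology.superset_covering _ ?_
    (Groth.Agent.S7284.covering_of_finite_affine (inferInstance : IsAffine W.left) (V := P) ?_ q ?_)
  · rw [Sieve.ofArrows, Sieve.generate_le_iff]
    rintro T' f ⟨k⟩
    rcases k with k | x
    · exact h1 _ _ (hV _)
    · refine h2 _ _ ?_
      rintro _ ⟨y, rfl⟩
      exact hOle x.1 y.2
  · rintro (k | x)
    · exact (hV k.down).isAffine
    · exact hO x.1
  · intro w
    by_cases hw : W.hom w ∈ Set.range i
    · obtain ⟨z, hz⟩ := hw
      obtain ⟨p, hp, -⟩ := Scheme.Pullback.exists_preimage_pullback (f := W.hom) (g := i) w z hz.symm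
      obtain ⟨k, t, rfl⟩ := hs p
      obtain ⟨v, hv⟩ := hg k t
      exact ⟨Sum.inl ⟨k⟩, v, hv.trans hp⟩
    · have hwU : w ∈ Wu := by
        show W.hom w ∈ Set.range j
        rw [hc]; exact hw
      obtain ⟨x, hx, hwx⟩ := Set.mem_iUnion₂.1 (hs' hwU)
      exact ⟨Sum.inr ⟨x, hx⟩, ⟨⟨w, hwx⟩, rfl⟩⟩

include hc in
/-- The same for arbitrary objects. -/
theorem mem_of_lifts {W : X.ProEt} (R : Sieve W)
    (h1 : ∀ (V : X.ProEt) (g : V ⟶ W), IsLift i V → R g)
    (h2 : ∀ (V : X.ProEt) (g : V ⟶ W), Set.range V.hom ⊆ Set.range j → R g) :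
    R ∈ Scheme.ProEt.topology X W := by
  choose O hO hxO _ using fun x : W.left => exists_affine_nhd (W := (⊤ : W.left.Opens)) (x := x) trivial
  refine (Scheme.ProEt.topology X).transitive
    (ofArrows_opens_mem O (Set.eq_univ_of_forall fun x => Set.mem_iUnion.2 ⟨x, hxO x⟩)) _ ?_
  rintro T f ⟨Y, a, b, ⟨x⟩, rfl⟩
  rw [Sieve.pullback_comp]
  refine GrothendieckTopology.pullback_stable _ a ?_
  haveI : IsAffine (opObj W (O x)).left := hO x
  exact mem_of_lifts_affine i j hc _ (fun V g hV => h1 _ _ hV) fun V g hV => h2 _ _ hV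

variable [ProEtS.PCont i] [ProEtS.JPCont j]

/-- The unit is bijective on lifts. -/
theorem bijective_unit_lift (F : ProEtS.AbP X) {V : X.ProEt} (hV : IsLift i V) :
    Function.Bijective (((ProEtS.pullPushAdjP i).unit.app F).hom.app (op V)) := by
  let JX := Scheme.ProEt.topology X
  let JZ := Scheme.ProEt.topology Z
  let adj' := Functor.sheafPullbackConstruction.sheafAdjunctionContinuous (ProEtS.bcP i) AddCommGrpCat.{u + 1} JX JZ
  let e := ((ProEtS.pullPushAdjP i).leftAdjointUniq adj').app F
  have h : (ProEtS.pullPushAdjP i).unit.app F ≫ (ProEtS.pushP i).map e.hom = adj'.unit.app F :=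
    Adjunction.unit_leftAdjointUniq_hom_app _ _ F
  have h' : (adj'.unit.app F).hom.app (op V) = ((ProEtS.bcP i).op.lanUnit.app F.obj).app (op V) ≫
      (toSheafify JZ ((ProEtS.bcP i).op.lan.obj F.obj)).app (op ((ProEtS.bcP i).obj V)) := by
    have h3 := congrArg (fun a => a.app (op V)) (Adjunction.map_restrictFullyFaithful_unit_app
      (adj := ((ProEtS.bcP i).op.lanAdjunction AddCommGrpCat.{u + 1}).comp
        (sheafificationAdjunction JZ AddCommGrpCat.{u + 1}))
      (fullyFaithfulSheafToPresheaf JX AddCommGrpCat.{u + 1})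
      (Functor.FullyFaithful.id (Sheaf JZ AddCommGrpCat.{u + 1})) (Iso.refl _) (Iso.refl _)
      (L := Functor.sheafPullbackConstruction.sheafPullback (ProEtS.bcP i) AddCommGrpCat.{u + 1} JX JZ)
      (R := ProEtS.pushP i) F)
    refine h3.trans ?_
    simp [Functor.lanAdjunction_unit]
  have hb : Function.Bijective ((adj'.unit.app F).hom.app (op V)) := by
    rw [h']
    haveI := isIso_lanUnit i F.obj V hV.bijective
    exact (bijective_toSheafify_lan i F hV).comp (ConcreteCategory.bijective_of_isIso _)
  rw [← h] at hb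
  have hiso : Function.Bijective (((ProEtS.pushP i).map e.hom).hom.app (op V)) :=
    ConcreteCategory.bijective_of_isIso
      (((sheafToPresheaf JZ AddCommGrpCat.{u + 1}).map e.hom).app (op ((ProEtS.bcP i).obj V)))
  exact (Function.Bijective.of_comp_iff' hiso _).1 hb

/-- An object over the open subscheme. -/
theorem exists_iso_compP {V : X.ProEt} (hV : Set.range V.hom ⊆ Set.range j) :
    ∃ T : U.ProEt, Nonempty (V ≅ (ProEtS.compP j).obj T) := by
  haveI : WeaklyEtale (IsOpenImmersion.lift j V.hom hV ≫ j) := by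
    rw [IsOpenImmersion.lift_fac]; exact V.prop
  haveI : WeaklyEtale (IsOpenImmersion.lift j V.hom hV) := WeaklyEtale.of_comp _ j
  exact ⟨Scheme.ProEt.mk (IsOpenImmersion.lift j V.hom hV),
    ⟨MorphismProperty.Over.isoMk (Iso.refl _) ((Category.id_comp _).trans (IsOpenImmersion.lift_fac _ _ _))⟩⟩

/-- The counit is bijective over the open subscheme. -/
theorem bijective_counit_open (F : ProEtS.AbP X) {V : X.ProEt} (hV : Set.range V.hom ⊆ Set.range j) :
    Function.Bijective (((ProEtS.extZeroPAdj j).counit.app F).hom.app (op V)) := by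
  obtain ⟨T, ⟨e⟩⟩ := exists_iso_compP j hV
  haveI : ProEtS.PCont j := Groth.Agent.ProEtSLib.pCont j
  haveI := (ProEtSLib.unit_counit_isIso j).1
  haveI : IsIso ((ProEtS.restrP j).map ((ProEtS.extZeroPAdj j).counit.app F)) :=
    IsIso.of_isIso_fac_left ((ProEtS.extZeroPAdj j).right_triangle_components F)
  have hb : Function.Bijective (((ProEtS.extZeroPAdj j).counit.app F).hom.app (op ((ProEtS.compP j).obj T))) :=
    ConcreteCategory.bijective_of_isIso
      (((sheafToPresheaf (Scheme.ProEt.topology U) AddCommGrpCat.{u + 1}).map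
        ((ProEtS.restrP j).map ((ProEtS.extZeroPAdj j).counit.app F))).app (op T))
  have h1 := ConcreteCategory.bijective_of_isIso (((ProEtS.extZeroP j).obj ((ProEtS.restrP j).obj F)).obj.map e.hom.op)
  have h2 := ConcreteCategory.bijective_of_isIso (F.obj.map e.hom.op)
  have key : ((ProEtS.extZeroPAdj j).counit.app F).hom.app (op V) ∘
      ((ProEtS.extZeroP j).obj ((ProEtS.restrP j).obj F)).obj.map e.hom.op =
      F.obj.map e.hom.op ∘ ((ProEtS.extZeroPAdj j).counit.app F).hom.app (op ((ProEtS.compP j).obj T)) :=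
    funext fun x => NatTrans.naturality_apply ((ProEtS.extZeroPAdj j).counit.app F).hom e.hom.op x
  exact (Function.Bijective.of_comp_iff _ h1).1 (key ▸ h2.comp hb)

include hc in
theorem subsingleton_push_open (B : ProEtS.AbP Z) {V : X.ProEt} (hV : Set.range V.hom ⊆ Set.range j) :
    Subsingleton (ProEtS.sectP ((ProEtS.pushP i).obj B) V) := by
  haveI : IsEmpty ((ProEtS.bcP i).obj V).left := ⟨fun p => by
    have h := hV ⟨pullback.fst V.hom i p, rfl⟩
    rw [hc] at h
    exact h ⟨pullback.snd V.hom i p, (Scheme.Hom.comp_apply _ _ _).symm.trans ((congrArg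
      (fun m : pullback V.hom i ⟶ X => m p) pullback.condition.symm).trans (Scheme.Hom.comp_apply _ _ _))⟩⟩
  exact ProEtWC.subsingleton_empty
    ((sheafCompose (Scheme.ProEt.topology Z) (forget AddCommGrpCat.{u + 1})).obj B) _

include hc in
theorem subsingleton_extZero_lift (G : ProEtS.AbP U) {V : X.ProEt} (hV : IsLift i V) :
    Subsingleton (ProEtS.sectP ((ProEtS.extZeroP j).obj G) V) := by
  haveI := hV.isAffine
  refine subsingleton_extZeroP j i ?_ V (IsLift.exists_specializes i hV) G
  rw [show Set.range j.base = (Set.range i)ᶜ from hc]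
  exact disjoint_compl_left

include hc in
theorem counit_unit (F : ProEtS.AbP X) :
    (ProEtS.extZeroPAdj j).counit.app F ≫ (ProEtS.pullPushAdjP i).unit.app F = 0 := by
  apply ((ProEtS.extZeroPAdj j).homEquiv _ _).injective
  refine ObjectProperty.hom_ext _ (NatTrans.ext (funext fun T => ?_))
  refine ConcreteCategory.hom_ext _ _ fun x => ?_
  haveI : Subsingleton (ProEtS.sectP ((ProEtS.pushP i).obj ((ProEtS.pullP i).obj F))
      ((ProEtS.compP j).obj T.unop)) := by
    refine subsingleton_push_open i j hc _ ?_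
    rintro _ ⟨y, rfl⟩
    exact ⟨T.unop.hom y, (Scheme.Hom.comp_apply _ _ _).symm⟩
  exact Subsingleton.elim (α := ProEtS.sectP ((ProEtS.pushP i).obj ((ProEtS.pullP i).obj F))
    ((ProEtS.compP j).obj T.unop)) _ _

include hc in
theorem shortExact (F : ProEtS.AbP X) :
    (ShortComplex.mk _ _ (counit_unit i j hc F)).ShortExact := by
  set ε := (ProEtS.extZeroPAdj j).counit.app F
  set η := (ProEtS.pullPushAdjP i).unit.app F
  haveI : Sheaf.IsLocallyInjective ε := ⟨fun {W} x y hxy => by
    refine mem_of_lifts i j hc _ (fun V g hV => ?_) fun V g hV => ?_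
    · haveI := subsingleton_extZero_lift i j hc ((ProEtS.restrP j).obj F) hV
      exact Subsingleton.elim (α := ProEtS.sectP ((ProEtS.extZeroP j).obj ((ProEtS.restrP j).obj F)) V) _ _
    · exact (bijective_counit_open j F hV).1 (by
        rw [NatTrans.naturality_apply, NatTrans.naturality_apply, hxy])⟩
  haveI : Mono ε := Sheaf.mono_of_isLocallyInjective ε
  haveI : Sheaf.IsLocallySurjective η := ⟨fun {W} t => by
    refine mem_of_lifts i j hc _ (fun V g hV => ?_) fun V g hV => ?_
    · exact (bijective_unit_lift i F hV).2 _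
    · haveI := subsingleton_push_open i j hc ((ProEtS.pullP i).obj F) hV
      exact ⟨0, Subsingleton.elim (α := ProEtS.sectP ((ProEtS.pushP i).obj ((ProEtS.pullP i).obj F)) V) _ _⟩⟩
  haveI : Epi η := Sheaf.epi_of_isLocallySurjective η
  refine { exact := ?_, mono_f := ‹Mono ε›, epi_g := ‹Epi η› }
  rw [ShortComplex.exact_iff_epi_kernel_lift]
  set l := kernel.lift η ε (counit_unit i j hc F)
  haveI : Sheaf.IsLocallySurjective l := ⟨fun {W} s => by
    have hinj : ∀ V, Function.Injective ((kernel.ι η).hom.app (op V)) := fun V => by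
      haveI : Mono ((sheafToPresheaf _ AddCommGrpCat.{u + 1}).map (kernel.ι η)) := inferInstance
      exact (AddCommGrpCat.mono_iff_injective _).1 ((NatTrans.mono_iff_mono_app _).1 this (op V))
    have hfac : ∀ V y, (kernel.ι η).hom.app (op V) (l.hom.app (op V) y) = ε.hom.app (op V) y := fun V y =>
      congr($(kernel.lift_ι η ε (counit_unit i j hc F)).hom.app (op V) y)
    refine mem_of_lifts i j hc _ (fun V g hV => ?_) fun V g hV => ?_
    · refine ⟨0, hinj V ?_⟩
      rw [map_zero, map_zero]
      apply (bijective_unit_lift i F hV).1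
      rw [map_zero]
      exact (congr($(kernel.condition η).hom.app (op V) _)).symm
    · obtain ⟨y, hy⟩ := (bijective_counit_open j F hV).2
        ((kernel.ι η).hom.app (op V) ((kernel η).obj.map g.op s))
      exact ⟨y, hinj V ((hfac V y).trans hy)⟩⟩
  exact Sheaf.epi_of_isLocallySurjective l

end Groth.Agent.ProEtFull.Rec
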