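import Groth.Agent.ProEtFull.AdicRecollement
import Groth.Agent.ProEtFull.Image
import Groth.Agent.ProEtFull.AdicExt
import Groth.Agent.EtConsLib.Induct
import Groth.Agent.EtJCont.Basic
import Groth.Agent.ProEtSLib.Cont

/-!
# A pro-étale sheaf which is classical on the strata of a finite constructible stratification is classical
-/

set_option autoImplicit false
set_option linter.style.haveILetI false
set_option linter.unusedSectionVars false
set_option backward.isDefEq.respectTransparency false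
set_option backward.isDefEq.respectTransparency.types false
set_option maxHeartbeats 1000000
universe u

noncomputable section

namespace Groth.Agent.ProEtFull

open CategoryTheory Limits AlgebraicGeometry Opposite

/-- Composition with a weakly étale map is continuous. -/
theorem jpCont {U X : Scheme.{u}} (j : U ⟶ X) [hj : WeaklyEtale j] : ProEtS.JPCont j := by
  refine Functor.isContinuous_of_coverPreserving ?_ ?_
  · constructor
    intro ℱ Z T x hx Y₁ Y₂ W f₁ f₂ g₁ g₂ hg₁ hg₂ he
    have hle : WeaklyEtale ((f₁.left ≫ Y₁.hom) ≫ j) := by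
      rw [Category.assoc]
      exact (MorphismProperty.Over.w f₁).symm ▸ W.prop
    haveI := hle
    haveI : WeaklyEtale (f₁.left ≫ Y₁.hom) := WeaklyEtale.of_comp _ j
    let W' : U.ProEt := Scheme.ProEt.mk (f₁.left ≫ Y₁.hom)
    let e : (ProEtS.compP j).obj W' ≅ W := MorphismProperty.Over.isoMk (Iso.refl W.left)
      ((Category.id_comp W.hom).trans ((MorphismProperty.Over.w f₁).symm.trans (Category.assoc _ _ _).symm))
    have he' : f₁.left ≫ g₁.left = f₂.left ≫ g₂.left := congrArg (fun q => q.left) he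
    let a₁ : W' ⟶ Y₁ := MorphismProperty.Over.homMk f₁.left rfl
    let a₂ : W' ⟶ Y₂ := MorphismProperty.Over.homMk f₂.left (by
      show f₂.left ≫ Y₂.hom = f₁.left ≫ Y₁.hom
      rw [← MorphismProperty.Over.w g₁, ← MorphismProperty.Over.w g₂, ← Category.assoc, ← Category.assoc]
      exact congrArg (· ≫ Z.hom) he'.symm)
    have h₁ : (ProEtS.compP j).map a₁ = e.hom ≫ f₁ := MorphismProperty.Over.Hom.ext (Category.id_comp _).symm
    have h₂ : (ProEtS.compP j).map a₂ = e.hom ≫ f₂ := MorphismProperty.Over.Hom.ext (Category.id_comp _).symm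
    have h := hx a₁ a₂ hg₁ hg₂ (MorphismProperty.Over.Hom.ext he')
    change ℱ.obj.map ((ProEtS.compP j).map a₁).op (x g₁ hg₁) =
      ℱ.obj.map ((ProEtS.compP j).map a₂).op (x g₂ hg₂) at h
    rw [h₁, h₂, op_comp, op_comp, Functor.map_comp_apply, Functor.map_comp_apply] at h
    exact (ℱ.obj.mapIso e.op).toEquiv.injective h
  · refine ⟨fun {V} R hR => ?_⟩
    rw [ProEtSLib.mem_topology_iff, GrothendieckTopology.mem_over_iff] at hR ⊢
    change Scheme.proetaleTopology _ ((R.functorPushforward (Scheme.ProEt.forget U)).functorPushforward (Over.forget U)) at hR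
    change Scheme.proetaleTopology _
      (((R.functorPushforward (ProEtS.compP j)).functorPushforward (Scheme.ProEt.forget X)).functorPushforward (Over.forget X))
    have e : ((R.functorPushforward (ProEtS.compP j)).functorPushforward (Scheme.ProEt.forget X)).functorPushforward
        (Over.forget X) = (R.functorPushforward (Scheme.ProEt.forget U)).functorPushforward (Over.forget U) := by
      simp only [← Sieve.functorPushforward_comp]
      rfl
    exact e ▸ hR

variable {Λ : Type (u + 1)} [CommRing Λ]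

section Ess

variable {X : Scheme.{u}} [ProEtS.EpsCont X]

/-- Objects of the essential image of `ε⁻¹`. -/
theorem isIso_counit_of_iso {F : EtModW.ModP Λ X} (E : EtModW.Mod Λ X)
    (e : (EtModW.epsPullMod Λ X).obj E ≅ F) : IsIso ((epsAdjMod X Λ).counit.app F) := by
  haveI := isIso_epsAdjMod_unit X Λ
  haveI : IsIso ((epsAdjMod X Λ).counit.app ((EtModW.epsPullMod Λ X).obj E)) :=
    haveI : IsIso (𝟙 ((EtModW.epsPullMod Λ X).obj E)) := IsIso.id _
    IsIso.of_isIso_fac_left (f := (EtModW.epsPullMod Λ X).map ((epsAdjMod X Λ).unit.app E))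
      ((epsAdjMod X Λ).left_triangle_components E)
  exact IsIso.of_isIso_fac_left ((epsAdjMod X Λ).counit.naturality e.hom)

/-- Extensions in the essential image. -/
theorem isIso_counit_middle (S : ShortComplex (EtModW.ModP Λ X)) (hS : S.ShortExact)
    (h₁ : ∃ E, Nonempty ((EtModW.epsPullMod Λ X).obj E ≅ S.X₁))
    (h₃ : ∃ E, Nonempty ((EtModW.epsPullMod Λ X).obj E ≅ S.X₃)) :
    IsIso ((epsAdjMod X Λ).counit.app S.X₂) := by
  haveI := preservesFiniteLimits_epsPullMod X Λ
  haveI := isIso_epsAdjMod_unit X Λ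
  haveI : ((ProEtS.eps X).sheafPushforwardContinuous (ModuleCat.{u + 1} Λ)
      X.smallEtaleTopology (Scheme.ProEt.topology X)).Additive := {}
  obtain ⟨A, hA⟩ := h₁
  obtain ⟨B, hB⟩ := h₃
  obtain ⟨E, -, ⟨e⟩⟩ := img_ext (epsAdjMod X Λ) (⊤ : ObjectProperty (EtModW.Mod Λ X)) (fun _ _ => trivial)
    (fun _ _ _ _ => trivial) (fun T hT A eA => epi_epsPushMod_map X Λ T hT A eA) S hS ⟨A, trivial, hA⟩ ⟨B, trivial, hB⟩
  exact isIso_counit_of_iso E e

end Ess

variable [∀ T : Scheme.{u}, ProEtS.EpsCont T]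

section Comp

variable {A B C : Scheme.{u}} (h : A ⟶ B) (g : B ⟶ C) [ProEtS.PCont h] [ProEtS.PCont g] [ProEtS.PCont (h ≫ g)]

/-- `(h ≫ g)^* ≅ g^* ⋙ h^*`. -/
def pullPCompIso : pullPMod g Λ ⋙ pullPMod h Λ ≅ pullPMod (h ≫ g) Λ :=
  haveI : (ProEtS.bcP g ⋙ ProEtS.bcP h).IsContinuous (Scheme.ProEt.topology C) (Scheme.ProEt.topology A) :=
    Functor.isContinuous_comp _ _ _ (Scheme.ProEt.topology B) _
  let e : ProEtS.bcP g ⋙ ProEtS.bcP h ≅ ProEtS.bcP (h ≫ g) :=
    (MorphismProperty.Over.pullbackComp (P := @WeaklyEtale) (Q := ⊤) h g).symm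
  (((ProEtS.bcP g).sheafAdjunctionContinuous (ModuleCat.{u + 1} Λ) (Scheme.ProEt.topology C)
    (Scheme.ProEt.topology B)).comp ((ProEtS.bcP h).sheafAdjunctionContinuous (ModuleCat.{u + 1} Λ)
    (Scheme.ProEt.topology B) (Scheme.ProEt.topology A))).leftAdjointUniq
    (((ProEtS.bcP (h ≫ g)).sheafAdjunctionContinuous (ModuleCat.{u + 1} Λ) (Scheme.ProEt.topology C)
      (Scheme.ProEt.topology A)).ofNatIsoRight
        (Functor.sheafPushforwardContinuousComp' e (ModuleCat.{u + 1} Λ) (Scheme.ProEt.topology C)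
          (Scheme.ProEt.topology B) (Scheme.ProEt.topology A)).symm)

end Comp

section Local

variable {X : Scheme.{u}}

/-- Being in the essential image is local for the Zariski topology. -/
theorem isIso_counit_of_opens (F : EtModW.ModP Λ X) [∀ (T : Scheme.{u}) (g : T ⟶ X), ProEtS.PCont g]
    (h : ∀ x : X, ∃ O : X.Opens, x ∈ O ∧ IsIso ((epsAdjMod O.toScheme Λ).counit.app ((pullPMod O.ι Λ).obj F))) :
    IsIso ((epsAdjMod X Λ).counit.app F) := by
  set μ := (epsAdjMod X Λ).counit.app F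
  have hb : ∀ (O : X.Opens), IsIso ((epsAdjMod O.toScheme Λ).counit.app ((pullPMod O.ι Λ).obj F)) →
      ∀ V : X.ProEt, Set.range V.hom ⊆ Set.range O.ι → Function.Bijective (μ.hom.app (op V)) := by
    intro O hO V hV
    haveI : Etale O.ι := inferInstance
    haveI : ProEtS.JPCont O.ι := jpCont O.ι
    haveI : EtShriek.JCont O.ι := Groth.Agent.EtJCont.jCont O.ι
    let r := restrPMod Λ O.ι
    let ρ := (EtShriek.compEtale O.ι).sheafPushforwardContinuous (ModuleCat.{u + 1} Λ)
      (O.toScheme).smallEtaleTopology X.smallEtaleTopology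
    let RX := (ProEtS.eps X).sheafPushforwardContinuous (ModuleCat.{u + 1} Λ) X.smallEtaleTopology
      (Scheme.ProEt.topology X)
    let RU := (ProEtS.eps O.toScheme).sheafPushforwardContinuous (ModuleCat.{u + 1} Λ)
      (O.toScheme).smallEtaleTopology (Scheme.ProEt.topology O.toScheme)
    let c : RX ⋙ ρ ≅ r ⋙ RU :=
      NatIso.ofComponents (fun G => (fullyFaithfulSheafToPresheaf _ _).preimageIso
        (Functor.isoWhiskerRight (NatIso.op (compEpsIso O.ι inferInstance)).symm G.obj))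
        (fun {G G'} φ => by
          ext W s
          exact (NatTrans.naturality_apply φ.hom _ s).symm)
    let aX := epsAdjMod X Λ
    let aU := epsAdjMod O.toScheme Λ
    let v := ρ.map (aX.unit.app (RX.obj F)) ≫ c.hom.app ((EtModW.epsPullMod Λ X).obj (RX.obj F))
    let w := (aU.homEquiv _ _).symm v
    have hv : v ≫ RU.map (r.map μ) = c.hom.app F := by
      have n := c.hom.naturality μ
      refine (Category.assoc _ _ _).trans ((congrArg (_ ≫ ·) n.symm).trans ?_)
      refine (Category.assoc _ _ _).symm.trans ?_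
      show (ρ.map (aX.unit.app (RX.obj F)) ≫ ρ.map (RX.map μ)) ≫ c.hom.app F = _
      rw [← Functor.map_comp]
      refine (congrArg (fun t => ρ.map t ≫ c.hom.app F) (aX.right_triangle_components F)).trans ?_
      exact (congrArg (· ≫ c.hom.app F) (ρ.map_id _)).trans (Category.id_comp _)
    haveI hrF : IsIso (aU.counit.app (r.obj F)) := by
      haveI := hO
      exact IsIso.of_isIso_fac_left (aU.counit.naturality ((pullRestrIso Λ O.ι).app F).hom)
    haveI : IsIso (aU.counit.app (r.obj ((EtModW.epsPullMod Λ X).obj (RX.obj F)))) :=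
      isIso_counit_of_iso _ (((pullEpsIso O.ι Λ).app (RX.obj F)).symm ≪≫ (pullRestrIso Λ O.ι).app _)
    haveI : IsIso (ρ.map (aX.unit.app (RX.obj F))) := by
      haveI := isIso_epsAdjMod_unit X Λ
      infer_instance
    haveI : IsIso v := inferInstance
    have hw : w ≫ r.map μ = (EtModW.epsPullMod Λ O.toScheme).map (c.hom.app F) ≫ aU.counit.app (r.obj F) := by
      show (aU.homEquiv _ _).symm v ≫ r.map μ = _
      rw [← Adjunction.homEquiv_naturality_right_symm, hv, Adjunction.homEquiv_counit]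
      rfl
    haveI : IsIso w := by
      show IsIso ((aU.homEquiv _ _).symm v)
      rw [Adjunction.homEquiv_counit]
      infer_instance
    haveI : IsIso (r.map μ) := IsIso.of_isIso_fac_left hw
    obtain ⟨T, ⟨e⟩⟩ : ∃ T : O.toScheme.ProEt, Nonempty (V ≅ (ProEtS.compP O.ι).obj T) := by
      haveI : WeaklyEtale (IsOpenImmersion.lift O.ι V.hom hV ≫ O.ι) := by
        rw [IsOpenImmersion.lift_fac]; exact V.prop
      haveI : WeaklyEtale (IsOpenImmersion.lift O.ι V.hom hV) := WeaklyEtale.of_comp _ O.ι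
      exact ⟨Scheme.ProEt.mk (IsOpenImmersion.lift O.ι V.hom hV),
        ⟨MorphismProperty.Over.isoMk (Iso.refl _) ((Category.id_comp _).trans (IsOpenImmersion.lift_fac _ _ _))⟩⟩
    have h0 : Function.Bijective (μ.hom.app (op ((ProEtS.compP O.ι).obj T))) :=
      ConcreteCategory.bijective_of_isIso
        (((sheafToPresheaf (Scheme.ProEt.topology O.toScheme) (ModuleCat.{u + 1} Λ)).map (r.map μ)).app (op T))
    have h1 := ConcreteCategory.bijective_of_isIso
      (((EtModW.epsPullMod Λ X).obj (RX.obj F)).obj.map e.hom.op)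
    have h2 := ConcreteCategory.bijective_of_isIso (F.obj.map e.hom.op)
    have key : μ.hom.app (op V) ∘ ((EtModW.epsPullMod Λ X).obj (RX.obj F)).obj.map e.hom.op =
        F.obj.map e.hom.op ∘ μ.hom.app (op ((ProEtS.compP O.ι).obj T)) :=
      funext fun x => NatTrans.naturality_apply μ.hom e.hom.op x
    exact (Function.Bijective.of_comp_iff _ h1).1 (key ▸ h2.comp h0)
  choose O hxO hO using h
  have hcov : ∀ W : X.ProEt, ∀ R : Sieve W,
      (∀ (x : W.left) (V : X.ProEt) (g : V ⟶ W), Set.range V.hom ⊆ Set.range (O (W.hom x)).ι → R g) →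
      R ∈ Scheme.ProEt.topology X W := by
    intro W R hR
    refine GrothendieckTopology.superset_covering _ ?_
      (ProEtWC.ofArrows_opens_mem (U := W) (fun x : W.left => W.hom ⁻¹ᵁ O (W.hom x))
        (Set.eq_univ_of_forall fun x => Set.mem_iUnion.2 ⟨x, hxO (W.hom x)⟩))
    rw [Sieve.ofArrows, Sieve.generate_le_iff]
    rintro T g ⟨x⟩
    refine hR x _ _ ?_
    rintro _ ⟨y, rfl⟩
    rw [Scheme.Opens.range_ι]
    exact y.2
  haveI : Sheaf.IsLocallySurjective μ := ⟨fun {W} y => by
    exact hcov W _ fun x V g hV => (hb _ (hO _) V hV).2 _⟩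
  haveI : Sheaf.IsLocallyInjective μ := ⟨fun {W} a b hab => by
    refine hcov W.unop _ fun x V g hV => (hb _ (hO _) V hV).1 ?_
    exact ((NatTrans.naturality_apply μ.hom g.op a).trans (congrArg _ hab)).trans
      (NatTrans.naturality_apply μ.hom g.op b).symm⟩
  exact (Sheaf.isLocallyBijective_iff_isIso μ).1 ⟨inferInstance, inferInstance⟩

end Local

section Devissage

variable {X : Scheme.{u}} [∀ {A B : Scheme.{u}} (g : A ⟶ B), ProEtS.PCont g]
  (F : EtModW.ModP Λ X)

/-- The restriction to an open is in the essential image. -/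
def Classical' (W : X.Opens) : Prop := IsIso ((epsAdjMod W.toScheme Λ).counit.app ((pullPMod W.ι Λ).obj F))

theorem exists_iso_of_classical {W : X.Opens} (h : Classical' F W) :
    ∃ E, Nonempty ((EtModW.epsPullMod Λ W.toScheme).obj E ≅ (pullPMod W.ι Λ).obj F) :=
  haveI : IsIso ((epsAdjMod W.toScheme Λ).counit.app ((pullPMod W.ι Λ).obj F)) := h
  ⟨_, ⟨asIso ((epsAdjMod W.toScheme Λ).counit.app ((pullPMod W.ι Λ).obj F))⟩⟩

/-- Pullback along equal maps. -/
def pullPEqIso {A B : Scheme.{u}} {f f' : A ⟶ B} (h : f = f') : pullPMod f Λ ≅ pullPMod f' Λ := by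
  subst h; exact Iso.refl _

/-- Classicality of a pullback passes to further pullbacks. -/
theorem exists_iso_pullP {A B : Scheme.{u}} (h : A ⟶ B) {G : EtModW.ModP Λ B} {E : EtModW.Mod Λ B}
    (e : (EtModW.epsPullMod Λ B).obj E ≅ G) :
    ∃ E', Nonempty ((EtModW.epsPullMod Λ A).obj E' ≅ (pullPMod h Λ).obj G) :=
  ⟨_, ⟨((pullEpsIso h Λ).app E).symm ≪≫ (pullPMod h Λ).mapIso e⟩⟩

variable [CompactSpace X] [QuasiSeparatedSpace X] {m : ℕ} (T : Fin m → Scheme.{u}) (g : ∀ a, T a ⟶ X)
  (hg : ∀ a, IsImmersion (g a))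
  (hE : ∀ a, ∃ E, Nonempty ((EtModW.epsPullMod Λ (T a)).obj E ≅ (pullPMod (g a) Λ).obj F))

include hg hE in
/-- One step: adding a piece lying in a single stratum. -/
theorem classical_step {W' W : X.Opens} (hle : W' ≤ W) (hW' : IsCompact (W' : Set X))
    (hW : IsCompact (W : Set X)) {a : Fin m} (hsub : (W : Set X) \ W' ⊆ Set.range (g a)) (h : Classical' F W') :
    Classical' F W := by
  haveI := hg a
  have hS : IsLocallyClosed ((W : Set X) \ W') := W.2.isLocallyClosed.inter W'.2.isClosed_compl.isLocallyClosed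
  obtain ⟨S', h', hh', hi', hr⟩ := Groth.Agent.FLCLib.exists_immersion_inter (g a) hS
  have hr' : Set.range (h' ≫ g a) = (W : Set X) \ W' := hr.trans (Set.inter_eq_right.2 hsub)
  have hrW : Set.range (h' ≫ g a) ⊆ Set.range W.ι := by
    rw [hr', Scheme.Opens.range_ι]; exact Set.diff_subset
  let i : S' ⟶ W.toScheme := IsOpenImmersion.lift W.ι (h' ≫ g a) hrW
  have hi : i ≫ W.ι = h' ≫ g a := IsOpenImmersion.lift_fac _ _ _
  haveI : IsImmersion (h' ≫ g a) := hi'
  haveI : IsImmersion (i ≫ W.ι) := by rw [hi]; infer_instance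
  haveI : IsImmersion i := IsImmersion.of_comp i W.ι
  have hri : Set.range i = (W.ι ⁻¹' (W' : Set X))ᶜ := by
    apply W.ι.isOpenEmbedding.injective.image_injective
    rw [← Set.range_comp, Set.compl_eq_univ_diff, Set.image_diff W.ι.isOpenEmbedding.injective,
      Set.image_univ, Scheme.Opens.range_ι, Set.image_preimage_eq_inter_range, Scheme.Opens.range_ι,
      show ⇑W.ι ∘ ⇑i = ⇑(h' ≫ g a) from funext fun x => (Scheme.Hom.comp_apply i W.ι x).symm.trans
        (congrArg (fun q : S' ⟶ X => q x) hi), hr']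
    exact (Set.sdiff_inter_self_eq_sdiff).symm
  haveI : IsClosedImmersion i := IsClosedImmersion.of_isPreimmersion i
    (hri ▸ (W'.2.preimage W.ι.continuous).isClosed_compl)
  haveI : CompactSpace W.toScheme := isCompact_iff_compactSpace.mp hW
  haveI : CompactSpace W'.toScheme := isCompact_iff_compactSpace.mp hW'
  haveI : QuasiSeparatedSpace W.toScheme := QuasiSeparatedSpace.of_isOpenEmbedding W.ι.isOpenEmbedding
  let j : W'.toScheme ⟶ W.toScheme := X.homOfLE hle
  haveI : QuasiCompact j := quasiCompact_of_compactSpace j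
  haveI : Etale j := inferInstance
  haveI : ProEtS.JPCont j := jpCont j
  haveI : EtShriek.JCont j := Groth.Agent.EtJCont.jCont j
  haveI : (MorphismProperty.Over.map (P := EtCoh.etaleMP.{u}) ⊤ (f := j) (inferInstance : Etale j)).IsContinuous
      W'.toScheme.smallEtaleTopology W.toScheme.smallEtaleTopology := Groth.Agent.EtJCont.jCont j
  have hc : Set.range j = (Set.range i)ᶜ := by
    rw [hri, compl_compl]
    apply W.ι.isOpenEmbedding.injective.image_injective
    rw [← Set.range_comp, Set.image_preimage_eq_inter_range, Scheme.Opens.range_ι,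
      show ⇑W.ι ∘ ⇑j = ⇑W'.ι from funext fun x => (Scheme.Hom.comp_apply j W.ι x).symm.trans
        (congrArg (fun q : W'.toScheme ⟶ X => q x) (Scheme.homOfLE_ι X hle)), Scheme.Opens.range_ι]
    exact (Set.inter_eq_left.2 hle).symm
  let G := (pullPMod W.ι Λ).obj F
  obtain ⟨w, hw⟩ := exists_recollement Λ i j hc G
  refine isIso_counit_middle _ hw ?_ ?_
  · obtain ⟨E, ⟨e⟩⟩ := exists_iso_of_classical F h
    refine ⟨_, ⟨((extEpsIso Λ j inferInstance).app E).symm ≪≫ (extPMod Λ j).mapIso (e ≪≫ ?_)⟩⟩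
    exact (pullPEqIso (Scheme.homOfLE_ι X hle).symm).app F ≪≫ ((pullPCompIso j W.ι).app F).symm ≪≫
      (pullRestrIso Λ j).app G
  · obtain ⟨E, ⟨e⟩⟩ := hE a
    obtain ⟨E', ⟨e'⟩⟩ := exists_iso_pullP h' e
    obtain ⟨eP⟩ := nonempty_eps_push Λ i E'
    refine ⟨_, ⟨eP ≪≫ (pushPMod Λ i).mapIso (e' ≪≫ ?_)⟩⟩
    exact (pullPCompIso h' (g a)).app F ≪≫ (pullPEqIso hi.symm).app F ≪≫ ((pullPCompIso i W.ι).app F).symm

include hg hE in
/-- Devissage along finitely many quasi-compact opens. -/
theorem classical_of_list (l : List X.Opens) : (∀ O ∈ l, IsCompact (O : Set X)) →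
    ∀ W' W : X.Opens, W' ≤ W → IsCompact (W' : Set X) → IsCompact (W : Set X) →
      (∀ x ∈ (W : Set X) \ W', ∃ a, ∀ y ∈ (W : Set X) \ W', (∀ O ∈ l, (x ∈ O ↔ y ∈ O)) → y ∈ Set.range (g a)) →
      Classical' F W' → Classical' F W := by
  induction l with
  | nil =>
    intro _ W' W hle hW' hW hx h
    by_cases hne : ((W : Set X) \ W').Nonempty
    · obtain ⟨x, hxm⟩ := hne
      obtain ⟨a, ha⟩ := hx x hxm
      exact classical_step F T g hg hE hle hW' hW (a := a) (fun y hy => ha y hy (by simp)) h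
    · obtain rfl : W' = W := le_antisymm hle fun y hy => by
        by_contra hy'
        exact hne ⟨y, hy, hy'⟩
      exact h
  | cons O l ih =>
    intro hl W' W hle hW' hW hx h
    have hO := hl O (by simp)
    have hl' : ∀ O' ∈ l, IsCompact (O' : Set X) := fun O' h => hl O' (by simp [h])
    let W'' : X.Opens := W' ⊔ W ⊓ O
    have hW'' : IsCompact (W'' : Set X) := by
      rw [TopologicalSpace.Opens.coe_sup, TopologicalSpace.Opens.coe_inf]
      exact hW'.union (QuasiSeparatedSpace.inter_isCompact _ _ W.2 hW O.2 hO)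
    refine ih hl' W'' W (sup_le hle inf_le_left) hW'' hW (fun x hxm => ?_)
      (ih hl' W' W'' le_sup_left hW' hW'' (fun x hxm => ?_) h)
    · have hxO : x ∉ O := fun hO' => hxm.2 (Or.inr ⟨hxm.1, hO'⟩)
      obtain ⟨a, ha⟩ := hx x ⟨hxm.1, fun h' => hxm.2 (Or.inl h')⟩
      refine ⟨a, fun y hy hiff => ha y ⟨hy.1, fun h' => hy.2 (Or.inl h')⟩ fun O' hO' => ?_⟩
      rcases List.mem_cons.1 hO' with rfl | hO'
      · exact iff_of_false hxO fun hyO => hy.2 (Or.inr ⟨hy.1, hyO⟩)
      · exact hiff O' hO'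
    · have hmem : ∀ y ∈ (W'' : Set X) \ W', y ∈ (W : Set X) ∧ y ∈ O := fun y hy =>
        hy.1.elim (fun h' => (hy.2 h').elim) id
      obtain ⟨a, ha⟩ := hx x ⟨(hmem x hxm).1, hxm.2⟩
      refine ⟨a, fun y hy hiff => ha y ⟨(hmem y hy).1, hy.2⟩ fun O' hO' => ?_⟩
      rcases List.mem_cons.1 hO' with rfl | hO'
      · exact iff_of_true (hmem x hxm).2 (hmem y hy).2
      · exact hiff O' hO'

include hg hE in
/-- A sheaf classical on constructible strata is classical. -/
theorem classical_top (hcon : ∀ a, Topology.IsConstructible (Set.range (g a)))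
    (hcov : (⋃ a, Set.range (g a)) = Set.univ) : Classical' F ⊤ := by
  classical
  have hQ : ∀ a, ∃ P Q : X.Opens, IsCompact (P : Set X) ∧ IsCompact (Q : Set X) ∧
      Set.range (g a) = (P : Set X) \ Q := fun a => by
    haveI := hg a
    obtain ⟨V, Z, hV, hZ, hVZ⟩ := (g a).isLocallyClosed_range
    have hTc : IsCompact (Set.range (g a)) := Groth.Agent.FLCLib.isCompact_of_isConstructible (hcon a)
    obtain ⟨P, hPc, hPo, hTP, hPV⟩ := PrespectralSpace.exists_isCompact_and_isOpen_between
      hTc hV (hVZ ▸ Set.inter_subset_left)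
    have hP : IsOpen P ∧ IsCompact P := ⟨hPo, hPc⟩
    have hopen : IsOpen (P \ Set.range (g a)) := by
      rw [hVZ, show P \ (V ∩ Z) = P \ Z from by
        ext y; exact ⟨fun ⟨h1, h2⟩ => ⟨h1, fun h3 => h2 ⟨hPV h1, h3⟩⟩, fun ⟨h1, h2⟩ => ⟨h1, fun h3 => h2 h3.2⟩⟩]
      exact hPo.sdiff hZ
    have hcQ : IsCompact (P \ Set.range (g a)) := by
      exact Groth.Agent.FLCLib.isCompact_of_isConstructible ((hPc.isConstructible hPo).sdiff (hcon a))
    exact ⟨⟨P, hP.1⟩, ⟨_, hopen⟩, hP.2, hcQ, by
      show Set.range (g a) = P \ (P \ Set.range (g a))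
      rw [Set.sdiff_sdiff_cancel_left hTP]⟩
  choose P Q hP hQc hPQ using hQ
  refine classical_of_list F T g hg hE ((List.ofFn P) ++ (List.ofFn Q)) (fun O hO => ?_) ⊥ ⊤ bot_le (by simp)
    (by simpa using isCompact_univ) (fun x _ => ?_) ?_
  · rcases List.mem_append.1 hO with h | h <;> obtain ⟨a, rfl⟩ := List.mem_ofFn.1 h
    · exact hP a
    · exact hQc a
  · obtain ⟨a, ha⟩ := Set.mem_iUnion.1 (hcov.symm ▸ Set.mem_univ x)
    refine ⟨a, fun y _ hiff => ?_⟩
    rw [hPQ] at ha ⊢
    exact ⟨(hiff _ (List.mem_append_left _ (List.mem_ofFn.2 ⟨a, rfl⟩))).1 ha.1,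
      fun hy => ha.2 ((hiff _ (List.mem_append_right _ (List.mem_ofFn.2 ⟨a, rfl⟩))).2 hy)⟩
  · haveI : IsEmpty (⊥ : X.Opens).toScheme := ⟨fun z => z.2⟩
    refine isIso_of_bijective_wc _ fun V _ => ?_
    haveI : IsEmpty V.left := ⟨fun z => ((V.hom z).2 : _)⟩
    have hsub : ∀ G : EtModW.ModP Λ (⊥ : X.Opens).toScheme, Subsingleton (G.obj.obj (op V)) := fun G =>
      ProEtWC.subsingleton_empty ((sheafCompose (Scheme.ProEt.topology _) (forget (ModuleCat.{u + 1} Λ))).obj G) V
    exact ⟨fun x y _ => (hsub _).elim x y, fun y => ⟨0, (hsub _).elim _ y⟩⟩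

end Devissage

end Groth.Agent.ProEtFull
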